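import Cfsg.Agent.Mrg.Omega.NO3b.Exit.BO
import Cfsg.Agent.Mrg.Omega.MinFF.LLemma
import Cfsg.Agent.Mrg.Omega.FF.TvBasic
import Mathlib
import Cfsg.Agent.Mrg.Omega.NO3b.Exit.TightDat

-- merged: Cfsg.Agent.Mrg.Omega.NO3b.TheoremL.Act
section

section


/-!
# THEOREM L (#18749, helper344), part 2: a TI group `A` acting quadratically

`TI A M`, `Y` faithful on the elementary abelian 2-group `U`, `A` quadratic, `Z = C_U(Y)`, `C = C_U(A)`, `O = O₂(Y)`,
`D = ⟨C^Y⟩`.  For `g ∉ M` : `C ∩ C^g = Z`, `D = C C^g`, `A ∩ M^g ≤ O`; `a ∈ A - O`, `v ∈ D`, `[v, a] ∈ Z` imply `v ∈ C`.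
`Sec P` : `Z ≤ P ≤ D` is `Y`-invariant.  `Sec.card` : `|P| |Z| = |P ∩ C|²`;
`Sec.index` : `P' < P` implies `|A : A ∩ O| ≤ |P ∩ C : P' ∩ C|`.
-/

set_option autoImplicit false
set_option linter.unusedSectionVars false

namespace Cfsg.Agent.Omega.NO3b.TheoremL.Act

open Cfsg.Agent.Omega.FF.Basic (fx mem_fx fx_anti card_sup_inf card_le eq_of_card_le card_fib EA)
open Cfsg.Agent.Omega.NO3b.Exit.TT (cf mem_cf nf mem_nf mem_smul smul_mem' nf_smul le_cf card_smul')
open Cfsg.Agent.Omega.MinFF (TI)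
open Cfsg (pCore)
open scoped Pointwise

section gen

variable {U : Type*} [AddCommGroup U] [Finite U]

/-- counting by fibres -/
theorem add_fib (f : U →+ U) {P K T Z : AddSubgroup U} (hZT : Z ≤ T) (hf : ∀ v ∈ P, f v ∈ T)
    (hK : ∀ v ∈ P, f v ∈ Z → v ∈ K) : Nat.card P * Nat.card Z ≤ Nat.card K * Nat.card T := by
  classical
  let φ : P →+ T ⧸ Z.addSubgroupOf T :=
    (QuotientAddGroup.mk' (Z.addSubgroupOf T)).comp
      { toFun := fun v : P => (⟨f (v : U), hf v v.2⟩ : T)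
        map_zero' := Subtype.ext (map_zero f)
        map_add' := fun v w => Subtype.ext (map_add f (v : U) w) }
  have h1 : Nat.card P = Nat.card φ.ker * Nat.card φ.range := by
    rw [← AddSubgroup.index_ker]
    exact φ.ker.card_mul_index.symm
  have h2 : Nat.card φ.range ≤ Nat.card (T ⧸ Z.addSubgroupOf T) :=
    Nat.card_le_card_of_injective (fun x => (x : T ⧸ Z.addSubgroupOf T)) Subtype.coe_injective
  have h3 : Nat.card (T ⧸ Z.addSubgroupOf T) * Nat.card Z = Nat.card T := by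
    have h4 := AddSubgroup.card_eq_card_quotient_mul_card_addSubgroup (Z.addSubgroupOf T)
    rw [h4, Nat.card_congr (AddSubgroup.addSubgroupOfEquivOfLe hZT).toEquiv]
  have h4 : Nat.card φ.ker ≤ Nat.card K := by
    refine Nat.card_le_card_of_injective (fun x : φ.ker => (⟨x.1.1, hK _ x.1.2 ?_⟩ : K)) ?_
    · have h5 : φ x.1 = 0 := x.2
      have h6 := (QuotientAddGroup.eq_zero_iff _).1 h5
      exact AddSubgroup.mem_addSubgroupOf.1 h6
    · intro x y hxy
      have h6 : ((x : P) : U) = ((y : P) : U) := congrArg (fun k : K => (k : U)) hxy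
      exact Subtype.ext (Subtype.ext h6)
  calc Nat.card P * Nat.card Z = Nat.card φ.ker * Nat.card φ.range * Nat.card Z := by rw [h1]
    _ ≤ Nat.card K * Nat.card (T ⧸ Z.addSubgroupOf T) * Nat.card Z :=
      Nat.mul_le_mul_right _ (Nat.mul_le_mul h4 h2)
    _ = Nat.card K * Nat.card T := by rw [mul_assoc, h3]

end gen

variable {Y : Type*} [Group Y] {U : Type*} [AddCommGroup U] [DistribMulAction Y U]

theorem two_smul_sub (two : ∀ u : U, u + u = 0) (u v : U) : u - v = u + v := by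
  rw [sub_eq_add_neg, neg_eq_of_add_eq_zero_left (two v)]

/-- `TI A M`, `A` quadratic -/
structure Q (U : Type*) [AddCommGroup U] [DistribMulAction Y U] (A M : Subgroup Y) : Prop where
  two : ∀ u : U, u + u = 0
  faith : ∀ y : Y, (∀ u : U, y • u = u) → y = 1
  ti : TI A M
  quad : ∀ a ∈ A, ∀ b ∈ A, ∀ u : U, b • (a • u - u) = a • u - u

/-- `⟨C_U(A)^Y⟩` -/
def D (U : Type*) [AddCommGroup U] [DistribMulAction Y U] (A : Subgroup Y) : AddSubgroup U := ⨆ k : Y, k • fx U A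

namespace Q

variable {A M : Subgroup Y} (h : Q U A M)
include h

theorem inf_le {g : Y} (hg : g ∉ M) {v : U} (hv : v ∈ fx U A) (hv' : g⁻¹ • v ∈ fx U A) : v ∈ fx U (⊤ : Subgroup Y) := by
  have h1 : A ⊔ MulAut.conj g • A ≤ MulAction.stabilizer Y v := by
    refine sup_le (fun a ha => hv a ha) fun a ha => ?_
    have h2 := hv' _ (MinFF.mem_cj.1 ha)
    rw [MulAction.mem_stabilizer_iff]
    have e : a • v = g • (g⁻¹ * a * g) • g⁻¹ • v := by
      rw [smul_smul, smul_smul]; congr 1; group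
    rw [e, h2, smul_inv_smul]
  rw [h.ti.sup_eq_top hg] at h1
  intro y _
  exact h1 (Subgroup.mem_top y)

theorem inf_le' {g : Y} (hg : g ∉ M) : fx U A ⊓ g • fx U A ≤ fx U (⊤ : Subgroup Y) :=
  fun _ hv => h.inf_le hg hv.1 (mem_smul.1 hv.2)

omit h in
theorem Z_le (B : Subgroup Y) : fx U (⊤ : Subgroup Y) ≤ fx U B := fx_anti le_top

omit h in
theorem Z_smul {z : U} (hz : z ∈ fx U (⊤ : Subgroup Y)) (y : Y) : y • z = z := hz y (Subgroup.mem_top y)

/-- `A` is quadratic in the multiplicative notation -/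
theorem quad' : ∀ a ∈ A, ∀ b ∈ A, ∀ u : U, b • (a • u + u) = a • u + u := by
  intro a ha b hb u
  have := h.quad a ha b hb u
  rwa [two_smul_sub h.two] at this

theorem comm_mem {g : Y} (hg : g ∉ M) (y : Y) (v : U) : y • v - v ∈ fx U A ⊔ g • fx U A := by
  let K : Subgroup Y :=
    { carrier := {y | ∀ v : U, y • v - v ∈ fx U A ⊔ g • fx U A}
      mul_mem' := by
        intro x y hx hy v
        have e : (x * y) • v - v = (x • (y • v) - y • v) + (y • v - v) := by rw [mul_smul]; abel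
        rw [e]; exact add_mem (hx _) (hy _)
      one_mem' := by
        intro v
        rw [one_smul, sub_self]; exact zero_mem _
      inv_mem' := by
        intro x hx v
        have e : x⁻¹ • v - v = -(x • (x⁻¹ • v) - x⁻¹ • v) := by rw [smul_inv_smul]; abel
        rw [e]; exact neg_mem (hx _) }
  have h1 : A ≤ K := fun a ha v => AddSubgroup.mem_sup_left (fun b hb => h.quad a ha b hb v)
  have h2 : MulAut.conj g • A ≤ K := by
    intro a ha v
    apply AddSubgroup.mem_sup_right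
    rw [mem_smul]
    have h3 : g⁻¹ * a * g ∈ A := MinFF.mem_cj.1 ha
    have e : g⁻¹ • (a • v - v) = (g⁻¹ * a * g) • (g⁻¹ • v) - g⁻¹ • v := by
      rw [smul_sub, smul_smul, smul_smul, mul_assoc, mul_inv_cancel, mul_one]
    rw [e]
    exact fun b hb => h.quad _ h3 b hb _
  have h3 := sup_le h1 h2
  rw [h.ti.sup_eq_top hg] at h3
  exact h3 (Subgroup.mem_top y) v

theorem D_eq {g : Y} (hg : g ∉ M) : D U A = fx U A ⊔ g • fx U A := by
  apply le_antisymm
  · refine iSup_le fun k => ?_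
    intro v hv
    rw [mem_smul] at hv
    have e : v = (k • (k⁻¹ • v) - k⁻¹ • v) + k⁻¹ • v := by rw [smul_inv_smul]; abel
    rw [e]
    exact add_mem (h.comm_mem hg _ _) (AddSubgroup.mem_sup_left hv)
  · refine sup_le ?_ (le_iSup (fun k : Y => k • fx U A) g)
    have := le_iSup (fun k : Y => k • fx U A) (1 : Y)
    rwa [one_smul] at this

omit h in
theorem C_le_D : fx U A ≤ D U A := by
  have := le_iSup (fun k : Y => k • fx U A) (1 : Y)
  rwa [one_smul] at this

omit h in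
theorem smul_C_le_D (g : Y) : g • fx U A ≤ D U A := le_iSup (fun k : Y => k • fx U A) g

theorem comm_D (y : Y) (v : U) : y • v - v ∈ D U A := by
  obtain ⟨g, hg⟩ := h.ti.exists_not_mem
  rw [h.D_eq hg]; exact h.comm_mem hg y v

/-- (2) of the `L`-lemma -/
theorem mem_of_comm {g b : Y} {v : U} (hv : g⁻¹ • v ∈ fx U A) (hvZ : v ∉ fx U (⊤ : Subgroup Y))
    (hb : b • v - v ∈ fx U (⊤ : Subgroup Y)) : b ∈ MulAut.conj g • M := by
  let _ : MulDistribMulAction Y (Multiplicative U) := FF.SpreadEnd.mulAct Y U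
  refine h.ti.mem_of_d_mem (V := Multiplicative U) (fun v => h.two v.toAdd) (v := Multiplicative.ofAdd v)
    (MinFF.mem_cv_cj.2 fun a ha => hv a ha) (fun hcon => hvZ fun y _ => hcon y trivial) ?_
  intro y _
  show y • (b • v + v) = b • v + v
  rw [← two_smul_sub h.two]
  exact hb y (Subgroup.mem_top y)

variable [Finite Y]

theorem core_le : pCore 2 Y ≤ M := by
  have hO : (pCore 2 Y).Normal := Lib.Cores.pCore_normal 2
  obtain ⟨S, hS⟩ := (Lib.Cores.pCore_isPGroup (G := Y) 2).exists_le_sylow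
  have hA : ∃ S : Sylow 2 Y, A ≤ S := by
    have hA2 : IsPGroup 2 A := by
      intro a
      refine ⟨1, Subtype.ext ?_⟩
      have h1 : (a : Y) * a = 1 := by
        apply h.faith
        intro u
        have h2 := h.quad a a.2 a a.2 u
        have e : ((a : Y) * a) • u = (a : Y) • ((a : Y) • u - u) + (a : Y) • u := by
          rw [mul_smul, smul_sub]; abel
        rw [e, h2]
        have e2 : (a : Y) • u - u + (a : Y) • u = ((a : Y) • u + (a : Y) • u) - u := by abel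
        rw [e2, h.two, zero_sub]
        exact neg_eq_of_add_eq_zero_left (h.two u)
      simpa [pow_two] using h1
    exact hA2.exists_le_sylow
  obtain ⟨S, hS⟩ := hA
  exact (Lib.Cores.pCore_le_sylow S).trans (h.ti.sylow_le hS)

theorem isPGroup_A : IsPGroup 2 A := by
  intro a
  refine ⟨1, Subtype.ext ?_⟩
  have h1 : (a : Y) * a = 1 := by
    apply h.faith
    intro u
    have h2 := h.quad a a.2 a a.2 u
    have e : ((a : Y) * a) • u = (a : Y) • ((a : Y) • u - u) + (a : Y) • u := by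
      rw [mul_smul, smul_sub]; abel
    rw [e, h2]
    have e2 : (a : Y) • u - u + (a : Y) • u = ((a : Y) • u + (a : Y) • u) - u := by abel
    rw [e2, h.two, zero_sub]
    exact neg_eq_of_add_eq_zero_left (h.two u)
  simpa [pow_two] using h1

/-- `a ∈ A - O`, `v ∈ D`, `[v, a] ∈ Z` imply `v ∈ C` -/
theorem mem_C {a : Y} (ha : a ∈ A) (haO : a ∉ pCore 2 Y) {v : U} (hv : v ∈ D U A)
    (hd : a • v - v ∈ fx U (⊤ : Subgroup Y)) : v ∈ fx U A := by
  obtain ⟨g, hg, hga⟩ := h.ti.exists_good h.isPGroup_A ha haO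
  rw [h.D_eq hg] at hv
  obtain ⟨v₁, h₁, v₂, h₂, rfl⟩ := AddSubgroup.mem_sup.1 hv
  rw [mem_smul] at h₂
  have e : a • (v₁ + v₂) - (v₁ + v₂) = a • v₂ - v₂ := by
    rw [smul_add, h₁ a ha]; abel
  rw [e] at hd
  have h3 : v₂ ∈ fx U (⊤ : Subgroup Y) := by
    by_contra hne
    exact hga (h.mem_of_comm h₂ hne hd)
  exact add_mem h₁ (Z_le A h3)

variable [Finite U]

theorem inf_core {g : Y} (hg : g ∉ M) : A ⊓ MulAut.conj g • M ≤ pCore 2 Y := by
  let _ : MulDistribMulAction Y (Multiplicative U) := FF.SpreadEnd.mulAct Y U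
  have hfin : Finite (Multiplicative U) := inferInstanceAs (Finite U)
  exact h.ti.inf_le_pCore (V := Multiplicative U) (fun v => h.two v.toAdd)
    (fun x hx => h.faith x fun u => congrArg Multiplicative.toAdd (hx (Multiplicative.ofAdd u)))
    (fun a ha b hb v => congrArg Multiplicative.ofAdd (h.quad' a ha b hb v.toAdd)) hg

end Q

/-- `Z ≤ P ≤ D` is `Y`-invariant -/
structure Sec (U : Type*) [AddCommGroup U] [DistribMulAction Y U] (A : Subgroup Y) (P : AddSubgroup U) : Prop where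
  Z_le : fx U (⊤ : Subgroup Y) ≤ P
  le_D : P ≤ D U A
  inv : ∀ (y : Y), ∀ v ∈ P, y • v ∈ P

namespace Sec

variable {A M : Subgroup Y} {P P' : AddSubgroup U} [Finite Y] [Finite U] (h : Q U A M) (s : Sec U A P)
include h s

omit [Finite Y] in
theorem smul_inf_le {g : Y} : g • (P ⊓ fx U A) ≤ P := by
  intro v hv
  rw [mem_smul] at hv
  have := s.inv g _ hv.1
  rwa [smul_inv_smul] at this

omit [Finite Y] in
theorem inf_smul {g : Y} (hg : g ∉ M) : (P ⊓ fx U A) ⊓ g • (P ⊓ fx U A) = fx U (⊤ : Subgroup Y) := by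
  apply le_antisymm
  · intro v hv
    exact h.inf_le hg hv.1.2 (mem_smul.1 hv.2).2
  · intro v hv
    have h1 : v ∈ P ⊓ fx U A := ⟨s.Z_le hv, Q.Z_le A hv⟩
    refine AddSubgroup.mem_inf.2 ⟨h1, mem_smul.2 ?_⟩
    rw [Q.Z_smul hv]
    exact h1

theorem card_le : Nat.card P * Nat.card (fx U (⊤ : Subgroup Y)) ≤ Nat.card ↥(P ⊓ fx U A) * Nat.card ↥(P ⊓ fx U A) := by
  obtain ⟨a, ha, haO⟩ := SetLike.not_le_iff_exists.1 h.ti.not_le_pCore
  let f : U →+ U :=
    { toFun := fun v => a • v - v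
      map_zero' := by rw [smul_zero, sub_zero]
      map_add' := fun v w => by rw [smul_add]; abel }
  refine add_fib f (P := P) (K := P ⊓ fx U A) (T := P ⊓ fx U A) (le_inf s.Z_le (Q.Z_le A)) ?_ ?_
  · intro v hv
    exact AddSubgroup.mem_inf.2 ⟨sub_mem (s.inv a v hv) hv, fun b hb => h.quad a ha b hb v⟩
  · intro v hv hz
    exact ⟨hv, h.mem_C ha haO (s.le_D hv) hz⟩

theorem card : Nat.card P * Nat.card (fx U (⊤ : Subgroup Y)) = Nat.card ↥(P ⊓ fx U A) * Nat.card ↥(P ⊓ fx U A) := by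
  apply le_antisymm (s.card_le h)
  obtain ⟨g, hg⟩ := h.ti.exists_not_mem
  have h1 := card_sup_inf (P ⊓ fx U A) (g • (P ⊓ fx U A))
  rw [s.inf_smul h hg, card_smul'] at h1
  rw [← h1]
  exact Nat.mul_le_mul_right _ (FF.Basic.card_le (sup_le inf_le_left (s.smul_inf_le h)))

theorem sup_eq {g : Y} (hg : g ∉ M) : (P ⊓ fx U A) ⊔ g • (P ⊓ fx U A) = P := by
  refine eq_of_card_le (sup_le inf_le_left (s.smul_inf_le h)) ?_
  have h1 := card_sup_inf (P ⊓ fx U A) (g • (P ⊓ fx U A))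
  rw [s.inf_smul h hg, card_smul'] at h1
  refine Nat.le_of_mul_le_mul_right ?_ (Nat.card_pos (α := fx U (⊤ : Subgroup Y)))
  rw [h1]; exact s.card_le h

/-- `[P ∩ C^g, a] Z = P ∩ C` for `a ∈ A - O` -/
theorem surj {g : Y} (hg : g ∉ M) {a : Y} (ha : a ∈ A) (haO : a ∉ pCore 2 Y) {c : U} (hc : c ∈ P ⊓ fx U A) :
    ∃ v ∈ P, g⁻¹ • v ∈ fx U A ∧ (a • v - v) - c ∈ fx U (⊤ : Subgroup Y) := by
  let H : AddSubgroup U :=
    { carrier := {c | c ∈ P ⊓ fx U A ∧ ∃ v ∈ P, g⁻¹ • v ∈ fx U A ∧ (a • v - v) - c ∈ fx U (⊤ : Subgroup Y)}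
      zero_mem' := ⟨zero_mem _, 0, zero_mem _, by rw [smul_zero]; exact zero_mem _, by
        rw [smul_zero, sub_zero, sub_zero]; exact zero_mem _⟩
      add_mem' := by
        rintro c c' ⟨hc, v, hv, hvg, h1⟩ ⟨hc', v', hv', hvg', h1'⟩
        refine ⟨add_mem hc hc', v + v', add_mem hv hv', by rw [smul_add]; exact add_mem hvg hvg', ?_⟩
        have e : (a • (v + v') - (v + v')) - (c + c') = ((a • v - v) - c) + ((a • v' - v') - c') := by
          rw [smul_add]; abel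
        rw [e]; exact add_mem h1 h1'
      neg_mem' := by
        rintro c ⟨hc, v, hv, hvg, h1⟩
        refine ⟨neg_mem hc, -v, neg_mem hv, by rw [smul_neg]; exact neg_mem hvg, ?_⟩
        have e : (a • (-v) - (-v)) - (-c) = -((a • v - v) - c) := by rw [smul_neg]; abel
        rw [e]; exact neg_mem h1 }
  let f : U →+ U :=
    { toFun := fun v => a • v - v
      map_zero' := by rw [smul_zero, sub_zero]
      map_add' := fun v w => by rw [smul_add]; abel }
  have h1 := add_fib f (P := g • (P ⊓ fx U A)) (K := fx U (⊤ : Subgroup Y)) (T := H) (Z := fx U (⊤ : Subgroup Y))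
    (by
      intro z hz
      refine ⟨⟨s.Z_le hz, Q.Z_le A hz⟩, 0, zero_mem _, by rw [smul_zero]; exact zero_mem _, ?_⟩
      rw [smul_zero, sub_zero, zero_sub]; exact neg_mem hz)
    (by
      intro v hv
      have hvP := s.smul_inf_le h hv
      refine ⟨AddSubgroup.mem_inf.2 ⟨sub_mem (s.inv a v hvP) hvP, fun b hb => h.quad a ha b hb v⟩, v, hvP,
        (mem_smul.1 hv).2, ?_⟩
      show (a • v - v) - (a • v - v) ∈ _
      rw [sub_self]; exact zero_mem _)
    (by
      intro v hv hz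
      have hvP := s.smul_inf_le h hv
      exact h.inf_le hg (h.mem_C ha haO (s.le_D hvP) hz) (mem_smul.1 hv).2)
  rw [card_smul', mul_comm] at h1
  have h2 := Nat.le_of_mul_le_mul_left h1 Nat.card_pos
  have h3 : H = P ⊓ fx U A := eq_of_card_le (fun c hc => hc.1) h2
  rw [← h3] at hc
  exact hc.2

/-- `|A : A ∩ O| ≤ |P ∩ C : P' ∩ C|` -/
theorem fib (s' : Sec U A P') {g : Y} (hg : g ∉ M) {v : U} (hv : v ∈ P) (hvg : g⁻¹ • v ∈ fx U A)
    (hv' : v ∉ P') {H : AddSubgroup U} (hH : P' ⊓ fx U A ≤ H) (hf : ∀ a ∈ A, a • v - v ∈ H) :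
    Nat.card A * Nat.card ↥(P' ⊓ fx U A) ≤ Nat.card ↥(A ⊓ pCore 2 Y) * Nat.card H := by
  refine card_fib hH (fun a => a • v - v) hf ?_
  intro a ha b hb hab
  have hab' : (a • v - v) - (b • v - v) ∈ P' ⊓ fx U A := hab
  have ht : b⁻¹ * a ∈ A := A.mul_mem (A.inv_mem hb) ha
  refine ⟨ht, ?_⟩
  by_contra hO
  have e1 : (a • v - v) - (b • v - v) = a • v - b • v := by abel
  rw [e1] at hab'
  have h1 : (b⁻¹ * a) • v - v = a • v - b • v := by
    have h2 := hab'.2 _ (A.inv_mem hb)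
    rw [smul_sub, inv_smul_smul, smul_smul] at h2
    exact h2
  rw [← h1] at hab'
  obtain ⟨v', hv'P, hv'g, h3⟩ := s'.surj h hg ht hO hab'
  have h4 : (b⁻¹ * a) • (v' - v) - (v' - v) ∈ fx U (⊤ : Subgroup Y) := by
    have e : (b⁻¹ * a) • (v' - v) - (v' - v) = ((b⁻¹ * a) • v' - v') - ((b⁻¹ * a) • v - v) := by
      rw [smul_sub]; abel
    rw [e]; exact h3
  have h5 : v' - v ∈ fx U A := h.mem_C ht hO (sub_mem (s'.le_D hv'P) (s.le_D hv)) h4
  have h6 : v' - v ∈ fx U (⊤ : Subgroup Y) := h.inf_le hg h5 (by rw [smul_sub]; exact sub_mem hv'g hvg)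
  apply hv'
  have e : v = v' - (v' - v) := by abel
  rw [e]; exact sub_mem hv'P (s'.Z_le h6)

omit [Finite Y] in
theorem exists_smul (s' : Sec U A P') (hlt : P' < P) {g : Y} (hP : (P ⊓ fx U A) ⊔ g • (P ⊓ fx U A) = P) :
    ∃ v ∈ P, g⁻¹ • v ∈ fx U A ∧ v ∉ P' := by
  by_contra hcon
  push Not at hcon
  apply hlt.not_ge
  rw [← hP]
  have h1 : g • (P ⊓ fx U A) ≤ P' := fun v hv => hcon v (s.smul_inf_le h hv) (mem_smul.1 hv).2
  refine sup_le ?_ h1
  intro v hv
  have h2 := h1 (smul_mem' (x := g) hv)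
  have h3 := s'.inv g⁻¹ _ h2
  rwa [inv_smul_smul] at h3

theorem index (s' : Sec U A P') (hlt : P' < P) :
    Nat.card A * Nat.card ↥(P' ⊓ fx U A) ≤ Nat.card ↥(A ⊓ pCore 2 Y) * Nat.card ↥(P ⊓ fx U A) := by
  obtain ⟨g, hg⟩ := h.ti.exists_not_mem
  obtain ⟨v, hv, hvg, hv'⟩ := s.exists_smul h s' hlt (s.sup_eq h hg)
  refine s.fib h s' hg hv hvg hv' (inf_le_inf_right _ hlt.le) ?_
  intro a ha
  exact AddSubgroup.mem_inf.2 ⟨sub_mem (s.inv a v hv) hv, fun b hb => h.quad a ha b hb v⟩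

end Sec

end Cfsg.Agent.Omega.NO3b.TheoremL.Act

end

section


/-!
# THEOREM L (#18749, helper344), (4): the ring trick

`b : W × Θ → Z` a biadditive pairing of finite elementary abelian 2-groups, nondegenerate on both sides, such that
`2 |E| |ann E| ≤ |W|` for `0 ≠ E ≤ Θ`.  Then `|P / P'| |Θ| ≤ |W|` for every chief factor `P / P'` of `W` under the ring
of adjoint pairs of `b`.

Proof: `R` the ring of adjoint pairs, `e` a primitive idempotent of `R`, `G e` the group of units of `eRe`.  The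
elements of `eRe` are nilpotent or units, so `G e` acts on `eM - 0` with stabilizers which are 2-groups, for every
finite `R`-module `M`, and transitively on `eN - 0` for a simple `N`.  Hence with `l` = odd part of `|G e|`:
`l ∣ |eM| - 1`, `|eN| ≤ l + 1`; so `|eW| > |Θe|` implies `|eW| ≥ |Θe| |eN|`.
-/

set_option autoImplicit false

namespace Cfsg.Agent.Omega.NO3b.TheoremL.Ring

open MulOpposite

section ring

variable {R : Type*} [Ring R]

theorem exists_idem [Finite R] (x : R) : ∃ n, 0 < n ∧ x ^ n * x ^ n = x ^ n := by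
  obtain ⟨i, j, hne, hij⟩ := Finite.exists_ne_map_eq_of_infinite (fun n : ℕ => x ^ n)
  wlog hlt : i < j generalizing i j
  · exact this j i hne.symm hij.symm (lt_of_le_of_ne (not_lt.1 hlt) hne.symm)
  obtain ⟨p, rfl⟩ := Nat.exists_eq_add_of_lt hlt
  have hij' : x ^ i = x ^ (i + p + 1) := hij
  have h1 : ∀ n, i ≤ n → x ^ (n + (p + 1)) = x ^ n := by
    intro n hn
    obtain ⟨m, rfl⟩ := Nat.exists_eq_add_of_le hn
    have e1 : i + m + (p + 1) = (i + p + 1) + m := by ring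
    rw [e1, pow_add, ← hij', ← pow_add]
  have h2 : ∀ k n, i ≤ n → x ^ (n + k * (p + 1)) = x ^ n := by
    intro k
    induction k with
    | zero => intro n _; rw [zero_mul, add_zero]
    | succ k ih =>
      intro n hn
      have e1 : n + (k + 1) * (p + 1) = (n + k * (p + 1)) + (p + 1) := by ring
      rw [e1, h1 _ (by omega), ih n hn]
  refine ⟨(i + 1) * (p + 1), by positivity, ?_⟩
  rw [← pow_add]
  exact h2 (i + 1) _ (by nlinarith)

theorem one_add_pow (h : ∀ x : R, x + x = 0) (x : R) (k : ℕ) : (1 + x) ^ (2 ^ k) = 1 + x ^ (2 ^ k) := by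
  induction k with
  | zero => rw [pow_zero, pow_one, pow_one]
  | succ k ih =>
    rw [pow_succ, pow_mul, ih, pow_mul]
    have e : (1 + x ^ 2 ^ k) ^ 2 = 1 + (x ^ 2 ^ k + x ^ 2 ^ k) + (x ^ 2 ^ k) ^ 2 := by noncomm_ring
    rw [e, h, add_zero]

/-- `e` has no proper idempotent below it -/
def Pr (e : R) : Prop := ∀ f : R, f * f = f → e * f = f → f * e = f → f = 0 ∨ f = e

/-- the units of `eRe`, as units `u` of `R` with `u - 1 ∈ eRe` -/
def G (e : R) : Subgroup Rˣ where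
  carrier := {u | e * ((u : R) - 1) = (u : R) - 1 ∧ ((u : R) - 1) * e = (u : R) - 1}
  one_mem' := by simp
  mul_mem' := by
    rintro a b ⟨h1, h2⟩ ⟨h3, h4⟩
    have e1 : ((a * b : Rˣ) : R) - 1 = ((a : R) - 1) * ((b : R) - 1) + ((a : R) - 1) + ((b : R) - 1) := by
      push_cast; noncomm_ring
    constructor
    · rw [e1, mul_add, mul_add, ← mul_assoc, h1, h3]
    · rw [e1, add_mul, add_mul, mul_assoc, h2, h4]
  inv_mem' := by
    rintro a ⟨h1, h2⟩
    have e1 : ((a⁻¹ : Rˣ) : R) - 1 = -(((a : R) - 1) * ((a⁻¹ : Rˣ) : R)) := by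
      rw [sub_mul, one_mul, Units.mul_inv]; abel
    have e2 : ((a⁻¹ : Rˣ) : R) - 1 = -(((a⁻¹ : Rˣ) : R) * ((a : R) - 1)) := by
      rw [mul_sub, mul_one, Units.inv_mul]; abel
    constructor
    · rw [e1, mul_neg, ← mul_assoc, h1]
    · rw [e2, neg_mul, mul_assoc, h2]

theorem mem_G {e : R} {u : Rˣ} : u ∈ G e ↔ e * ((u : R) - 1) = (u : R) - 1 ∧ ((u : R) - 1) * e = (u : R) - 1 := Iff.rfl

/-- an element of `eRe` is nilpotent or a unit of `eRe` -/
theorem nil_or_unit [Finite R] {e : R} (he : Pr e) {x : R} (h1 : e * x = x) (h2 : x * e = x) :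
    (∃ n, x ^ n = 0) ∨ ∃ y : R, e * y = y ∧ y * e = y ∧ x * y = e ∧ y * x = e := by
  obtain ⟨n, hn, hidem⟩ := exists_idem x
  obtain ⟨m, rfl⟩ := Nat.exists_eq_add_of_lt hn
  rw [zero_add] at hidem hn
  have h3 : e * x ^ (m + 1) = x ^ (m + 1) := by rw [pow_succ', ← mul_assoc, h1]
  have h4 : x ^ (m + 1) * e = x ^ (m + 1) := by rw [pow_succ, mul_assoc, h2]
  rcases he _ hidem h3 h4 with h5 | h5
  · exact Or.inl ⟨m + 1, h5⟩
  · right
    have hee : e * e = e := by rw [← h5]; exact hidem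
    refine ⟨x ^ m * e, ?_, ?_, ?_, ?_⟩
    · rcases Nat.eq_zero_or_pos m with rfl | hm
      · rw [pow_zero, one_mul, hee]
      · obtain ⟨k, rfl⟩ := Nat.exists_eq_add_of_lt hm
        rw [zero_add, ← mul_assoc, pow_succ', ← mul_assoc, h1]
    · rw [mul_assoc, hee]
    · rw [← mul_assoc, ← pow_succ', h5, hee]
    · rw [mul_assoc, h1, ← pow_succ, h5]

section act

variable {M : Type*} [AddCommGroup M] [Module R M]

/-- `eM` -/
def ran (M : Type*) [AddCommGroup M] [Module R M] (e : R) : AddSubgroup M where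
  carrier := {m | e • m = m}
  zero_mem' := smul_zero _
  add_mem' := fun {a b} ha hb => by
    show e • (a + b) = a + b
    rw [smul_add]
    have h1 : e • a = a := ha
    have h2 : e • b = b := hb
    rw [h1, h2]
  neg_mem' := fun {a} ha => by
    show e • (-a) = -a
    have h1 : e • a = a := ha
    rw [smul_neg, h1]

theorem mem_ran {e : R} {m : M} : m ∈ ran M e ↔ e • m = m := Iff.rfl

theorem G_smul {e : R} {u : Rˣ} (hu : u ∈ G e) {m : M} (hm : e • m = m) : e • (u : R) • m = (u : R) • m := by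
  have h1 : (u : R) • m = ((u : R) - 1) • m + m := by rw [sub_smul, one_smul]; abel
  rw [h1, smul_add, smul_smul, hu.1, hm]

/-- `G e` acts on `eM - 0` -/
instance act (e : R) : MulAction (G e) {m : M // e • m = m ∧ m ≠ 0} where
  smul u m := ⟨((u : Rˣ) : R) • (m : M), G_smul u.2 m.2.1, fun h => m.2.2 (by
    have := congrArg (fun x => (((u : Rˣ)⁻¹ : Rˣ) : R) • x) h
    simp only [smul_smul, Units.inv_mul, one_smul, smul_zero] at this
    exact this)⟩
  one_smul m := by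
    apply Subtype.ext
    show ((1 : Rˣ) : R) • (m : M) = m
    rw [Units.val_one, one_smul]
  mul_smul u v m := by
    apply Subtype.ext
    show (((u : Rˣ) * (v : Rˣ) : Rˣ) : R) • (m : M) = ((u : Rˣ) : R) • ((v : Rˣ) : R) • (m : M)
    rw [Units.val_mul, mul_smul]

theorem coe_act {e : R} (u : G e) (m : {m : M // e • m = m ∧ m ≠ 0}) :
    ((u • m : {m : M // e • m = m ∧ m ≠ 0}) : M) = ((u : Rˣ) : R) • (m : M) := rfl

theorem stab [Finite R] (h : ∀ x : R, x + x = 0) {e : R} (he : Pr e) (m : {m : M // e • m = m ∧ m ≠ 0}) :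
    IsPGroup 2 (MulAction.stabilizer (G e) m) := by
  rintro ⟨u, hu⟩
  have h1 : ((u : Rˣ) : R) • (m : M) = m := by
    have := congrArg Subtype.val (MulAction.mem_stabilizer_iff.1 hu)
    exact this
  have h2 : (((u : Rˣ) : R) - 1) • (m : M) = 0 := by rw [sub_smul, one_smul, h1, sub_self]
  rcases nil_or_unit he u.2.1 u.2.2 with ⟨n, hn⟩ | ⟨y, hy1, hy2, hy3, hy4⟩
  · refine ⟨n, ?_⟩
    apply Subtype.ext
    apply Subtype.ext
    apply Units.ext
    show ((u : Rˣ) : R) ^ 2 ^ n = 1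
    have h3 : ((u : Rˣ) : R) = 1 + (((u : Rˣ) : R) - 1) := by abel
    rw [h3, one_add_pow h, pow_eq_zero_of_le Nat.lt_two_pow_self.le hn, add_zero]
  · exfalso
    apply m.2.2
    calc (m : M) = e • (m : M) := m.2.1.symm
      _ = y • (((u : Rˣ) : R) - 1) • (m : M) := by rw [smul_smul, hy4]
      _ = 0 := by rw [h2, smul_zero]

end act

/-- the odd part of `|G e|` -/
noncomputable def odd (e : R) : ℕ := ordCompl[2] (Nat.card (G e))

theorem dvd_of_stab {Γ Ω : Type*} [Group Γ] [Finite Γ] [Finite Ω] [MulAction Γ Ω]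
    (h : ∀ x : Ω, IsPGroup 2 (MulAction.stabilizer Γ x)) : ordCompl[2] (Nat.card Γ) ∣ Nat.card Ω := by
  classical
  have : Fintype Γ := Fintype.ofFinite _
  have : Fintype Ω := Fintype.ofFinite _
  have hf : Fact (Nat.Prime 2) := ⟨Nat.prime_two⟩
  have key : ∀ x : Ω, ordCompl[2] (Nat.card Γ) ∣ Nat.card (MulAction.orbit Γ x) := by
    intro x
    obtain ⟨n, hn⟩ := IsPGroup.iff_card.1 (h x)
    have h1 : Nat.card (MulAction.orbit Γ x) * Nat.card (MulAction.stabilizer Γ x) = Nat.card Γ := by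
      rw [← Nat.card_prod]
      exact Nat.card_congr (MulAction.orbitProdStabilizerEquivGroup Γ x)
    rw [hn] at h1
    have h2 : ordCompl[2] (Nat.card Γ) ∣ Nat.card (MulAction.orbit Γ x) * 2 ^ n := by
      rw [h1]; exact Nat.ordCompl_dvd _ _
    refine Nat.Coprime.dvd_of_dvd_mul_right ?_ h2
    exact (Nat.coprime_ordCompl Nat.prime_two Nat.card_pos.ne').symm.pow_right n
  have h3 : Nat.card Ω = ∑ ω : MulAction.orbitRel.Quotient Γ Ω, Nat.card (MulAction.orbit Γ ω.out) := by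
    rw [← Nat.card_sigma]
    exact Nat.card_congr (MulAction.selfEquivSigmaOrbits Γ Ω)
  rw [h3]
  exact Finset.dvd_sum fun ω _ => key _

theorem card_ran {M : Type*} [AddCommGroup M] [Module R M] [Finite M] (e : R) :
    Nat.card (ran M e) = Nat.card {m : M // e • m = m ∧ m ≠ 0} + 1 := by
  classical
  have : Fintype M := Fintype.ofFinite _
  have h1 : Nat.card (ran M e) = Nat.card (Option {m : M // e • m = m ∧ m ≠ 0}) := by
    refine Nat.card_congr ⟨fun m => if h : (m : M) = 0 then none else some ⟨m, m.2, h⟩,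
      fun o => o.elim ⟨0, smul_zero _⟩ fun m => ⟨m, m.2.1⟩, ?_, ?_⟩
    · intro m
      by_cases h : (m : M) = 0
      · simp only [h, dite_true]
        exact Subtype.ext h.symm
      · simp only [h, dite_false]
        rfl
    · intro o
      cases o with
      | none => simp
      | some m => simp [m.2.2]
  rw [h1, Finite.card_option]

/-- `l ∣ |eM| - 1` -/
theorem odd_dvd [Finite R] (h : ∀ x : R, x + x = 0) {e : R} (he : Pr e) (M : Type*) [AddCommGroup M] [Module R M]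
    [Finite M] : odd e ∣ Nat.card (ran M e) - 1 := by
  rw [card_ran, Nat.add_sub_cancel]
  exact dvd_of_stab (stab h he)

/-- `|eN| ≤ l + 1` for a simple module -/
theorem card_simple [Finite R] {e : R} (he : Pr e) (hee : e * e = e) (N : Type*) [AddCommGroup N] [Module R N]
    [Finite N] (h2 : ∀ n : N, n + n = 0) [IsSimpleModule R N] : Nat.card (ran N e) ≤ odd e + 1 := by
  have hodd : 0 < odd e := Nat.ordCompl_pos _ Nat.card_pos.ne'
  by_cases hne : Nonempty {m : N // e • m = m ∧ m ≠ 0}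
  swap
  · have h3 : Nat.card {m : N // e • m = m ∧ m ≠ 0} = 0 := by
      rw [Nat.card_eq_zero]; exact Or.inl (not_nonempty_iff.1 hne)
    rw [card_ran, h3]; omega
  obtain ⟨v⟩ := hne
  -- transitivity
  have htr : MulAction.orbit (G e) v = Set.univ := by
    rw [Set.eq_univ_iff_forall]
    intro w
    have hgen : ∀ (a b : N), a ≠ 0 → ∃ r : R, r • a = b := by
      intro a b ha
      have h3 : Submodule.span R {a} = ⊤ := by
        rcases eq_bot_or_eq_top (Submodule.span R {a}) with h4 | h4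
        · exfalso
          rw [Submodule.span_singleton_eq_bot] at h4
          exact ha h4
        · exact h4
      have h4 : b ∈ Submodule.span R {a} := by rw [h3]; trivial
      exact Submodule.mem_span_singleton.1 h4
    obtain ⟨r, hr⟩ := hgen v w v.2.2
    obtain ⟨s, hs⟩ := hgen w v w.2.2
    have hv := v.2.1
    have hw := w.2.1
    set a := e * r * e with ha
    set b := e * s * e with hb
    have ea : e * a = a := by rw [ha, ← mul_assoc, ← mul_assoc, hee]
    have ae : a * e = a := by rw [ha, mul_assoc, hee]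
    have eb : e * b = b := by rw [hb, ← mul_assoc, ← mul_assoc, hee]
    have be : b * e = b := by rw [hb, mul_assoc, hee]
    have hav : a • (v : N) = w := by rw [ha, mul_smul, mul_smul, hv, hr, hw]
    have hbw : b • (w : N) = v := by rw [hb, mul_smul, mul_smul, hw, hs, hv]
    have hv0 : ∀ n : ℕ, (b * a) ^ n • (v : N) = v := by
      intro n
      induction n with
      | zero => rw [pow_zero, one_smul]
      | succ n ih => rw [pow_succ, mul_smul, mul_smul, hav, hbw, ih]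
    -- `ba` is a unit
    obtain ⟨y, -, -, -, hy⟩ : ∃ y : R, e * y = y ∧ y * e = y ∧ (b * a) * y = e ∧ y * (b * a) = e := by
      rcases nil_or_unit he (x := b * a) (by rw [← mul_assoc, eb]) (by rw [mul_assoc, ae]) with ⟨n, hn⟩ | h4
      · exfalso
        apply v.2.2
        rw [← hv0 n, hn, zero_smul]
      · exact h4
    obtain ⟨z, ez, ze, haz, hza⟩ : ∃ z : R, e * z = z ∧ z * e = z ∧ a * z = e ∧ z * a = e := by
      rcases nil_or_unit he ea ae with ⟨n, hn⟩ | h4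
      · exfalso
        have h5 : ∀ n : ℕ, (y * b) ^ n * a ^ n * e = e := by
          intro n
          induction n with
          | zero => rw [pow_zero, pow_zero, one_mul, one_mul]
          | succ n ih =>
            have h6 : (y * b) ^ (n + 1) * a ^ (n + 1) * e = (y * b) ^ n * (y * (b * a)) * a ^ n * e := by
              rw [pow_succ, pow_succ' a]; noncomm_ring
            rw [h6, hy]
            rcases Nat.eq_zero_or_pos n with h7 | h7
            · subst h7; rw [pow_zero, pow_zero, one_mul, mul_one, hee]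
            · obtain ⟨k, rfl⟩ := Nat.exists_eq_add_of_lt h7
              have h8 : e * a ^ (0 + k + 1) = a ^ (0 + k + 1) := by rw [pow_succ', ← mul_assoc, ea]
              rw [mul_assoc _ e, h8]; exact ih
        have h6 := h5 n
        rw [hn, mul_zero, zero_mul] at h6
        apply v.2.2
        calc (v : N) = e • (v : N) := hv.symm
          _ = (0 : R) • (v : N) := congrArg (fun x : R => x • (v : N)) h6.symm
          _ = 0 := zero_smul _ _
      · exact h4
    have hu1 : (a + (1 - e)) * (z + (1 - e)) = 1 := by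
      have h5 : (a + (1 - e)) * (z + (1 - e)) = a * z + (a - a * e) + (z - e * z) + (1 - e - e + e * e) := by
        noncomm_ring
      rw [h5, haz, ae, ez, hee]; abel
    have hu2 : (z + (1 - e)) * (a + (1 - e)) = 1 := by
      have h5 : (z + (1 - e)) * (a + (1 - e)) = z * a + (z - z * e) + (a - e * a) + (1 - e - e + e * e) := by
        noncomm_ring
      rw [h5, hza, ze, ea, hee]; abel
    let u : Rˣ := ⟨a + (1 - e), z + (1 - e), hu1, hu2⟩
    have hu : u ∈ G e := by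
      show e * ((a + (1 - e)) - 1) = (a + (1 - e)) - 1 ∧ ((a + (1 - e)) - 1) * e = (a + (1 - e)) - 1
      have h5 : a + (1 - e) - 1 = a - e := by abel
      rw [h5, mul_sub, sub_mul, ea, ae, hee]
      exact ⟨rfl, rfl⟩
    refine ⟨⟨u, hu⟩, ?_⟩
    apply Subtype.ext
    show (a + (1 - e)) • (v : N) = w
    rw [add_smul, sub_smul, one_smul, hv, sub_self, add_zero, hav]
  set n := Nat.card {m : N // e • m = m ∧ m ≠ 0} with hn
  have h3 : n ∣ Nat.card (G e) := by
    have h4 : Nat.card (MulAction.orbit (G e) v) = n := by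
      rw [htr]; exact Nat.card_congr (Equiv.Set.univ _)
    rw [← h4, ← Nat.card_congr (MulAction.orbitProdStabilizerEquivGroup (G e) v), Nat.card_prod]
    exact Dvd.intro _ rfl
  have h4 : Nat.Coprime n 2 := by
    have h5 := card_ran (M := N) e
    rw [← hn] at h5
    have h6 : IsPGroup 2 (Multiplicative (ran N e)) := by
      intro x
      refine ⟨1, ?_⟩
      apply Multiplicative.toAdd.injective
      apply Subtype.ext
      rw [pow_one, toAdd_pow, two_nsmul]
      exact h2 _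
    have hf : Fact (Nat.Prime 2) := ⟨Nat.prime_two⟩
    obtain ⟨k, hk⟩ := IsPGroup.iff_card.1 h6
    have hk' : Nat.card (ran N e) = 2 ^ k := hk
    have hn0 : 0 < n := by
      have : Nonempty {m : N // e • m = m ∧ m ≠ 0} := ⟨v⟩
      exact Nat.card_pos
    rw [Nat.coprime_comm, Nat.coprime_two_left, ← Nat.not_even_iff_odd]
    intro h7
    have h8 : k ≠ 0 := by
      rintro rfl
      rw [pow_zero] at hk'
      omega
    have h9 : Even (Nat.card (ran N e)) := by rw [hk']; exact (Nat.even_pow.2 ⟨even_two, h8⟩)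
    rw [h5, Nat.even_add_one] at h9
    exact h9 h7
  have h5 : n ∣ odd e := by
    have h6 : ordProj[2] (Nat.card (G e)) * ordCompl[2] (Nat.card (G e)) = Nat.card (G e) :=
      Nat.ordProj_mul_ordCompl_eq_self _ _
    rw [← h6] at h3
    exact Nat.Coprime.dvd_of_dvd_mul_left (h4.pow_right _) h3
  rw [card_ran]
  have := Nat.le_of_dvd hodd h5
  omega

theorem Pr.op {e : R} (he : Pr e) : Pr (MulOpposite.op e) := by
  intro f h1 h2 h3
  have h4 := he (unop f) (by rw [← unop_mul, h1]) (by rw [← unop_op e, ← unop_mul, h3])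
    (by rw [← unop_op e, ← unop_mul, h2])
  rcases h4 with h5 | h5
  · left; rw [← op_unop f, h5, op_zero]
  · right; rw [← op_unop f, h5]

theorem odd_op (e : R) : odd (MulOpposite.op e) = odd e := by
  have h1 : Nat.card (G (MulOpposite.op e)) = Nat.card (G e) := by
    refine Nat.card_congr (Equiv.subtypeEquiv (Units.opEquiv.toEquiv.trans MulOpposite.opEquiv.symm) fun u => ?_)
    show MulOpposite.op e * ((u : Rᵐᵒᵖ) - 1) = (u : Rᵐᵒᵖ) - 1 ∧ ((u : Rᵐᵒᵖ) - 1) * MulOpposite.op e = (u : Rᵐᵒᵖ) - 1 ↔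
      e * (unop (u : Rᵐᵒᵖ) - 1) = unop (u : Rᵐᵒᵖ) - 1 ∧ (unop (u : Rᵐᵒᵖ) - 1) * e = unop (u : Rᵐᵒᵖ) - 1
    constructor
    · rintro ⟨h2, h3⟩
      have h2' := congrArg unop h2
      have h3' := congrArg unop h3
      exact ⟨by simpa using h3', by simpa using h2'⟩
    · rintro ⟨h2, h3⟩
      exact ⟨unop_injective (by simpa using h3), unop_injective (by simpa using h2)⟩
  rw [odd, odd, h1]

theorem card_split {M : Type*} [AddCommGroup M] [Module R M] {f g : R} (hf : f * f = f) (hg : g * g = g)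
    (hfg : f * g = 0) (hgf : g * f = 0) : Nat.card (ran M (f + g)) = Nat.card (ran M f) * Nat.card (ran M g) := by
  rw [← Nat.card_prod]
  refine Nat.card_congr ⟨fun m => (⟨f • (m : M), ?_⟩, ⟨g • (m : M), ?_⟩), fun x => ⟨x.1 + x.2, ?_⟩, ?_, ?_⟩
  · show f • f • (m : M) = f • (m : M)
    rw [smul_smul, hf]
  · show g • g • (m : M) = g • (m : M)
    rw [smul_smul, hg]
  · show (f + g) • ((x.1 : M) + x.2) = x.1 + x.2
    have h1 : f • (x.1 : M) = x.1 := x.1.2
    have h2 : g • (x.2 : M) = x.2 := x.2.2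
    have h3 : g • (x.1 : M) = 0 := by rw [← h1, smul_smul, hgf, zero_smul]
    have h4 : f • (x.2 : M) = 0 := by rw [← h2, smul_smul, hfg, zero_smul]
    rw [add_smul, smul_add, smul_add, h1, h2, h3, h4, zero_add, add_zero]
  · intro m
    apply Subtype.ext
    have h1 : (f + g) • (m : M) = m := m.2
    show f • (m : M) + g • (m : M) = m
    rw [← add_smul, h1]
  · intro x
    have h1 : f • (x.1 : M) = x.1 := x.1.2
    have h2 : g • (x.2 : M) = x.2 := x.2.2
    have h3 : g • (x.1 : M) = 0 := by rw [← h1, smul_smul, hgf, zero_smul]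
    have h4 : f • (x.2 : M) = 0 := by rw [← h2, smul_smul, hfg, zero_smul]
    apply Prod.ext
    · apply Subtype.ext
      show f • ((x.1 : M) + x.2) = x.1
      rw [smul_add, h1, h4, add_zero]
    · apply Subtype.ext
      show g • ((x.1 : M) + x.2) = x.2
      rw [smul_add, h2, h3, zero_add]

theorem arith {a b l n : ℕ} (hl : Nat.Coprime l 2) (hab : 2 ^ b < 2 ^ a) (ha : l ∣ 2 ^ a - 1) (hb : l ∣ 2 ^ b - 1)
    (hn : n ≤ l + 1) : 2 ^ b * n ≤ 2 ^ a := by
  have h1 := (Nat.pow_lt_pow_iff_right (by norm_num : 1 < 2)).1 hab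
  obtain ⟨c, rfl⟩ := Nat.exists_eq_add_of_lt h1
  have h2 : l ∣ (2 ^ (b + c + 1) - 1) - (2 ^ b - 1) := Nat.dvd_sub ha hb
  have p1 : 0 < 2 ^ b := by positivity
  have h3 : (2 ^ (b + c + 1) - 1) - (2 ^ b - 1) = 2 ^ b * (2 ^ (c + 1) - 1) := by
    have e1 : 2 ^ (b + c + 1) = 2 ^ b * 2 ^ (c + 1) := by rw [← pow_add]; ring_nf
    rw [e1, Nat.mul_sub, mul_one]
    omega
  rw [h3] at h2
  have h4 : l ∣ 2 ^ (c + 1) - 1 := Nat.Coprime.dvd_of_dvd_mul_left (hl.pow_right _) h2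
  have h5 : 2 ≤ 2 ^ (c + 1) := by
    calc 2 = 2 ^ 1 := rfl
      _ ≤ 2 ^ (c + 1) := Nat.pow_le_pow_right (by norm_num) (by omega)
  have h6 := Nat.le_of_dvd (by omega) h4
  have e1 : 2 ^ (b + c + 1) = 2 ^ b * 2 ^ (c + 1) := by rw [← pow_add]; ring_nf
  rw [e1]
  exact Nat.mul_le_mul_left _ (by omega)

theorem card_two_pow {M : Type*} [AddCommGroup M] [Finite M] (h2 : ∀ m : M, m + m = 0) : ∃ k, Nat.card M = 2 ^ k := by
  have h6 : IsPGroup 2 (Multiplicative M) := by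
    intro x
    refine ⟨1, ?_⟩
    apply Multiplicative.toAdd.injective
    rw [pow_one, toAdd_pow, two_nsmul]
    exact h2 _
  have hf : Fact (Nat.Prime 2) := ⟨Nat.prime_two⟩
  obtain ⟨k, hk⟩ := IsPGroup.iff_card.1 h6
  exact ⟨k, hk⟩

/-- the inequality for an idempotent -/
theorem main [Finite R] (h : ∀ x : R, x + x = 0) (W Θ N : Type*) [AddCommGroup W] [Module R W] [Finite W]
    [AddCommGroup Θ] [Module Rᵐᵒᵖ Θ] [Finite Θ] [AddCommGroup N] [Module R N] [Finite N] [IsSimpleModule R N]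
    (hW : ∀ w : W, w + w = 0) (hΘ : ∀ w : Θ, w + w = 0) (hN : ∀ w : N, w + w = 0)
    (h1 : ∀ e : R, e * e = e → ran Θ (op e) ≠ ⊥ → Nat.card (ran Θ (op e)) < Nat.card (ran W e))
    (h2 : ∀ e : R, e * e = e → ran Θ (op e) = ⊥ → ran N e = ⊥) :
    ∀ n : ℕ, ∀ e : R, e * e = e → Nat.card {x : R // e * x = x ∧ x * e = x} ≤ n →
      Nat.card (ran Θ (op e)) * Nat.card (ran N e) ≤ Nat.card (ran W e) := by
  intro n
  have hfin : Finite Rᵐᵒᵖ := Finite.of_equiv R MulOpposite.opEquiv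
  induction n with
  | zero =>
    intro e he hn
    exfalso
    have : Nonempty {x : R // e * x = x ∧ x * e = x} := ⟨⟨0, by simp, by simp⟩⟩
    have : 0 < Nat.card {x : R // e * x = x ∧ x * e = x} := Nat.card_pos
    omega
  | succ n ih =>
    intro e he hn
    by_cases hp : Pr e
    · by_cases h3 : ran Θ (op e) = ⊥
      · rw [h2 e he h3, h3, AddSubgroup.card_bot, AddSubgroup.card_bot]
        exact Nat.card_pos
      · have h4 := h1 e he h3
        obtain ⟨a, ha⟩ := card_two_pow (M := ran W e) fun m => Subtype.ext (hW _)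
        obtain ⟨b, hb⟩ := card_two_pow (M := ran Θ (op e)) fun m => Subtype.ext (hΘ _)
        have h5 := odd_dvd h hp W
        have h6 := odd_dvd (R := Rᵐᵒᵖ) (fun x => unop_injective (h _)) hp.op Θ
        rw [odd_op] at h6
        have h7 := card_simple hp he N hN
        rw [ha] at h4 h5 ⊢
        rw [hb] at h4 h6 ⊢
        exact arith (Nat.coprime_ordCompl Nat.prime_two Nat.card_pos.ne').symm h4 h5 h6 h7
    · rw [Pr] at hp
      push Not at hp
      obtain ⟨f, hf, hef, hfe, hf0, hfne⟩ := hp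
      set g := e - f with hg
      have hgg : g * g = g := by
        have : g * g = e * e - e * f - f * e + f * f := by rw [hg]; noncomm_ring
        rw [this, he, hef, hfe, hf, hg]; abel
      have hfg : f * g = 0 := by rw [hg, mul_sub, hfe, hf, sub_self]
      have hgf : g * f = 0 := by rw [hg, sub_mul, hef, hf, sub_self]
      have heg : e * g = g := by rw [hg, mul_sub, he, hef]
      have hge : g * e = g := by rw [hg, sub_mul, he, hfe]
      have hadd : e = f + g := by rw [hg]; abel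
      have key : ∀ k : R, e * k = k → k * e = k → k ≠ e →
          Nat.card {x : R // k * x = x ∧ x * k = x} ≤ n := by
        intro k hek hke hne
        have h3 : Nat.card {x : R // k * x = x ∧ x * k = x} < Nat.card {x : R // e * x = x ∧ x * e = x} := by
          have h4 : {x : R | k * x = x ∧ x * k = x} ⊂ {x : R | e * x = x ∧ x * e = x} := by
            refine ⟨fun x hx => ⟨?_, ?_⟩, fun h5 => hne ?_⟩
            · rw [← hx.1, ← mul_assoc, hek]
            · rw [← hx.2, mul_assoc, hke]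
            · have h6 := (h5 (show e ∈ {x : R | e * x = x ∧ x * e = x} from ⟨he, he⟩)).1
              rw [hke] at h6
              exact h6
          exact Set.ncard_lt_ncard h4 (Set.toFinite _)
        omega
      have h3 := ih f hf (key f hef hfe hfne)
      have h4 := ih g hgg (key g heg hge (fun h5 => hf0 (by
        have : f = e - g := by rw [hg]; abel
        rw [this, h5, sub_self])))
      rw [hadd, card_split hf hgg hfg hgf, card_split hf hgg hfg hgf, op_add,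
        card_split (R := Rᵐᵒᵖ) (f := op f) (g := op g) (unop_injective hf) (unop_injective hgg) (unop_injective hgf)
          (unop_injective hfg)]
      calc _ = (Nat.card (ran Θ (op f)) * Nat.card (ran N f)) * (Nat.card (ran Θ (op g)) * Nat.card (ran N g)) := by
            ring
        _ ≤ _ := Nat.mul_le_mul h3 h4

end ring

section pairing

variable {W Θ Z : Type*} [AddCommGroup W] [AddCommGroup Θ] [AddCommGroup Z]

/-- annihilator -/
def ann (b : W →+ Θ →+ Z) (E : AddSubgroup Θ) : AddSubgroup W where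
  carrier := {w | ∀ θ ∈ E, b w θ = 0}
  zero_mem' := fun θ _ => by rw [map_zero, AddMonoidHom.zero_apply]
  add_mem' := fun {x y} hx hy θ hθ => by rw [map_add, AddMonoidHom.add_apply, hx θ hθ, hy θ hθ, add_zero]
  neg_mem' := fun {x} hx θ hθ => by rw [map_neg, AddMonoidHom.neg_apply, hx θ hθ, neg_zero]

theorem mem_ann {b : W →+ Θ →+ Z} {E : AddSubgroup Θ} {w : W} : w ∈ ann b E ↔ ∀ θ ∈ E, b w θ = 0 := Iff.rfl

/-- invariant under all adjoint pairs -/
def Inv (b : W →+ Θ →+ Z) (P : AddSubgroup W) : Prop :=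
  ∀ (f : W →+ W) (g : Θ →+ Θ), (∀ w θ, b (f w) θ = b w (g θ)) → ∀ w ∈ P, f w ∈ P

/-- the ring of adjoint pairs -/
def Adj (b : W →+ Θ →+ Z) : Subring (AddMonoid.End W × (AddMonoid.End Θ)ᵐᵒᵖ) where
  carrier := {x | ∀ w θ, b (x.1 w) θ = b w ((unop x.2) θ)}
  one_mem' := fun w θ => rfl
  zero_mem' := fun w θ => by
    show b (0 : W) θ = b w (0 : Θ)
    rw [map_zero, map_zero, AddMonoidHom.zero_apply]
  mul_mem' := fun {x y} hx hy w θ => by
    show b (x.1 (y.1 w)) θ = b w ((unop y.2) ((unop x.2) θ))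
    rw [hx, hy]
  add_mem' := fun {x y} hx hy w θ => by
    show b (x.1 w + y.1 w) θ = b w ((unop x.2) θ + (unop y.2) θ)
    rw [map_add, AddMonoidHom.add_apply, map_add, hx, hy]
  neg_mem' := fun {x} hx w θ => by
    show b (-(x.1 w)) θ = b w (-((unop x.2) θ))
    rw [map_neg, AddMonoidHom.neg_apply, map_neg, hx]

/-- `W` as a module -/
@[reducible] def modW (b : W →+ Θ →+ Z) : Module (Adj b) W :=
  Module.compHom W ((RingHom.fst (AddMonoid.End W) (AddMonoid.End Θ)ᵐᵒᵖ).comp (Adj b).subtype)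

/-- the ring hom for `Θ` -/
def homT (b : W →+ Θ →+ Z) : (Adj b)ᵐᵒᵖ →+* AddMonoid.End Θ where
  toFun x := unop ((unop x : Adj b) : AddMonoid.End W × (AddMonoid.End Θ)ᵐᵒᵖ).2
  map_one' := rfl
  map_mul' := fun _ _ => rfl
  map_zero' := rfl
  map_add' := fun _ _ => rfl

/-- `Θ` as a module -/
@[reducible] def modT (b : W →+ Θ →+ Z) : Module (Adj b)ᵐᵒᵖ Θ := Module.compHom Θ (homT b)

theorem ring_trick [Finite W] [Finite Θ] (b : W →+ Θ →+ Z) (hW : ∀ w : W, w + w = 0) (hΘ : ∀ θ : Θ, θ + θ = 0)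
    (hL : ∀ w, (∀ θ, b w θ = 0) → w = 0) (_hR : ∀ θ, (∀ w, b w θ = 0) → θ = 0)
    (nf : ∀ E : AddSubgroup Θ, E ≠ ⊥ → 2 * (Nat.card E * Nat.card (ann b E)) ≤ Nat.card W)
    {P P' : AddSubgroup W} (hP : Inv b P) (hP' : Inv b P') (hlt : P' < P)
    (hmax : ∀ Q : AddSubgroup W, Inv b Q → P' ≤ Q → Q ≤ P → Q = P' ∨ Q = P) :
    Nat.card P * Nat.card Θ ≤ Nat.card P' * Nat.card W := by
  let _ := modW b
  let _ := modT b
  have hfin : Finite (Adj b) := by
    have h1 : Finite (AddMonoid.End W) := Finite.of_injective (fun f : AddMonoid.End W => (f : W → W)) DFunLike.coe_injective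
    have h2 : Finite (AddMonoid.End Θ) := Finite.of_injective (fun f : AddMonoid.End Θ => (f : Θ → Θ)) DFunLike.coe_injective
    have h3 : Finite (AddMonoid.End Θ)ᵐᵒᵖ := Finite.of_equiv _ MulOpposite.opEquiv
    infer_instance
  have hsW : ∀ (r : Adj b) (w : W), r • w = (r : AddMonoid.End W × (AddMonoid.End Θ)ᵐᵒᵖ).1 w := fun _ _ => rfl
  have hsT : ∀ (r : Adj b) (θ : Θ), (op r) • θ = (unop (r : AddMonoid.End W × (AddMonoid.End Θ)ᵐᵒᵖ).2) θ := fun _ _ => rfl
  have hadj : ∀ (r : Adj b) (w : W) (θ : Θ), b (r • w) θ = b w ((op r) • θ) := fun r w θ => r.2 w θ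
  have h2R : ∀ x : Adj b, x + x = 0 := by
    intro x
    apply Subtype.ext
    apply Prod.ext
    · apply AddMonoidHom.ext
      intro w
      exact hW _
    · apply unop_injective
      apply AddMonoidHom.ext
      intro w
      exact hΘ _
  let PS : Submodule (Adj b) W := { P with
    smul_mem' := fun r w hw => hP r.1.1 (unop r.1.2) r.2 w hw }
  let PS' : Submodule (Adj b) W := { P' with
    smul_mem' := fun r w hw => hP' r.1.1 (unop r.1.2) r.2 w hw }
  have hcov : PS' ⋖ PS := by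
    refine ⟨hlt, fun Q h1 h2 => ?_⟩
    have h3 : Inv b Q.toAddSubgroup := fun f g hfg w hw =>
      Q.smul_mem (⟨(f, op g), hfg⟩ : Adj b) hw
    rcases hmax Q.toAddSubgroup h3 h1.le h2.le with h4 | h4
    · exact h1.ne (SetLike.ext fun w => (SetLike.ext_iff.1 h4 w).symm)
    · exact h2.ne (SetLike.ext fun w => (SetLike.ext_iff.1 h4 w))
  have hsimple := (covBy_iff_quot_is_simple hcov.le).1 hcov
  set N := PS ⧸ Submodule.comap PS.subtype PS' with hN
  have hfinN : Finite N := Finite.of_surjective _ (Submodule.mkQ_surjective _)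
  have key := main h2R W Θ N hW hΘ (by
      intro n
      obtain ⟨x, rfl⟩ := Submodule.mkQ_surjective _ n
      rw [← map_add]
      have : x + x = 0 := Subtype.ext (hW _)
      rw [this, map_zero]) ?_ ?_ _ 1 (mul_one 1) le_rfl
  · -- conclusion
    have e1 : ∀ (M : Type _) [AddCommGroup M] [Module (Adj b) M], Nat.card (ran M (1 : Adj b)) = Nat.card M := by
      intro M _ _
      refine Nat.card_congr ⟨fun m => m, fun m => ⟨m, one_smul _ _⟩, fun _ => rfl, fun _ => rfl⟩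
    have e2 : Nat.card (ran Θ (op (1 : Adj b))) = Nat.card Θ := by
      refine Nat.card_congr ⟨fun m => m, fun m => ⟨m, one_smul _ _⟩, fun _ => rfl, fun _ => rfl⟩
    rw [e1 W, e1 N, e2] at key
    have e3 : Nat.card P = Nat.card P' * Nat.card N := by
      have h1 := Submodule.card_eq_card_quotient_mul_card (Submodule.comap PS.subtype PS')
      have h2 : Nat.card (Submodule.comap PS.subtype PS') = Nat.card P' := by
        refine Nat.card_congr ⟨fun m => ⟨m, m.2⟩, fun m => ⟨⟨m, hlt.le m.2⟩, m.2⟩, fun _ => rfl, fun _ => rfl⟩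
      rw [h2] at h1
      exact h1
    calc Nat.card P * Nat.card Θ = Nat.card P' * (Nat.card Θ * Nat.card N) := by rw [e3]; ring
      _ ≤ _ := Nat.mul_le_mul_left _ key
  · intro e he hne
    have h1 := nf (ran Θ (op e)) hne
    have hann : ∀ w : W, w ∈ ann b (ran Θ (op e)) ↔ e • w = 0 := by
      intro w
      constructor
      · intro hw
        apply hL
        intro θ
        rw [hadj]
        apply hw
        show op e • op e • θ = op e • θ
        rw [smul_smul, ← op_mul, he]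
      · intro hw θ hθ
        have h4 : op e • θ = θ := hθ
        rw [← h4, ← hadj, hw, map_zero, AddMonoidHom.zero_apply]
    have h3 : Nat.card W = Nat.card (ran W e) * Nat.card (ann b (ran Θ (op e))) := by
      rw [← Nat.card_prod]
      refine Nat.card_congr ⟨fun w => (⟨e • w, ?_⟩, ⟨w - e • w, ?_⟩), fun x => x.1 + x.2, ?_, ?_⟩
      · show e • e • w = e • w
        rw [smul_smul, he]
      · rw [hann, smul_sub, smul_smul, he, sub_self]
      · intro w
        show e • w + (w - e • w) = w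
        abel
      · intro x
        have h4 : e • (x.1 : W) = x.1 := x.1.2
        have h5 : e • (x.2 : W) = 0 := (hann _).1 x.2.2
        have h6 : e • ((x.1 : W) + x.2) = x.1 := by rw [smul_add, h4, h5, add_zero]
        apply Prod.ext
        · exact Subtype.ext h6
        · apply Subtype.ext
          show (x.1 : W) + x.2 - e • ((x.1 : W) + x.2) = x.2
          rw [h6]; abel
    have p1 : 0 < Nat.card (ann b (ran Θ (op e))) := Nat.card_pos
    have p2 : 0 < Nat.card (ran Θ (op e)) := Nat.card_pos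
    rw [h3, ← mul_assoc] at h1
    have := Nat.le_of_mul_le_mul_right h1 p1
    omega
  · intro e he h0
    have h1 : ∀ θ : Θ, op e • θ = 0 := by
      intro θ
      have h2 : op e • θ ∈ ran Θ (op e) := by
        show op e • op e • θ = op e • θ
        rw [smul_smul, ← op_mul, he]
      rwa [h0] at h2
    have h3 : ∀ w : W, e • w = 0 := fun w => hL _ fun θ => by rw [hadj, h1, map_zero]
    rw [eq_bot_iff]
    intro n hn
    obtain ⟨x, rfl⟩ := Submodule.mkQ_surjective _ n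
    have h4 : e • x = 0 := Subtype.ext (h3 x)
    have h5 : e • Submodule.mkQ (Submodule.comap PS.subtype PS') x = Submodule.mkQ (Submodule.comap PS.subtype PS') x := hn
    rw [← map_smul, h4, map_zero] at h5
    rw [← h5]
    exact AddSubgroup.zero_mem _

end pairing

end Cfsg.Agent.Omega.NO3b.TheoremL.Ring

end

section


/-!
# THEOREM L (#18749, helper344), part 1: the ring trick for a group action

`Z ≤ W ≤ U`, `Q` acts on `U`, `[W, Q] ≤ Z`, `[Z, Q] = 0`, `C_W(Q) ≤ Z`, no subgroup of `Q` offends on `W`.  `I P`: `P / Z`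
is invariant under the ring of all adjoint pairs of the pairing `W / Z × Q / C_Q(W) → Z`.  `ring_rel`: for every
`I`-simple section `P / P'` of `W / Z` : `|P / P'| |Q / C_Q(W)| ≤ |W / Z|`.
-/

set_option autoImplicit false
set_option linter.unusedSectionVars false

namespace Cfsg.Agent.Omega.NO3b.TheoremL.RingRel

open Cfsg.Agent.Omega.FF.Basic
open Cfsg.Agent.Omega.NO3b.Exit.TT (cf mem_cf nf mem_nf)
open Cfsg.Agent.Omega.NO3b.TheoremL.Ring

section gen

variable {A B : Type*}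

theorem card_comap_add [AddCommGroup A] [AddCommGroup B] [Finite A] [Finite B] (f : A →+ B)
    (hf : Function.Surjective f) (P : AddSubgroup B) :
    Nat.card (P.comap f) = Nat.card P * Nat.card f.ker := by
  have h1 := AddSubgroup.index_comap_of_surjective P hf
  have h2 := (P.comap f).card_mul_index
  have h3 := f.ker.card_mul_index
  have h4 : f.ker.index = Nat.card B := by
    rw [AddSubgroup.index_ker, AddMonoidHom.range_eq_top.2 hf]
    exact Nat.card_congr (Equiv.Set.univ B)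
  have h5 := P.card_mul_index
  rw [h1] at h2
  rw [h4] at h3
  have p : 0 < P.index := Nat.pos_of_ne_zero AddSubgroup.index_ne_zero_of_finite
  refine Nat.eq_of_mul_eq_mul_right p ?_
  rw [h2, ← h3, ← h5]; ring

theorem card_comap_mul [Group A] [Group B] [Finite A] [Finite B] (f : A →* B) (hf : Function.Surjective f)
    (P : Subgroup B) : Nat.card (P.comap f) = Nat.card P * Nat.card f.ker := by
  have h1 := Subgroup.index_comap_of_surjective P hf
  have h2 := (P.comap f).card_mul_index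
  have h3 := f.ker.card_mul_index
  have h4 : f.ker.index = Nat.card B := by
    rw [Subgroup.index_ker, MonoidHom.range_eq_top.2 hf]
    exact Nat.card_congr (Equiv.Set.univ B)
  have h5 := P.card_mul_index
  rw [h1] at h2
  rw [h4] at h3
  have p : 0 < P.index := Nat.pos_of_ne_zero Subgroup.index_ne_zero_of_finite
  refine Nat.eq_of_mul_eq_mul_right p ?_
  rw [h2, ← h3, ← h5]; ring

end gen

variable {Y : Type*} [Group Y] [Finite Y] {U : Type*} [AddCommGroup U] [Finite U] [DistribMulAction Y U]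

section

variable {W Z : AddSubgroup U} {Q : Subgroup Y}

/-- `t ↦ (w ↦ t w - w)` -/
def tau (hQW : ∀ t ∈ Q, ∀ w ∈ W, t • w - w ∈ Z) (t : Q) : W →+ Z where
  toFun w := ⟨(t : Y) • (w : U) - w, hQW t t.2 w w.2⟩
  map_zero' := by
    apply Subtype.ext
    simp
  map_add' v w := by
    apply Subtype.ext
    show (t : Y) • ((v : U) + w) - (v + w) = ((t : Y) • (v : U) - v) + ((t : Y) • (w : U) - w)
    rw [smul_add]; abel

theorem tau_apply (hQW : ∀ t ∈ Q, ∀ w ∈ W, t • w - w ∈ Z) (t : Q) (w : W) :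
    ((tau hQW t w : Z) : U) = (t : Y) • (w : U) - w := rfl

theorem tau_mul (hQW : ∀ t ∈ Q, ∀ w ∈ W, t • w - w ∈ Z) (hQZ : ∀ t ∈ Q, ∀ z ∈ Z, t • z = z) (s t : Q) :
    tau hQW (s * t) = tau hQW s + tau hQW t := by
  ext w
  show ((s : Y) * t) • (w : U) - w = ((s : Y) • (w : U) - w) + ((t : Y) • (w : U) - w)
  have h1 := hQZ s s.2 _ (hQW t t.2 w w.2)
  rw [smul_sub] at h1
  rw [mul_smul]
  have e : (s : Y) • (t : Y) • (w : U) = (t : Y) • (w : U) - w + (s : Y) • (w : U) := by rw [← h1]; abel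
  rw [e]; abel

theorem tau_one (hQW : ∀ t ∈ Q, ∀ w ∈ W, t • w - w ∈ Z) : tau hQW 1 = 0 := by
  ext w
  show (1 : Y) • (w : U) - w = 0
  rw [one_smul, sub_self]

/-- the image of `Q` -/
def TH (hQW : ∀ t ∈ Q, ∀ w ∈ W, t • w - w ∈ Z) (hQZ : ∀ t ∈ Q, ∀ z ∈ Z, t • z = z) : AddSubgroup (W →+ Z) where
  carrier := Set.range (tau hQW)
  zero_mem' := ⟨1, tau_one hQW⟩
  add_mem' := by
    rintro _ _ ⟨s, rfl⟩ ⟨t, rfl⟩
    exact ⟨s * t, tau_mul hQW hQZ s t⟩
  neg_mem' := by
    rintro _ ⟨s, rfl⟩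
    refine ⟨s⁻¹, ?_⟩
    have h1 := tau_mul hQW hQZ s⁻¹ s
    rw [inv_mul_cancel, tau_one] at h1
    exact (neg_eq_of_add_eq_zero_left h1.symm).symm

variable (hQW : ∀ t ∈ Q, ∀ w ∈ W, t • w - w ∈ Z) (hQZ : ∀ t ∈ Q, ∀ z ∈ Z, t • z = z)

/-- `tau` as a homomorphism -/
def tauH : Q →* Multiplicative (TH hQW hQZ) where
  toFun t := Multiplicative.ofAdd ⟨tau hQW t, ⟨t, rfl⟩⟩
  map_one' := by
    apply Multiplicative.toAdd.injective
    exact Subtype.ext (tau_one hQW)
  map_mul' s t := by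
    apply Multiplicative.toAdd.injective
    exact Subtype.ext (tau_mul hQW hQZ s t)

theorem tauH_surj : Function.Surjective (tauH hQW hQZ) := by
  rintro ⟨θ, t, ht⟩
  exact ⟨t, congrArg Multiplicative.ofAdd (Subtype.ext ht)⟩

theorem mem_ker_tauH {t : Q} : t ∈ (tauH hQW hQZ).ker ↔ (t : Y) ∈ cf Y W := by
  rw [MonoidHom.mem_ker]
  constructor
  · intro h w hw
    have h1 : tau hQW t = 0 := congrArg Subtype.val (congrArg Multiplicative.toAdd h)
    have h2 := DFunLike.congr_fun h1 ⟨w, hw⟩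
    have h3 : (t : Y) • w - w = 0 := congrArg Subtype.val h2
    exact sub_eq_zero.1 h3
  · intro h
    apply Multiplicative.toAdd.injective
    apply Subtype.ext
    show tau hQW t = 0
    ext w
    show (t : Y) • (w : U) - w = 0
    rw [h w w.2, sub_self]

theorem card_ker_tauH : Nat.card (tauH hQW hQZ).ker = Nat.card ↥(Q ⊓ cf Y W) := by
  refine Nat.card_congr ⟨fun t => ⟨t.1.1, t.1.2, (mem_ker_tauH hQW hQZ).1 t.2⟩,
    fun t => ⟨⟨t.1, t.2.1⟩, (mem_ker_tauH hQW hQZ).2 t.2.2⟩, fun t => rfl, fun t => rfl⟩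

/-- the preimage in `Q` of a subgroup of `TH` -/
def pre (E : AddSubgroup (TH hQW hQZ)) : Subgroup Y := (E.toSubgroup.comap (tauH hQW hQZ)).map Q.subtype

theorem mem_pre {E : AddSubgroup (TH hQW hQZ)} {t : Y} :
    t ∈ pre hQW hQZ E ↔ ∃ h : t ∈ Q, (⟨tau hQW ⟨t, h⟩, ⟨⟨t, h⟩, rfl⟩⟩ : TH hQW hQZ) ∈ E := by
  constructor
  · rintro ⟨t, ht, rfl⟩
    exact ⟨t.2, ht⟩
  · rintro ⟨h, h1⟩
    exact ⟨⟨t, h⟩, h1, rfl⟩

theorem pre_le (E : AddSubgroup (TH hQW hQZ)) : pre hQW hQZ E ≤ Q := fun _ h => ((mem_pre hQW hQZ).1 h).1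

theorem card_TH [Finite (TH hQW hQZ)] : Nat.card Q = Nat.card (TH hQW hQZ) * Nat.card ↥(Q ⊓ cf Y W) := by
  have h1 := card_comap_mul (tauH hQW hQZ) (tauH_surj hQW hQZ) ⊤
  rw [card_ker_tauH, Subgroup.comap_top] at h1
  have h2 : Nat.card (⊤ : Subgroup Q) = Nat.card Q := Subgroup.card_top
  have h3 : Nat.card (⊤ : Subgroup (Multiplicative (TH hQW hQZ))) = Nat.card (TH hQW hQZ) := Subgroup.card_top
  rw [← h2, h1, h3]

theorem card_pre [Finite (TH hQW hQZ)] (E : AddSubgroup (TH hQW hQZ)) :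
    Nat.card (pre hQW hQZ E) = Nat.card E * Nat.card ↥(Q ⊓ cf Y W) := by
  have h1 := card_comap_mul (tauH hQW hQZ) (tauH_surj hQW hQZ) E.toSubgroup
  rw [card_ker_tauH] at h1
  have h2 : Nat.card (pre hQW hQZ E) = Nat.card (E.toSubgroup.comap (tauH hQW hQZ)) :=
    (Nat.card_congr (Subgroup.equivMapOfInjective _ _ Q.subtype_injective).toEquiv).symm
  have h3 : Nat.card E.toSubgroup = Nat.card E := rfl
  rw [h2, h1, h3]

/-- the pairing, second variable first -/
def bb' : TH hQW hQZ →+ (W ⧸ Z.addSubgroupOf W) →+ Z where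
  toFun θ := QuotientAddGroup.lift (Z.addSubgroupOf W) θ.1 (by
    obtain ⟨_, t, rfl⟩ := θ
    intro w hw
    apply Subtype.ext
    show (t : Y) • (w : U) - w = 0
    rw [hQZ t t.2 _ (AddSubgroup.mem_addSubgroupOf.1 hw), sub_self])
  map_zero' := by
    ext w
    rfl
  map_add' θ θ' := by
    ext w
    rfl

/-- the pairing -/
def bb : (W ⧸ Z.addSubgroupOf W) →+ TH hQW hQZ →+ Z := (bb' hQW hQZ).flip

theorem bb_mk (w : W) (θ : TH hQW hQZ) :
    bb hQW hQZ (QuotientAddGroup.mk w) θ = θ.1 w := rfl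

/-- the subgroup of `U` belonging to a subgroup of `W / Z` -/
def up (P : AddSubgroup (W ⧸ Z.addSubgroupOf W)) : AddSubgroup U :=
  (P.comap (QuotientAddGroup.mk' (Z.addSubgroupOf W))).map W.subtype

theorem mem_up {P : AddSubgroup (W ⧸ Z.addSubgroupOf W)} {u : U} :
    u ∈ up P ↔ ∃ h : u ∈ W, (QuotientAddGroup.mk ⟨u, h⟩ : W ⧸ Z.addSubgroupOf W) ∈ P := by
  constructor
  · rintro ⟨w, hw, rfl⟩
    exact ⟨w.2, hw⟩
  · rintro ⟨h, h1⟩
    exact ⟨⟨u, h⟩, h1, rfl⟩

theorem up_le (P : AddSubgroup (W ⧸ Z.addSubgroupOf W)) : up P ≤ W := fun _ h => (mem_up.1 h).1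

theorem le_up (hZW : Z ≤ W) (P : AddSubgroup (W ⧸ Z.addSubgroupOf W)) : Z ≤ up P := by
  intro z hz
  refine mem_up.2 ⟨hZW hz, ?_⟩
  have : (QuotientAddGroup.mk ⟨z, hZW hz⟩ : W ⧸ Z.addSubgroupOf W) = 0 :=
    (QuotientAddGroup.eq_zero_iff _).2 (AddSubgroup.mem_addSubgroupOf.2 hz)
  rw [this]; exact P.zero_mem

theorem up_le_up {P P' : AddSubgroup (W ⧸ Z.addSubgroupOf W)} : up P ≤ up P' ↔ P ≤ P' := by
  constructor
  · intro h x hx
    induction x using QuotientAddGroup.induction_on with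
    | H w =>
      obtain ⟨h1, h2⟩ := mem_up.1 (h (mem_up.2 ⟨w.2, hx⟩ : (w : U) ∈ up P))
      exact h2
  · intro h u hu
    obtain ⟨h1, h2⟩ := mem_up.1 hu
    exact mem_up.2 ⟨h1, h h2⟩

theorem up_inj {P P' : AddSubgroup (W ⧸ Z.addSubgroupOf W)} (h : up P = up P') : P = P' :=
  le_antisymm (up_le_up.1 h.le) (up_le_up.1 h.ge)

theorem up_top : up (⊤ : AddSubgroup (W ⧸ Z.addSubgroupOf W)) = W := by
  apply le_antisymm (up_le _)
  intro w hw
  exact mem_up.2 ⟨hw, trivial⟩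

theorem up_bot (hZW : Z ≤ W) : up (⊥ : AddSubgroup (W ⧸ Z.addSubgroupOf W)) = Z := by
  apply le_antisymm _ (le_up hZW _)
  intro w hw
  obtain ⟨h1, h2⟩ := mem_up.1 hw
  have := (QuotientAddGroup.eq_zero_iff _).1 (AddSubgroup.mem_bot.1 h2)
  exact AddSubgroup.mem_addSubgroupOf.1 this

theorem card_up (hZW : Z ≤ W) (P : AddSubgroup (W ⧸ Z.addSubgroupOf W)) :
    Nat.card (up P) = Nat.card P * Nat.card Z := by
  have h1 := card_comap_add (QuotientAddGroup.mk' (Z.addSubgroupOf W)) (QuotientAddGroup.mk'_surjective _) P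
  rw [QuotientAddGroup.ker_mk'] at h1
  have h2 : Nat.card (up P) = Nat.card (P.comap (QuotientAddGroup.mk' (Z.addSubgroupOf W))) :=
    (Nat.card_congr (AddSubgroup.equivMapOfInjective _ _ W.subtype_injective).toEquiv).symm
  have h3 : Nat.card (Z.addSubgroupOf W) = Nat.card Z :=
    Nat.card_congr (AddSubgroup.addSubgroupOfEquivOfLe hZW).toEquiv
  rw [h2, h1, h3]

end

/-- **the ring trick**, relative form -/
theorem ring_rel {W Z : AddSubgroup U} {Q : Subgroup Y} (two : ∀ u : U, u + u = 0) (hZW : Z ≤ W)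
    (hQW : ∀ t ∈ Q, ∀ w ∈ W, t • w - w ∈ Z) (hQZ : ∀ t ∈ Q, ∀ z ∈ Z, t • z = z)
    (hL : ∀ w ∈ W, (∀ t ∈ Q, t • w = w) → w ∈ Z)
    (nf : ∀ B ≤ Q, ¬ B ≤ cf Y W →
      2 * (Nat.card B * Nat.card ↥(W ⊓ fx U B)) ≤ Nat.card W * Nat.card ↥(B ⊓ cf Y W)) :
    ∃ I : AddSubgroup U → Prop, I W ∧ I Z ∧ (∀ P, I P → Z ≤ P ∧ P ≤ W) ∧
      (∀ P, I P → ∀ y : Y, (∀ w ∈ W, y • w ∈ W) → (∀ z ∈ Z, y • z = z) → (∀ t ∈ Q, y⁻¹ * t * y ∈ Q) →
        ∀ v ∈ P, y • v ∈ P) ∧
      (∀ P' P, I P' → I P → P' < P → (∀ R, I R → P' ≤ R → R ≤ P → R = P' ∨ R = P) →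
        Nat.card P * (Nat.card Q * Nat.card Z) ≤ Nat.card P' * (Nat.card W * Nat.card ↥(Q ⊓ cf Y W))) := by
  classical
  have hfin : Finite (W →+ Z) := Finite.of_injective (fun f : W →+ Z => (f : W → Z)) DFunLike.coe_injective
  have pZ : 0 < Nat.card Z := Nat.card_pos
  have pQ : 0 < Nat.card ↥(Q ⊓ cf Y W) := Nat.card_pos
  refine ⟨fun P => ∃ P' : AddSubgroup (W ⧸ Z.addSubgroupOf W), Inv (bb hQW hQZ) P' ∧ P = up P', ⟨⊤, ?_, up_top.symm⟩,
    ⟨⊥, ?_, (up_bot hZW).symm⟩, ?_, ?_, ?_⟩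
  · intro f g _ w _; trivial
  · intro f g _ w hw
    rw [AddSubgroup.mem_bot] at hw ⊢
    rw [hw, map_zero]
  · rintro _ ⟨P, -, rfl⟩
    exact ⟨le_up hZW P, up_le P⟩
  · rintro _ ⟨P, hP, rfl⟩ y hyW hyZ hyQ v hv
    obtain ⟨hvW, hvP⟩ := mem_up.1 hv
    let yW : W →+ W :=
      { toFun := fun w => ⟨y • (w : U), hyW w w.2⟩
        map_zero' := Subtype.ext (smul_zero y)
        map_add' := fun a b => Subtype.ext (smul_add y (a : U) b) }
    let f : (W ⧸ Z.addSubgroupOf W) →+ (W ⧸ Z.addSubgroupOf W) :=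
      QuotientAddGroup.map _ _ yW (by
        intro w hw
        rw [AddSubgroup.mem_comap, AddSubgroup.mem_addSubgroupOf]
        have h1 := AddSubgroup.mem_addSubgroupOf.1 hw
        show y • (w : U) ∈ Z
        rw [hyZ _ h1]; exact h1)
    have key : ∀ θ : TH hQW hQZ, θ.1.comp yW ∈ TH hQW hQZ := by
      rintro ⟨_, t, rfl⟩
      refine ⟨⟨y⁻¹ * t * y, hyQ t t.2⟩, ?_⟩
      ext w
      show (y⁻¹ * (t : Y) * y) • (w : U) - w = (t : Y) • (y • (w : U)) - y • (w : U)
      have h1 := hyZ _ (hQW t t.2 _ (hyW w w.2))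
      have h2 : y⁻¹ • ((t : Y) • y • (w : U) - y • (w : U)) = (t : Y) • y • (w : U) - y • (w : U) := by
        rw [inv_smul_eq_iff, h1]
      rw [← h2, smul_sub, inv_smul_smul, mul_smul, mul_smul]
    let g : TH hQW hQZ →+ TH hQW hQZ :=
      { toFun := fun θ => ⟨θ.1.comp yW, key θ⟩
        map_zero' := by
          apply Subtype.ext
          ext w
          rfl
        map_add' := fun θ θ' => by
          apply Subtype.ext
          ext w
          rfl }
    have hfg : ∀ w θ, bb hQW hQZ (f w) θ = bb hQW hQZ w (g θ) := by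
      intro w θ
      induction w using QuotientAddGroup.induction_on with
      | H w => rfl
    have h1 := hP f g hfg _ hvP
    exact mem_up.2 ⟨hyW v hvW, h1⟩
  · rintro _ _ ⟨P', hP', rfl⟩ ⟨P, hP, rfl⟩ hlt hmax
    have hlt' : P' < P := lt_of_le_of_ne (up_le_up.1 hlt.le) fun h => hlt.ne (congrArg up h)
    have hTH := card_TH hQW hQZ
    have hW : Nat.card W = Nat.card (W ⧸ Z.addSubgroupOf W) * Nat.card Z := by
      have h1 := card_up hZW (⊤ : AddSubgroup (W ⧸ Z.addSubgroupOf W))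
      rw [up_top, card_top] at h1
      exact h1
    have h := ring_trick (bb hQW hQZ) (fun w => by
        induction w using QuotientAddGroup.induction_on with
        | H w =>
          have : w + w = 0 := Subtype.ext (two w)
          rw [← QuotientAddGroup.mk_add, this]; rfl)
      (fun θ => by
        apply Subtype.ext
        ext w
        show ((θ.1 w : Z) : U) + θ.1 w = 0
        exact two _)
      (fun w hw => by
        induction w using QuotientAddGroup.induction_on with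
        | H w =>
          refine (QuotientAddGroup.eq_zero_iff _).2 (AddSubgroup.mem_addSubgroupOf.2 (hL w w.2 fun t ht => ?_))
          have h1 := hw ⟨tau hQW ⟨t, ht⟩, ⟨⟨t, ht⟩, rfl⟩⟩
          have h2 : t • (w : U) - w = 0 := congrArg Subtype.val h1
          exact sub_eq_zero.1 h2)
      (fun θ hθ => by
        apply Subtype.ext
        ext w
        exact congrArg Subtype.val (hθ (QuotientAddGroup.mk w)))
      (fun E hE => by
        set B := pre hQW hQZ E with hB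
        have hBQ : B ≤ Q := pre_le hQW hQZ E
        have hBc : ¬ B ≤ cf Y W := by
          intro h1
          apply hE
          rw [AddSubgroup.eq_bot_iff_forall]
          rintro ⟨_, t, rfl⟩ ht
          have h2 : (t : Y) ∈ B := (mem_pre hQW hQZ).2 ⟨t.2, ht⟩
          apply Subtype.ext
          show tau hQW t = 0
          ext w
          show (t : Y) • (w : U) - w = 0
          rw [h1 h2 w w.2, sub_self]
        have h1 := nf B hBQ hBc
        have h2 : Nat.card B = Nat.card E * Nat.card ↥(Q ⊓ cf Y W) := card_pre hQW hQZ E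
        have h3 : B ⊓ cf Y W = Q ⊓ cf Y W := by
          apply le_antisymm (inf_le_inf_right _ hBQ)
          rintro t ⟨ht, htc⟩
          refine ⟨(mem_pre hQW hQZ).2 ⟨ht, ?_⟩, htc⟩
          have : (⟨tau hQW ⟨t, ht⟩, ⟨⟨t, ht⟩, rfl⟩⟩ : TH hQW hQZ) = 0 := by
            apply Subtype.ext
            show tau hQW ⟨t, ht⟩ = 0
            ext w
            show t • (w : U) - w = 0
            rw [htc w w.2, sub_self]
          rw [this]; exact E.zero_mem
        have h4 : W ⊓ fx U B = up (ann (bb hQW hQZ) E) := by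
          ext u
          rw [mem_up]
          constructor
          · rintro ⟨hu, huB⟩
            refine ⟨hu, ?_⟩
            rintro ⟨_, t, rfl⟩ ht
            apply Subtype.ext
            show (t : Y) • u - u = 0
            rw [huB t ((mem_pre hQW hQZ).2 ⟨t.2, ht⟩), sub_self]
          · rintro ⟨hu, h5⟩
            refine ⟨hu, fun t ht => ?_⟩
            obtain ⟨h6, h7⟩ := (mem_pre hQW hQZ).1 ht
            have h8 := h5 _ h7
            have h9 : t • u - u = 0 := congrArg Subtype.val h8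
            exact sub_eq_zero.1 h9
        rw [h4, card_up hZW, h3, h2, hW] at h1
        refine Nat.le_of_mul_le_mul_right ?_ (Nat.mul_pos pQ pZ)
        calc 2 * (Nat.card E * Nat.card (ann (bb hQW hQZ) E)) * (Nat.card ↥(Q ⊓ cf Y W) * Nat.card Z)
            = 2 * (Nat.card E * Nat.card ↥(Q ⊓ cf Y W) * (Nat.card (ann (bb hQW hQZ) E) * Nat.card Z)) := by ring
          _ ≤ _ := h1
          _ = _ := by ring)
      hP hP' hlt' (fun R hR h1 h2 => by
        rcases hmax (up R) ⟨R, hR, rfl⟩ (up_le_up.2 h1) (up_le_up.2 h2) with h3 | h3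
        · exact Or.inl (up_inj h3)
        · exact Or.inr (up_inj h3))
    rw [card_up hZW, card_up hZW, hTH, hW]
    calc Nat.card P * Nat.card Z * (Nat.card (TH hQW hQZ) * Nat.card ↥(Q ⊓ cf Y W) * Nat.card Z)
        = (Nat.card P * Nat.card (TH hQW hQZ)) * (Nat.card Z * (Nat.card ↥(Q ⊓ cf Y W) * Nat.card Z)) := by ring
      _ ≤ (Nat.card P' * Nat.card (W ⧸ Z.addSubgroupOf W)) * (Nat.card Z * (Nat.card ↥(Q ⊓ cf Y W) * Nat.card Z)) :=
        Nat.mul_le_mul_right _ h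
      _ = _ := by ring

end Cfsg.Agent.Omega.NO3b.TheoremL.RingRel

end

section


/-!
# THEOREM L (#18749, helper344), part 3: the module `W = ⟨V^Y⟩ Z` and `Q = ⟨(A ∩ O)^Y⟩`

`Hyp A M V` : `TI A M`, `A` an elementary abelian best offender, minimal in itself, `V` an `M`-invariant not-FF module for
`M`, `V ≰ Z = C_U(Y)`.  `[V, A] = 0`; `[W, Q] ≤ Z`; `Hyp.nfW` : no subgroup of `Q` offends on `W`;
`Hyp.inf_fx_le` : `A ∩ O ≠ 1` implies `C_W(Q) ≤ Z`; `Hyp.theta` : `|B|² |C_Q(W)| ≤ |Q| |C_B(W)|²` for `B ≤ C_Q(A)`.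
-/

set_option autoImplicit false
set_option linter.unusedSectionVars false

namespace Cfsg.Agent.Omega.NO3b.TheoremL.Core1

open Cfsg.Agent.Omega.FF.Basic (fx mem_fx fx_anti card_sup_inf card_le eq_of_card_le card_fib EA mm mm_bot cj mem_cj
  mem_cj_of isPGroup_cj card_cj smul_mem_fx_cj mem_fx_cj card_smul fx_bot)
open Cfsg.Agent.Omega.NO3b.Exit.TT (cf mem_cf nf mem_nf mem_smul smul_mem' nf_smul le_cf card_smul' cf_conj nf_conj
  quad' card_pow two_mul_le_of_pow mm_pow)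
open Cfsg.Agent.Omega.NO3b.TheoremL.Act
open Cfsg.Agent.Omega.NO3b.TheoremL.RingRel (TH tau card_TH)
open Cfsg.Agent.Omega.MinFF (TI)
open Cfsg (pCore)
open scoped Pointwise

variable {Y : Type*} [Group Y] {U : Type*} [AddCommGroup U] [DistribMulAction Y U]

/-- `⟨V^Y⟩ Z` -/
def W (Y : Type*) [Group Y] {U : Type*} [AddCommGroup U] [DistribMulAction Y U] (V : AddSubgroup U) : AddSubgroup U :=
  (⨆ y : Y, y • V) ⊔ fx U (⊤ : Subgroup Y)

/-- `⟨(A ∩ O)^Y⟩` -/
def QQ (A : Subgroup Y) : Subgroup Y := Subgroup.normalClosure ((A ⊓ pCore 2 Y : Subgroup Y) : Set Y)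

/-- The hypotheses without 'not FF'; `VA` : `A` centralises the line `V`. -/
structure Pre {Y : Type*} [Group Y] {U : Type*} [AddCommGroup U] [DistribMulAction Y U] (A M : Subgroup Y)
    (V : AddSubgroup U) : Prop where
  two : ∀ u : U, u + u = 0
  faith : ∀ y : Y, (∀ u : U, y • u = u) → y = 1
  ti : TI A M
  ea : EA A
  off : Nat.card U ≤ mm U A
  min : ∀ E < A, E ≠ ⊥ → mm U E < mm U A
  inv : M ≤ nf Y V
  VA : V ≤ fx U A

/-- The hypotheses.  (`VA`, `nfq` are all that is needed of 'not FF': see `Hyp.of_nff`.) -/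
structure Hyp {Y : Type*} [Group Y] {U : Type*} [AddCommGroup U] [DistribMulAction Y U] (A M : Subgroup Y)
    (V : AddSubgroup U) : Prop extends Pre A M V where
  nfq : ∀ B : Subgroup Y, B ≤ QQ A → ¬ B ≤ cf Y V →
    Nat.card B * Nat.card ↥(V ⊓ fx U B) < Nat.card V * Nat.card ↥(B ⊓ cf Y V)
  nz : ¬ V ≤ fx U (⊤ : Subgroup Y)

theorem Z_le_W (V : AddSubgroup U) : fx U (⊤ : Subgroup Y) ≤ W Y V := le_sup_right

theorem smul_le_W (V : AddSubgroup U) (y : Y) : y • V ≤ W Y V :=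
  (le_iSup (fun y : Y => y • V) y).trans le_sup_left

theorem V_le_W (V : AddSubgroup U) : V ≤ W Y V := by
  have := smul_le_W V (1 : Y)
  rwa [one_smul] at this

theorem W_le {V K : AddSubgroup U} (h1 : ∀ y : Y, y • V ≤ K) (h2 : fx U (⊤ : Subgroup Y) ≤ K) : W Y V ≤ K :=
  sup_le (iSup_le h1) h2

theorem W_inv (V : AddSubgroup U) (y : Y) {v : U} (hv : v ∈ W Y V) : y • v ∈ W Y V := by
  have h1 : W Y V ≤ y⁻¹ • W Y V := by
    refine W_le (fun k => ?_) ?_
    · intro v hv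
      rw [mem_smul, inv_inv]
      apply smul_le_W V (y * k)
      rw [mul_smul]
      exact smul_mem' hv
    · intro v hv
      rw [mem_smul, Q.Z_smul hv]
      exact Z_le_W V hv
  have h2 := h1 hv
  rw [mem_smul, inv_inv] at h2
  exact h2

namespace Pre

variable {A M : Subgroup Y} {V : AddSubgroup U} (h : Pre A M V)
include h

theorem ne_bot : A ≠ ⊥ := by
  intro h0
  obtain ⟨g, hg⟩ := h.ti.exists_not_mem
  apply hg
  apply h.ti.ti
  rw [h0]; exact bot_le

variable [Finite Y] [Finite U]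

theorem toQ : Q U A M where
  two := h.two
  faith := h.faith
  ti := h.ti
  quad := quad' h.two h.ea h.ne_bot h.off h.min

theorem mm_le {E : Subgroup Y} (hE : E ≤ A) : mm U E ≤ mm U A := by
  by_cases h0 : E = ⊥
  · rw [h0, mm_bot]; exact h.off
  · rcases hE.eq_or_lt with h1 | h1
    · rw [h1]
    · exact (h.min E h1 h0).le

theorem two_mul {E : Subgroup Y} (hE : E < A) (h0 : E ≠ ⊥) : 2 * mm U E ≤ mm U A :=
  two_mul_le_of_pow (mm_pow h.two (h.ea.mono hE.le)) (mm_pow h.two h.ea) (h.min E hE h0)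

omit [Finite Y] [Finite U] in
/-- `[V, A] = 0` -/
theorem V_le_C : V ≤ fx U A := h.VA

omit [Finite Y] [Finite U] in
theorem smul_V_le (y : Y) : y • V ≤ y • fx U A := AddSubgroup.pointwise_smul_le_pointwise_smul_iff.2 h.V_le_C

theorem secW : Sec U A (W Y V) where
  Z_le := Z_le_W V
  le_D := W_le (fun y => (h.smul_V_le y).trans (Q.smul_C_le_D y)) ((Q.Z_le A).trans Q.C_le_D)
  inv := fun y _ hv => W_inv V y hv

theorem secZ : Sec U A (fx U (⊤ : Subgroup Y)) where
  Z_le := le_rfl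
  le_D := (Q.Z_le A).trans Q.C_le_D
  inv := fun y v hv => by rw [Q.Z_smul hv]; exact hv

omit h [Finite U] in
theorem QQ_normal : (QQ A).Normal := Subgroup.normalClosure_normal

omit h [Finite U] in
theorem QQ_conj {t : Y} (ht : t ∈ QQ A) (y : Y) : y⁻¹ * t * y ∈ QQ A := by
  have := QQ_normal.conj_mem t ht y⁻¹
  rwa [inv_inv] at this

omit h [Finite U] in
theorem A₁_le : A ⊓ pCore 2 Y ≤ QQ A := Subgroup.le_normalClosure

omit h [Finite U] in
theorem QQ_le : QQ A ≤ pCore 2 Y := by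
  have hn : (pCore 2 Y).Normal := Lib.Cores.pCore_normal 2
  exact Subgroup.normalClosure_le_normal (fun t ht => ht.2)

theorem core_nf (y : Y) : pCore 2 Y ≤ nf Y (y • V) := by
  intro t ht
  rw [nf_conj]
  have hn : (pCore 2 Y).Normal := Lib.Cores.pCore_normal 2
  apply h.inv
  apply h.toQ.core_le
  have := hn.conj_mem t ht y⁻¹
  rwa [inv_inv] at this

/-- `[W, A ∩ O] ≤ Z` -/
theorem comm_A₁ {t : Y} (ht : t ∈ A ⊓ pCore 2 Y) {w : U} (hw : w ∈ W Y V) : t • w - w ∈ fx U (⊤ : Subgroup Y) := by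
  let K : AddSubgroup U :=
    { carrier := {w | t • w - w ∈ fx U (⊤ : Subgroup Y)}
      zero_mem' := by
        show t • (0 : U) - 0 ∈ fx U (⊤ : Subgroup Y)
        rw [smul_zero, sub_zero]; exact zero_mem _
      add_mem' := fun {v w} hv hw => by
        show t • (v + w) - (v + w) ∈ fx U (⊤ : Subgroup Y)
        have e : t • (v + w) - (v + w) = (t • v - v) + (t • w - w) := by rw [smul_add]; abel
        rw [e]; exact add_mem hv hw
      neg_mem' := fun {v} hv => by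
        show t • (-v) - (-v) ∈ fx U (⊤ : Subgroup Y)
        have e : t • (-v) - (-v) = -(t • v - v) := by rw [smul_neg]; abel
        rw [e]; exact neg_mem hv }
  have h1 : W Y V ≤ K := by
    refine W_le (fun y => ?_) ?_
    · intro v hv
      show t • v - v ∈ fx U (⊤ : Subgroup Y)
      by_cases hy : y ∈ M
      · have h2 : y • V = V := h.inv hy
        rw [h2] at hv
        rw [h.V_le_C hv t ht.1, sub_self]; exact zero_mem _
      · have h3 : t • v ∈ y • V := nf_smul (h.core_nf y ht.2) hv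
        have h4 : t • v - v ∈ y • V := sub_mem h3 hv
        exact h.toQ.inf_le hy (fun b hb => h.toQ.quad t ht.1 b hb v) (mem_smul.1 (h.smul_V_le y h4))
    · intro z hz
      show t • z - z ∈ fx U (⊤ : Subgroup Y)
      rw [Q.Z_smul hz, sub_self]; exact zero_mem _
  exact h1 hw

/-- `[W, Q] ≤ Z` -/
theorem comm_QQ {t : Y} (ht : t ∈ QQ A) {w : U} (hw : w ∈ W Y V) : t • w - w ∈ fx U (⊤ : Subgroup Y) := by
  let K : Subgroup Y :=
    { carrier := {t | ∀ w ∈ W Y V, t • w - w ∈ fx U (⊤ : Subgroup Y)}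
      one_mem' := fun w _ => by rw [one_smul, sub_self]; exact zero_mem _
      mul_mem' := fun {s t} hs ht w hw => by
        have e : (s * t) • w - w = (s • (t • w - w)) + (s • w - w) := by rw [mul_smul, smul_sub]; abel
        rw [e, Q.Z_smul (ht w hw)]; exact add_mem (ht w hw) (hs w hw)
      inv_mem' := fun {s} hs w hw => by
        have h1 := hs _ (W_inv V s⁻¹ hw)
        rw [smul_inv_smul] at h1
        have e : s⁻¹ • w - w = -(w - s⁻¹ • w) := by abel
        rw [e]; exact neg_mem h1 }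
  have hK : K.Normal := by
    constructor
    intro t ht g w hw
    have h1 := ht _ (W_inv V g⁻¹ hw)
    have e : (g * t * g⁻¹) • w - w = g • (t • g⁻¹ • w - g⁻¹ • w) := by
      rw [smul_sub, smul_inv_smul, mul_smul, mul_smul]
    rw [e, Q.Z_smul h1]; exact h1
  have h1 : QQ A ≤ K := Subgroup.normalClosure_le_normal fun t ht w hw => h.comm_A₁ ht hw
  exact h1 ht w hw

/-- an element of `Q` is an involution on `W` -/
theorem QQ_sq {t : Y} (ht : t ∈ QQ A) {w : U} (hw : w ∈ W Y V) : t • t • w = w := by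
  have h1 := Q.Z_smul (h.comm_QQ ht hw) t
  have e : t • t • w = (t • (t • w - w)) + t • w := by rw [smul_sub]; abel
  rw [e, h1]
  have e2 : t • w - w + t • w = (t • w + t • w) - w := by abel
  rw [e2, h.two, zero_sub]
  exact neg_eq_of_add_eq_zero_left (h.two w)

end Pre

namespace Hyp

variable [Finite Y]

theorem QQ_normal {A : Subgroup Y} : (QQ A).Normal := Pre.QQ_normal

theorem QQ_conj {A : Subgroup Y} {t : Y} (ht : t ∈ QQ A) (y : Y) : y⁻¹ * t * y ∈ QQ A := Pre.QQ_conj ht y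

theorem A₁_le {A : Subgroup Y} : A ⊓ pCore 2 Y ≤ QQ A := Pre.A₁_le

theorem QQ_le {A : Subgroup Y} : QQ A ≤ pCore 2 Y := Pre.QQ_le

variable [Finite U]

/-- the hypotheses of #18749: `V` is not FF for `M` -/
theorem of_nff {A M : Subgroup Y} {V : AddSubgroup U} (two : ∀ u : U, u + u = 0)
    (faith : ∀ y : Y, (∀ u : U, y • u = u) → y = 1) (ti : TI A M) (ea : EA A) (off : Nat.card U ≤ mm U A)
    (min : ∀ E < A, E ≠ ⊥ → mm U E < mm U A) (inv : M ≤ nf Y V)
    (nff : ∀ B : Subgroup Y, IsPGroup 2 B → B ≤ M → (∀ b ∈ B, ∀ v ∈ V, b • b • v = v) → ¬ B ≤ cf Y V →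
      Nat.card B * Nat.card ↥(V ⊓ fx U B) < Nat.card V * Nat.card ↥(B ⊓ cf Y V))
    (nz : ¬ V ≤ fx U (⊤ : Subgroup Y)) : Hyp A M V := by
  have mm_le : ∀ {E : Subgroup Y}, E ≤ A → mm U E ≤ mm U A := by
    intro E hE
    by_cases h0 : E = ⊥
    · rw [h0, mm_bot]; exact off
    · rcases hE.eq_or_lt with h1 | h1
      · rw [h1]
      · exact (min E h1 h0).le
  have VA : V ≤ fx U A := by
    rw [← le_cf]
    by_contra hne
    have h1 := nff A ea.isPGroup ti.le (fun a ha v _ => by rw [smul_smul, ea a ha, one_smul]) hne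
    set E := A ⊓ cf Y V with hE
    have h2 := mm_le (inf_le_left : E ≤ A)
    have h3 : V ⊔ fx U A ≤ fx U E := sup_le (le_cf.1 inf_le_right) (fx_anti inf_le_left)
    have h4 := card_sup_inf V (fx U A)
    have h5 := card_le h3
    rw [mm, mm] at h2
    have h6 : Nat.card V * Nat.card E ≤ Nat.card A * Nat.card ↥(V ⊓ fx U A) := by
      have p : 0 < Nat.card (fx U A) := Nat.card_pos
      refine Nat.le_of_mul_le_mul_right ?_ p
      calc Nat.card V * Nat.card E * Nat.card (fx U A) = Nat.card E * (Nat.card V * Nat.card (fx U A)) := by ring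
        _ = Nat.card E * (Nat.card ↥(V ⊔ fx U A) * Nat.card ↥(V ⊓ fx U A)) := by rw [h4]
        _ ≤ Nat.card E * (Nat.card (fx U E) * Nat.card ↥(V ⊓ fx U A)) :=
          Nat.mul_le_mul_left _ (Nat.mul_le_mul_right _ h5)
        _ = Nat.card E * Nat.card (fx U E) * Nat.card ↥(V ⊓ fx U A) := by ring
        _ ≤ Nat.card A * Nat.card (fx U A) * Nat.card ↥(V ⊓ fx U A) := Nat.mul_le_mul_right _ h2
        _ = _ := by ring
    exact absurd h1 (not_lt.2 h6)
  have hp : Pre A M V := ⟨two, faith, ti, ea, off, min, inv, VA⟩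
  refine ⟨hp, fun B hB hne => nff B ?_ (fun b hb => hp.toQ.core_le (QQ_le (hB hb))) (fun b hb v hv =>
    hp.QQ_sq (hB hb) (V_le_W V hv)) hne, nz⟩
  exact (Lib.Cores.pCore_isPGroup (G := Y) 2).to_le (hB.trans QQ_le)

variable {A M : Subgroup Y} {V : AddSubgroup U} (h : Hyp A M V)
include h

/-- NF for the lines -/
theorem nfV (y : Y) {B : Subgroup Y} (hB : B ≤ QQ A) (hne : ¬ B ≤ cf Y (y • V)) :
    2 * (Nat.card B * Nat.card ↥(y • V ⊓ fx U B)) ≤ Nat.card V * Nat.card ↥(B ⊓ cf Y (y • V)) := by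
  have hBp : IsPGroup 2 B := (Lib.Cores.pCore_isPGroup (G := Y) 2).to_le (hB.trans QQ_le)
  have hn : (pCore 2 Y).Normal := Lib.Cores.pCore_normal 2
  have h1 := h.nfq (cj y⁻¹ B) (fun b hb => by
      rw [mem_cj, inv_inv] at hb
      have h2 := QQ_conj (hB hb) y
      have e : y⁻¹ * (y * b * y⁻¹) * y = b := by group
      rw [e] at h2
      exact h2) (fun h0 => hne (fun b hb => by
      rw [cf_conj]
      have h2 := h0 (mem_cj_of (g := y⁻¹) hb)
      rwa [inv_inv] at h2))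
  rw [card_cj] at h1
  have e1 : Nat.card ↥(V ⊓ fx U (cj y⁻¹ B)) = Nat.card ↥(y • V ⊓ fx U B) := by
    refine (card_smul y fun v => ?_).symm
    constructor
    · rintro ⟨h2, h3⟩
      exact ⟨mem_smul.1 h2, smul_mem_fx_cj h3⟩
    · rintro ⟨h2, h3⟩
      have h3' := mem_fx_cj.1 h3
      rw [inv_inv, smul_inv_smul] at h3'
      exact ⟨mem_smul.2 h2, h3'⟩
  have e2 : Nat.card ↥(cj y⁻¹ B ⊓ cf Y V) = Nat.card ↥(B ⊓ cf Y (y • V)) := by
    have e3 : cj y⁻¹ B ⊓ cf Y V = cj y⁻¹ (B ⊓ cf Y (y • V)) := by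
      ext a
      rw [mem_cj, inv_inv, Subgroup.mem_inf, Subgroup.mem_inf, mem_cj, inv_inv, cf_conj]
      have e : y⁻¹ * (y * a * y⁻¹) * y = a := by group
      rw [e]
    rw [e3, card_cj]
  rw [e1, e2] at h1
  have hf : Fact (Nat.Prime 2) := ⟨Nat.prime_two⟩
  refine two_mul_le_of_pow ?_ ?_ h1
  · obtain ⟨a, ha⟩ := IsPGroup.iff_card.1 hBp
    obtain ⟨b, hb⟩ := card_pow h.two (y • V ⊓ fx U B)
    exact ⟨a + b, by rw [ha, hb, pow_add]⟩
  · obtain ⟨a, ha⟩ := IsPGroup.iff_card.1 (hBp.to_le (inf_le_left : B ⊓ cf Y (y • V) ≤ B))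
    obtain ⟨b, hb⟩ := card_pow h.two V
    exact ⟨b + a, by rw [ha, hb, pow_add]⟩

/-- NF for `W` -/
theorem nfW : ∀ n : ℕ, ∀ B : Subgroup Y, Nat.card B ≤ n → B ≤ QQ A → ¬ B ≤ cf Y (W Y V) →
    2 * (Nat.card B * Nat.card ↥(W Y V ⊓ fx U B)) ≤ Nat.card (W Y V) * Nat.card ↥(B ⊓ cf Y (W Y V)) := by
  intro n
  induction n with
  | zero =>
    intro B hB
    have : 0 < Nat.card B := Nat.card_pos
    omega
  | succ n ih =>
    intro B hBn hB hne
    have hex : ∃ y : Y, ¬ B ≤ cf Y (y • V) := by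
      by_contra hcon
      push Not at hcon
      apply hne
      rw [le_cf]
      exact W_le (fun y => le_cf.1 (hcon y)) (Q.Z_le B)
    obtain ⟨y, hy⟩ := hex
    set E := B ⊓ cf Y (y • V) with hE
    have hEB : E < B := lt_of_le_of_ne inf_le_left fun h0 => hy (by rw [← h0]; exact inf_le_right)
    have h1 := h.nfV y hB hy
    have h2 : (y • V) ⊔ (W Y V ⊓ fx U B) ≤ W Y V ⊓ fx U E := by
      refine sup_le (le_inf (smul_le_W V y) (le_cf.1 inf_le_right)) ?_
      exact inf_le_inf_left _ (fx_anti hEB.le)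
    have h3 := card_sup_inf (y • V) (W Y V ⊓ fx U B)
    have h4 : (y • V) ⊓ (W Y V ⊓ fx U B) = y • V ⊓ fx U B := by
      rw [← inf_assoc, inf_eq_left.2 (smul_le_W V y)]
    rw [h4, card_smul'] at h3
    have h5 := card_le h2
    have p : 0 < Nat.card ↥(y • V ⊓ fx U B) := Nat.card_pos
    have key : 2 * (Nat.card B * Nat.card ↥(W Y V ⊓ fx U B)) ≤ Nat.card E * Nat.card ↥(W Y V ⊓ fx U E) := by
      refine Nat.le_of_mul_le_mul_right ?_ p
      calc 2 * (Nat.card B * Nat.card ↥(W Y V ⊓ fx U B)) * Nat.card ↥(y • V ⊓ fx U B)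
          = 2 * (Nat.card B * Nat.card ↥(y • V ⊓ fx U B)) * Nat.card ↥(W Y V ⊓ fx U B) := by ring
        _ ≤ Nat.card V * Nat.card E * Nat.card ↥(W Y V ⊓ fx U B) := Nat.mul_le_mul_right _ h1
        _ = Nat.card E * (Nat.card V * Nat.card ↥(W Y V ⊓ fx U B)) := by ring
        _ = Nat.card E * (Nat.card ↥((y • V) ⊔ (W Y V ⊓ fx U B) : AddSubgroup U) * Nat.card ↥(y • V ⊓ fx U B)) := by
          rw [h3]
        _ = Nat.card E * Nat.card ↥((y • V) ⊔ (W Y V ⊓ fx U B) : AddSubgroup U) * Nat.card ↥(y • V ⊓ fx U B) := by ring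
        _ ≤ Nat.card E * Nat.card ↥(W Y V ⊓ fx U E) * Nat.card ↥(y • V ⊓ fx U B) :=
          Nat.mul_le_mul_right _ (Nat.mul_le_mul_left _ h5)
    refine key.trans ?_
    by_cases hEc : E ≤ cf Y (W Y V)
    · have h6 : E ≤ B ⊓ cf Y (W Y V) := le_inf hEB.le hEc
      calc Nat.card E * Nat.card ↥(W Y V ⊓ fx U E) ≤ Nat.card ↥(B ⊓ cf Y (W Y V)) * Nat.card (W Y V) :=
            Nat.mul_le_mul (Subgroup.card_le_of_le h6) (card_le inf_le_left)
        _ = _ := by ring
    · have hcard : Nat.card E < Nat.card B := by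
        by_contra hc
        push Not at hc
        exact hEB.ne (Subgroup.eq_of_le_of_card_ge hEB.le hc)
      have h7 := ih E (by omega) (hEB.le.trans hB) hEc
      have h8 : Nat.card ↥(E ⊓ cf Y (W Y V)) ≤ Nat.card ↥(B ⊓ cf Y (W Y V)) :=
        Subgroup.card_le_of_le (inf_le_inf_right _ hEB.le)
      calc Nat.card E * Nat.card ↥(W Y V ⊓ fx U E) ≤ 2 * (Nat.card E * Nat.card ↥(W Y V ⊓ fx U E)) := by omega
        _ ≤ Nat.card (W Y V) * Nat.card ↥(E ⊓ cf Y (W Y V)) := h7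
        _ ≤ _ := Nat.mul_le_mul_left _ h8

theorem A₁_lt : A ⊓ pCore 2 Y < A :=
  lt_of_le_of_ne inf_le_left fun h0 => h.ti.not_le_pCore (by rw [← h0]; exact inf_le_right)

/-- `C_W(Q) ≤ Z` -/
theorem inf_fx_le (hne : A ⊓ pCore 2 Y ≠ ⊥) : W Y V ⊓ fx U (QQ A) ≤ fx U (⊤ : Subgroup Y) := by
  set P := W Y V ⊓ fx U (QQ A) with hP
  have hs : Sec U A P :=
    { Z_le := le_inf (Z_le_W V) (Q.Z_le _)
      le_D := inf_le_left.trans h.secW.le_D
      inv := fun y v hv => ⟨W_inv V y hv.1, fun t ht => by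
        have h1 := hv.2 _ (QQ_conj ht y)
        have e : t • y • v = y • (y⁻¹ * t * y) • v := by
          rw [smul_smul, smul_smul]; congr 1; group
        rw [e, h1]⟩ }
  by_contra hcon
  have hlt : fx U (⊤ : Subgroup Y) < P := lt_of_le_of_ne hs.Z_le fun h0 => hcon h0.ge
  have h1 := hs.index h.toQ h.secZ hlt
  have h2 : fx U (⊤ : Subgroup Y) ⊓ fx U A = fx U (⊤ : Subgroup Y) := inf_eq_left.2 (Q.Z_le A)
  rw [h2] at h1
  have h3 := h.two_mul h.A₁_lt hne
  have h4 : P ⊔ fx U A ≤ fx U (A ⊓ pCore 2 Y) :=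
    sup_le (inf_le_right.trans (fx_anti A₁_le)) (fx_anti inf_le_left)
  have h5 := card_le h4
  have h6 := card_sup_inf P (fx U A)
  have h7 := hs.card h.toQ
  rw [mm, mm] at h3
  have pC : 0 < Nat.card (fx U A) := Nat.card_pos
  have pZ : 0 < Nat.card (fx U (⊤ : Subgroup Y)) := Nat.card_pos
  have pP : 0 < Nat.card ↥(P ⊓ fx U A) := Nat.card_pos
  have pA : 0 < Nat.card ↥(A ⊓ pCore 2 Y) := Nat.card_pos
  set a := Nat.card A
  set a1 := Nat.card ↥(A ⊓ pCore 2 Y)
  set c := Nat.card (fx U A)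
  set z := Nat.card (fx U (⊤ : Subgroup Y))
  set pc := Nat.card ↥(P ⊓ fx U A)
  set p := Nat.card P
  -- `2 a1 p ≤ a pc`
  have h8 : 2 * a1 * p ≤ a * pc := by
    refine Nat.le_of_mul_le_mul_right ?_ pC
    calc 2 * a1 * p * c = 2 * a1 * (p * c) := by ring
      _ = 2 * a1 * (Nat.card ↥(P ⊔ fx U A) * pc) := by rw [h6]
      _ = 2 * (a1 * Nat.card ↥(P ⊔ fx U A)) * pc := by ring
      _ ≤ 2 * (a1 * Nat.card (fx U (A ⊓ pCore 2 Y))) * pc :=
        Nat.mul_le_mul_right _ (Nat.mul_le_mul_left _ (Nat.mul_le_mul_left _ h5))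
      _ ≤ (a * c) * pc := Nat.mul_le_mul_right _ h3
      _ = a * pc * c := by ring
  have h9 : 2 * a1 * pc ≤ a * z := by
    refine Nat.le_of_mul_le_mul_right ?_ pP
    calc 2 * a1 * pc * pc = 2 * a1 * (pc * pc) := by ring
      _ = 2 * a1 * (p * z) := by rw [h7]
      _ = (2 * a1 * p) * z := by ring
      _ ≤ (a * pc) * z := Nat.mul_le_mul_right _ h8
      _ = a * z * pc := by ring
  have h10 : 2 * (a1 * pc) ≤ a1 * pc := by
    calc 2 * (a1 * pc) = 2 * a1 * pc := by ring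
      _ ≤ a * z := h9
      _ ≤ a1 * pc := h1
  have : 0 < a1 * pc := Nat.mul_pos pA pP
  omega

/-- `|B|² |C_Q(W)| ≤ |Q| |C_B(W)|²` for `B ≤ C_Q(A)` -/
theorem theta {B : Subgroup Y} (hB : B ≤ QQ A) (hc : ∀ b ∈ B, ∀ a ∈ A, a * b = b * a) :
    Nat.card B * Nat.card B * Nat.card ↥(QQ A ⊓ cf Y (W Y V)) ≤
      Nat.card (QQ A) * (Nat.card ↥(B ⊓ cf Y (W Y V)) * Nat.card ↥(B ⊓ cf Y (W Y V))) := by
  classical
  obtain ⟨g, hg⟩ := h.ti.exists_not_mem
  set Z := fx U (⊤ : Subgroup Y) with hZ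
  have hfin : Finite (W Y V →+ Z) := Finite.of_injective (fun f : W Y V →+ Z => (f : W Y V → Z)) DFunLike.coe_injective
  have hQW : ∀ t ∈ QQ A, ∀ w ∈ W Y V, t • w - w ∈ Z := fun t ht w hw => h.comm_QQ ht hw
  have hQZ : ∀ t ∈ QQ A, ∀ z ∈ Z, t • z = z := fun t _ z hz => Q.Z_smul hz t
  have hB' : cj g B ≤ QQ A := by
    intro t ht
    have h1 := QQ_conj (hB (mem_cj.1 ht)) g⁻¹
    have e : g⁻¹⁻¹ * (g⁻¹ * t * g) * g⁻¹ = t := by group
    rwa [e] at h1
  let T₁ := TH (W := W Y V) (Z := Z) (Q := B) (fun t ht => hQW t (hB ht)) (fun t ht => hQZ t (hB ht))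
  let T₂ := TH (W := W Y V) (Z := Z) (Q := cj g B) (fun t ht => hQW t (hB' ht)) (fun t ht => hQZ t (hB' ht))
  let T := TH (W := W Y V) (Z := Z) (Q := QQ A) hQW hQZ
  have hT₁ : T₁ ≤ T := by
    rintro _ ⟨t, rfl⟩
    exact ⟨⟨t, hB t.2⟩, rfl⟩
  have hT₂ : T₂ ≤ T := by
    rintro _ ⟨t, rfl⟩
    exact ⟨⟨t, hB' t.2⟩, rfl⟩
  have c₁ : Nat.card B = Nat.card T₁ * Nat.card ↥(B ⊓ cf Y (W Y V)) := card_TH _ _
  have c₂ : Nat.card (cj g B) = Nat.card T₂ * Nat.card ↥(cj g B ⊓ cf Y (W Y V)) := card_TH _ _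
  have c : Nat.card (QQ A) = Nat.card T * Nat.card ↥(QQ A ⊓ cf Y (W Y V)) := card_TH _ _
  have e2 : Nat.card ↥(cj g B ⊓ cf Y (W Y V)) = Nat.card ↥(B ⊓ cf Y (W Y V)) := by
    have e3 : cj g B ⊓ cf Y (W Y V) = cj g (B ⊓ cf Y (W Y V)) := by
      ext a
      rw [Subgroup.mem_inf, mem_cj, mem_cj, Subgroup.mem_inf]
      refine and_congr_right fun _ => ?_
      constructor
      · intro h1 w hw
        have h2 := h1 _ (W_inv V g hw)
        rw [mul_smul, mul_smul, h2, inv_smul_smul]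
      · intro h1 w hw
        have h2 := h1 _ (W_inv V g⁻¹ hw)
        rw [mul_smul, mul_smul, smul_inv_smul, inv_smul_eq_iff, smul_inv_smul] at h2
        exact h2
    rw [e3, card_cj]
  rw [card_cj, e2] at c₂
  have hinf : T₁ ⊓ T₂ = ⊥ := by
    rw [AddSubgroup.eq_bot_iff_forall]
    rintro θ ⟨⟨s, hs⟩, ⟨t, ht⟩⟩
    have hs' : ∀ w : W Y V, ((θ w : Z) : U) = (s : Y) • (w : U) - w := fun w => by rw [← hs]; rfl
    have ht' : ∀ w : W Y V, ((θ w : Z) : U) = (t : Y) • (w : U) - w := fun w => by rw [← ht]; rfl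
    have hθZ : ∀ w : W Y V, (w : U) ∈ Z → θ w = 0 := by
      intro w hw
      apply Subtype.ext
      rw [hs', Q.Z_smul hw, sub_self]; rfl
    -- `θ ∘ y = θ`
    have hinv : ∀ (y : Y) (w : W Y V), θ ⟨y • (w : U), W_inv V y w.2⟩ = θ w := by
      let K : Subgroup Y :=
        { carrier := {y | ∀ w : W Y V, θ ⟨y • (w : U), W_inv V y w.2⟩ = θ w}
          one_mem' := fun w => by
            congr 1
            exact Subtype.ext (one_smul _ _)
          mul_mem' := fun {x y} hx hy w => by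
            have h1 := hx ⟨y • (w : U), W_inv V y w.2⟩
            have h2 := hy w
            rw [← h2, ← h1]
            congr 1
            exact Subtype.ext (mul_smul _ _ _)
          inv_mem' := fun {x} hx w => by
            have h1 := hx ⟨x⁻¹ • (w : U), W_inv V x⁻¹ w.2⟩
            rw [← h1]
            congr 1
            exact Subtype.ext (smul_inv_smul _ _) }
      have h1 : A ≤ K := by
        intro a ha w
        apply Subtype.ext
        rw [hs', hs']
        show (s : Y) • a • (w : U) - a • (w : U) = (s : Y) • (w : U) - w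
        have h2 := hc s s.2 a ha
        rw [smul_smul, ← h2, mul_smul, ← smul_sub]
        have h3 : (s : Y) • (w : U) - w ∈ Z := hQW s (hB s.2) w w.2
        exact Q.Z_smul h3 a
      have h2 : MulAut.conj g • A ≤ K := by
        intro a ha w
        have ha' := MinFF.mem_cj.1 ha
        apply Subtype.ext
        rw [ht', ht']
        show (t : Y) • a • (w : U) - a • (w : U) = (t : Y) • (w : U) - w
        have h2 := hc _ (mem_cj.1 t.2) _ ha'
        have h3 : a * (t : Y) = t * a := by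
          have e1 : g⁻¹ * a * g * (g⁻¹ * (t : Y) * g) = g⁻¹ * (a * t) * g := by group
          have e2 : g⁻¹ * (t : Y) * g * (g⁻¹ * a * g) = g⁻¹ * (t * a) * g := by group
          rw [e1, e2] at h2
          exact mul_left_cancel (mul_right_cancel h2)
        rw [smul_smul, ← h3, mul_smul, ← smul_sub]
        have h4 : (t : Y) • (w : U) - w ∈ Z := hQW t (hB' t.2) w w.2
        exact Q.Z_smul h4 a
      have h3 := sup_le h1 h2
      rw [h.ti.sup_eq_top hg] at h3
      intro y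
      exact h3 (Subgroup.mem_top y)
    -- `θ = 0` on `W ∩ C`
    obtain ⟨a, ha, haO⟩ := SetLike.not_le_iff_exists.1 h.ti.not_le_pCore
    have hC : ∀ w : W Y V, (w : U) ∈ fx U A → θ w = 0 := by
      intro w hw
      obtain ⟨v, hv, -, h1⟩ := h.secW.surj h.toQ hg ha haO (c := (w : U)) ⟨w.2, hw⟩
      have h2 : θ (⟨a • v, W_inv V a hv⟩ - ⟨v, hv⟩ - w) = 0 := hθZ _ h1
      rw [map_sub, map_sub, hinv a ⟨v, hv⟩, sub_self, zero_sub, neg_eq_zero] at h2
      exact h2
    apply AddMonoidHom.ext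
    intro w
    have hw : (w : U) ∈ (W Y V ⊓ fx U A) ⊔ g • (W Y V ⊓ fx U A) := by
      rw [h.secW.sup_eq h.toQ hg]; exact w.2
    obtain ⟨c₁, h₁, c₂, h₂, e⟩ := AddSubgroup.mem_sup.1 hw
    rw [mem_smul] at h₂
    have e' : w = ⟨c₁, h₁.1⟩ + ⟨g • (g⁻¹ • c₂), W_inv V g h₂.1⟩ := by
      apply Subtype.ext
      show (w : U) = c₁ + g • g⁻¹ • c₂
      rw [smul_inv_smul, e]
    rw [e', map_add, hC _ h₁.2, hinv g ⟨g⁻¹ • c₂, h₂.1⟩, hC _ h₂.2, add_zero]
    rfl
  have hcard := card_sup_inf T₁ T₂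
  rw [hinf] at hcard
  have h1 : Nat.card (⊥ : AddSubgroup (W Y V →+ Z)) = 1 := AddSubgroup.card_bot
  rw [h1, mul_one] at hcard
  have h2 := card_le (sup_le hT₁ hT₂)
  have h3 : Nat.card T₁ = Nat.card T₂ := by
    have p : 0 < Nat.card ↥(B ⊓ cf Y (W Y V)) := Nat.card_pos
    exact Nat.eq_of_mul_eq_mul_right p (by rw [← c₁, ← c₂])
  rw [c, c₁]
  calc Nat.card T₁ * Nat.card ↥(B ⊓ cf Y (W Y V)) * (Nat.card T₁ * Nat.card ↥(B ⊓ cf Y (W Y V))) *
        Nat.card ↥(QQ A ⊓ cf Y (W Y V))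
      = (Nat.card T₁ * Nat.card T₁) * (Nat.card ↥(QQ A ⊓ cf Y (W Y V)) *
        (Nat.card ↥(B ⊓ cf Y (W Y V)) * Nat.card ↥(B ⊓ cf Y (W Y V)))) := by ring
    _ ≤ Nat.card T * (Nat.card ↥(QQ A ⊓ cf Y (W Y V)) *
        (Nat.card ↥(B ⊓ cf Y (W Y V)) * Nat.card ↥(B ⊓ cf Y (W Y V)))) := by
        refine Nat.mul_le_mul_right _ ?_
        calc Nat.card T₁ * Nat.card T₁ = Nat.card T₁ * Nat.card T₂ := by rw [← h3]
          _ = Nat.card ↥(T₁ ⊔ T₂) := hcard.symm
          _ ≤ Nat.card T := h2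
    _ = _ := by ring

end Hyp

end Cfsg.Agent.Omega.NO3b.TheoremL.Core1

end

end

-- merged: Cfsg.Agent.Mrg.Omega.NO3b.TheoremL.Core2
section

section


/-!
# THEOREM L (#18749, helper344), part 4: simple sections and the irreducibility of `M` on `C_N(A)`

`Hyp.sections` : an inclusion-closed family `I` of `Y`-invariant subgroups between `Z` and `W` such that
`|P / P'| ≤ |A : A ∩ O|²` for all `I`-simple sections;
`Hyp.irr` : an `M`-invariant subgroup of `W ∩ C`, not in `Z`, has order at least `|A : A ∩ O|` modulo `Z`.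
-/

set_option autoImplicit false
set_option linter.unusedSectionVars false

namespace Cfsg.Agent.Omega.NO3b.TheoremL.Core2

open Cfsg.Agent.Omega.FF.Basic (fx mem_fx fx_anti card_sup_inf card_le eq_of_card_le card_fib EA mm mm_bot cj mem_cj
  mem_cj_of isPGroup_cj card_cj smul_mem_fx_cj mem_fx_cj card_smul fx_bot)
open Cfsg.Agent.Omega.NO3b.Exit.TT (cf mem_cf nf mem_nf mem_smul smul_mem' nf_smul le_cf card_smul' cf_conj nf_conj
  quad' card_pow two_mul_le_of_pow mm_pow)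
open Cfsg.Agent.Omega.NO3b.TheoremL.Act
open Cfsg.Agent.Omega.NO3b.TheoremL.Core1
open Cfsg.Agent.Omega.NO3b.TheoremL.RingRel (ring_rel)
open Cfsg.Agent.Omega.MinFF (TI)
open Cfsg (pCore)
open scoped Pointwise

variable {Y : Type*} [Group Y] [Finite Y] {U : Type*} [AddCommGroup U] [Finite U] [DistribMulAction Y U]
  {A M : Subgroup Y} {V : AddSubgroup U}

/-- a family of `Y`-invariant subgroups with small simple sections -/
structure Fam (A : Subgroup Y) (V : AddSubgroup U) (I : AddSubgroup U → Prop) : Prop where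
  top : I (W Y V)
  bot : I (fx U (⊤ : Subgroup Y))
  sec : ∀ P, I P → Sec U A P
  le : ∀ P, I P → P ≤ W Y V
  small : ∀ P' P, I P' → I P → P' < P → (∀ R, I R → P' ≤ R → R ≤ P → R = P' ∨ R = P) →
    Nat.card P * (Nat.card ↥(A ⊓ pCore 2 Y) * Nat.card ↥(A ⊓ pCore 2 Y)) ≤
      Nat.card P' * (Nat.card A * Nat.card A)

/-- `|W : C_W(A)| |C_A(W)| ≤ |A|` -/
theorem w_le (h : Hyp A M V) : Nat.card (W Y V) * (Nat.card ↥(A ⊓ cf Y (W Y V)) * Nat.card ↥(A ⊓ cf Y (W Y V))) ≤
    Nat.card A * Nat.card A * Nat.card (fx U (⊤ : Subgroup Y)) := by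
  have h1 := h.mm_le (inf_le_left : A ⊓ cf Y (W Y V) ≤ A)
  have h2 : W Y V ⊔ fx U A ≤ fx U (A ⊓ cf Y (W Y V)) := sup_le (le_cf.1 inf_le_right) (fx_anti inf_le_left)
  have h3 := card_sup_inf (W Y V) (fx U A)
  have h4 := card_le h2
  have h5 := h.secW.card h.toQ
  rw [mm, mm] at h1
  have pC : 0 < Nat.card (fx U A) := Nat.card_pos
  have pW : 0 < Nat.card (W Y V) := Nat.card_pos
  set s := Nat.card ↥(A ⊓ cf Y (W Y V))
  set a := Nat.card A
  set c := Nat.card (fx U A)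
  set w := Nat.card (W Y V)
  set wc := Nat.card ↥(W Y V ⊓ fx U A)
  set z := Nat.card (fx U (⊤ : Subgroup Y))
  have h6 : w * s ≤ a * wc := by
    refine Nat.le_of_mul_le_mul_right ?_ pC
    calc w * s * c = s * (w * c) := by ring
      _ = s * (Nat.card ↥(W Y V ⊔ fx U A) * wc) := by rw [h3]
      _ = s * Nat.card ↥(W Y V ⊔ fx U A) * wc := by ring
      _ ≤ s * Nat.card (fx U (A ⊓ cf Y (W Y V))) * wc := Nat.mul_le_mul_right _ (Nat.mul_le_mul_left _ h4)
      _ ≤ a * c * wc := Nat.mul_le_mul_right _ h1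
      _ = a * wc * c := by ring
  refine Nat.le_of_mul_le_mul_left ?_ pW
  calc w * (w * (s * s)) = (w * s) * (w * s) := by ring
    _ ≤ (a * wc) * (a * wc) := Nat.mul_le_mul h6 h6
    _ = a * a * (wc * wc) := by ring
    _ = a * a * (w * z) := by rw [h5]
    _ = w * (a * a * z) := by ring

/-- the hypotheses of `ring_rel` for `W` -/
theorem ring_W (h : Hyp A M V) (hne : A ⊓ pCore 2 Y ≠ ⊥) :
    ∃ I : AddSubgroup U → Prop, I (W Y V) ∧ I (fx U (⊤ : Subgroup Y)) ∧
      (∀ P, I P → fx U (⊤ : Subgroup Y) ≤ P ∧ P ≤ W Y V) ∧ (∀ P, I P → ∀ y : Y, ∀ v ∈ P, y • v ∈ P) ∧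
      (∀ P' P, I P' → I P → P' < P → (∀ R, I R → P' ≤ R → R ≤ P → R = P' ∨ R = P) →
        Nat.card P * (Nat.card (QQ A) * Nat.card (fx U (⊤ : Subgroup Y))) ≤
          Nat.card P' * (Nat.card (W Y V) * Nat.card ↥(QQ A ⊓ cf Y (W Y V)))) := by
  obtain ⟨I, h1, h2, h3, h4, h5⟩ := ring_rel (W := W Y V) (Z := fx U (⊤ : Subgroup Y)) (Q := QQ A) h.two (Z_le_W V)
    (fun t ht w hw => h.comm_QQ ht hw) (fun t _ z hz => Q.Z_smul hz t) (fun w hw hf => h.inf_fx_le hne ⟨hw, hf⟩)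
    (fun B hB hBc => h.nfW _ B le_rfl hB hBc)
  exact ⟨I, h1, h2, h3, fun P hP y v hv => h4 P hP y (fun w hw => W_inv V y hw) (fun z hz => Q.Z_smul hz y)
    (fun t ht => Hyp.QQ_conj ht y) v hv, h5⟩

/-- the family `I` -/
theorem sections (h : Hyp A M V) : ∃ I : AddSubgroup U → Prop, Fam A V I := by
  have hw := w_le h
  have pZ : 0 < Nat.card (fx U (⊤ : Subgroup Y)) := Nat.card_pos
  by_cases hne : A ⊓ pCore 2 Y = ⊥
  · refine ⟨fun P => Sec U A P ∧ P ≤ W Y V, ⟨h.secW, le_rfl⟩, ⟨h.secZ, Z_le_W V⟩, fun P hP => hP.1, fun P hP => hP.2, ?_⟩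
    intro P' P hP' hP _ _
    rw [hne, Subgroup.card_bot, one_mul, mul_one]
    have h1 : 1 ≤ Nat.card ↥(A ⊓ cf Y (W Y V)) := Nat.card_pos
    calc Nat.card P ≤ Nat.card (W Y V) := card_le hP.2
      _ = Nat.card (W Y V) * (1 * 1) := by ring
      _ ≤ Nat.card (W Y V) * (Nat.card ↥(A ⊓ cf Y (W Y V)) * Nat.card ↥(A ⊓ cf Y (W Y V))) :=
        Nat.mul_le_mul_left _ (Nat.mul_le_mul h1 h1)
      _ ≤ Nat.card A * Nat.card A * Nat.card (fx U (⊤ : Subgroup Y)) := hw
      _ ≤ Nat.card A * Nat.card A * Nat.card P' := Nat.mul_le_mul_left _ (card_le hP'.1.Z_le)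
      _ = _ := by ring
  · obtain ⟨I, h1, h2, h3, h4, h5⟩ := ring_W h hne
    refine ⟨I, h1, h2, fun P hP => ⟨(h3 P hP).1, (h3 P hP).2.trans h.secW.le_D, h4 P hP⟩, fun P hP => (h3 P hP).2, ?_⟩
    intro P' P hP' hP hlt hmax
    have h6 := h5 P' P hP' hP hlt hmax
    have h7 := h.theta (B := A ⊓ pCore 2 Y) Hyp.A₁_le fun b hb a ha => h.ea.comm ha hb.1
    have h8 : Nat.card ↥(A ⊓ pCore 2 Y ⊓ cf Y (W Y V)) ≤ Nat.card ↥(A ⊓ cf Y (W Y V)) :=
      Subgroup.card_le_of_le (inf_le_inf_right _ inf_le_left)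
    have pK : 0 < Nat.card ↥(QQ A ⊓ cf Y (W Y V)) := Nat.card_pos
    set a := Nat.card A
    set a1 := Nat.card ↥(A ⊓ pCore 2 Y)
    set s := Nat.card ↥(A ⊓ cf Y (W Y V))
    set s1 := Nat.card ↥(A ⊓ pCore 2 Y ⊓ cf Y (W Y V))
    set k := Nat.card ↥(QQ A ⊓ cf Y (W Y V))
    set q := Nat.card (QQ A)
    set z := Nat.card (fx U (⊤ : Subgroup Y))
    set w := Nat.card (W Y V)
    set p := Nat.card P
    set p' := Nat.card P'
    have h9 : a1 * a1 * k ≤ q * (s * s) := h7.trans (Nat.mul_le_mul_left _ (Nat.mul_le_mul h8 h8))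
    refine Nat.le_of_mul_le_mul_right ?_ (Nat.mul_pos pK pZ)
    calc p * (a1 * a1) * (k * z) = (p * z) * (a1 * a1 * k) := by ring
      _ ≤ (p * z) * (q * (s * s)) := Nat.mul_le_mul_left _ h9
      _ = (p * (q * z)) * (s * s) := by ring
      _ ≤ (p' * (w * k)) * (s * s) := Nat.mul_le_mul_right _ h6
      _ = (p' * k) * (w * (s * s)) := by ring
      _ ≤ (p' * k) * (a * a * z) := Nat.mul_le_mul_left _ hw
      _ = p' * (a * a) * (k * z) := by ring

theorem le_of_sq {a b : ℕ} (h : a * a ≤ b * b) : a ≤ b := by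
  by_contra hc
  push Not at hc
  have := Nat.mul_self_lt_mul_self hc
  omega

/-- **`M` is irreducible on `C_N(A)`** -/
theorem irr (h : Hyp A M V) {B₀ : AddSubgroup U} (hM : ∀ m ∈ M, ∀ v ∈ B₀, m • v ∈ B₀)
    (hZ : fx U (⊤ : Subgroup Y) ≤ B₀) (hC : B₀ ≤ fx U A) (hW : B₀ ≤ W Y V) (hne : ¬ B₀ ≤ fx U (⊤ : Subgroup Y)) :
    Nat.card A * Nat.card (fx U (⊤ : Subgroup Y)) ≤ Nat.card ↥(A ⊓ pCore 2 Y) * Nat.card B₀ := by
  classical
  obtain ⟨I, f⟩ := sections h
  -- `P`
  obtain ⟨P, ⟨hIP, hPne⟩, hPmin⟩ := Set.exists_min_image {P : AddSubgroup U | I P ∧ ¬ B₀ ⊓ P ≤ fx U (⊤ : Subgroup Y)}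
    (fun P => Nat.card P) (Set.toFinite _) ⟨W Y V, f.top, by rwa [inf_eq_left.2 hW]⟩
  have sP := f.sec P hIP
  have hltZ : fx U (⊤ : Subgroup Y) < P := lt_of_le_of_ne sP.Z_le fun h0 => hPne (by rw [← h0]; exact inf_le_right)
  obtain ⟨P', ⟨hIP', hlt⟩, hPmax⟩ := Set.exists_max_image {P' : AddSubgroup U | I P' ∧ P' < P}
    (fun P => Nat.card P) (Set.toFinite _) ⟨_, f.bot, hltZ⟩
  have sP' := f.sec P' hIP'
  have hinf : B₀ ⊓ P' ≤ fx U (⊤ : Subgroup Y) := by
    by_contra hcon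
    have h1 := hPmin P' ⟨hIP', hcon⟩
    exact hlt.ne (eq_of_card_le hlt.le h1)
  have hsm := f.small P' P hIP' hIP hlt fun R hR h1 h2 => by
    rcases h2.eq_or_lt with h3 | h3
    · exact Or.inr h3
    · exact Or.inl (eq_of_card_le h1 (hPmax R ⟨hR, h3⟩)).symm
  have pZ : 0 < Nat.card (fx U (⊤ : Subgroup Y)) := Nat.card_pos
  have pA1 : 0 < Nat.card ↥(A ⊓ pCore 2 Y) := Nat.card_pos
  have cP := sP.card h.toQ
  have cP' := sP'.card h.toQ
  -- `Y`-simple
  have simple : ∀ R : AddSubgroup U, Sec U A R → P' ≤ R → R ≤ P → R ≠ P' → R = P := by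
    intro R hR h1 h2 h3
    have h4 := hR.index h.toQ sP' (lt_of_le_of_ne h1 h3.symm)
    have cR := hR.card h.toQ
    refine eq_of_card_le h2 ?_
    refine Nat.le_of_mul_le_mul_right ?_ (Nat.mul_pos (Nat.mul_pos pA1 pA1) pZ)
    calc Nat.card P * (Nat.card ↥(A ⊓ pCore 2 Y) * Nat.card ↥(A ⊓ pCore 2 Y) * Nat.card (fx U (⊤ : Subgroup Y)))
        = Nat.card P * (Nat.card ↥(A ⊓ pCore 2 Y) * Nat.card ↥(A ⊓ pCore 2 Y)) *
          Nat.card (fx U (⊤ : Subgroup Y)) := by ring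
      _ ≤ Nat.card P' * (Nat.card A * Nat.card A) * Nat.card (fx U (⊤ : Subgroup Y)) := Nat.mul_le_mul_right _ hsm
      _ = Nat.card A * Nat.card A * (Nat.card P' * Nat.card (fx U (⊤ : Subgroup Y))) := by ring
      _ = (Nat.card A * Nat.card ↥(P' ⊓ fx U A)) * (Nat.card A * Nat.card ↥(P' ⊓ fx U A)) := by rw [cP']; ring
      _ ≤ (Nat.card ↥(A ⊓ pCore 2 Y) * Nat.card ↥(R ⊓ fx U A)) * (Nat.card ↥(A ⊓ pCore 2 Y) * Nat.card ↥(R ⊓ fx U A)) :=
        Nat.mul_le_mul h4 h4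
      _ = Nat.card ↥(A ⊓ pCore 2 Y) * Nat.card ↥(A ⊓ pCore 2 Y) *
          (Nat.card ↥(R ⊓ fx U A) * Nat.card ↥(R ⊓ fx U A)) := by ring
      _ = _ := by rw [← cR]; ring
  have hPC : Nat.card ↥(P ⊓ fx U A) * Nat.card ↥(A ⊓ pCore 2 Y) ≤ Nat.card ↥(P' ⊓ fx U A) * Nat.card A := by
    apply le_of_sq
    calc Nat.card ↥(P ⊓ fx U A) * Nat.card ↥(A ⊓ pCore 2 Y) * (Nat.card ↥(P ⊓ fx U A) * Nat.card ↥(A ⊓ pCore 2 Y))
        = (Nat.card ↥(P ⊓ fx U A) * Nat.card ↥(P ⊓ fx U A)) *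
          (Nat.card ↥(A ⊓ pCore 2 Y) * Nat.card ↥(A ⊓ pCore 2 Y)) := by ring
      _ = (Nat.card P * (Nat.card ↥(A ⊓ pCore 2 Y) * Nat.card ↥(A ⊓ pCore 2 Y))) *
          Nat.card (fx U (⊤ : Subgroup Y)) := by rw [← cP]; ring
      _ ≤ (Nat.card P' * (Nat.card A * Nat.card A)) * Nat.card (fx U (⊤ : Subgroup Y)) := Nat.mul_le_mul_right _ hsm
      _ = (Nat.card P' * Nat.card (fx U (⊤ : Subgroup Y))) * (Nat.card A * Nat.card A) := by ring
      _ = _ := by rw [cP']; ring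
  set B := B₀ ⊓ P with hB
  have hBM : ∀ m ∈ M, ∀ v ∈ B, m • v ∈ B := fun m hm v hv => ⟨hM m hm v hv.1, sP.inv m v hv.2⟩
  -- `[v, A] P' ≥ P ∩ C`
  have hsurj : ∀ g : Y, g ∉ M → ∀ c₂ ∈ B, c₂ ∉ P' → ∀ c ∈ P ⊓ fx U A, ∃ a ∈ A, (a • g • c₂ - g • c₂) - c ∈ P' := by
    intro g hg c₂ hc₂ hc₂' c hc
    set v := g • c₂ with hv
    have hvP : v ∈ P := sP.inv g _ hc₂.2
    have hvg : g⁻¹ • v ∈ fx U A := by rw [hv, inv_smul_smul]; exact hC hc₂.1
    have hvP' : v ∉ P' := fun h0 => hc₂' (by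
      have := sP'.inv g⁻¹ _ h0
      rwa [hv, inv_smul_smul] at this)
    have hadd : ∀ a ∈ A, ∀ b ∈ A, (a * b) • v - v = (a • v - v) + (b • v - v) := by
      intro a ha b hb
      have h1 := h.toQ.quad b hb a ha v
      rw [smul_sub] at h1
      rw [mul_smul]
      have e : a • b • v = b • v - v + a • v := by rw [← h1]; abel
      rw [e]; abel
    let H : AddSubgroup U :=
      { carrier := {c | c ∈ P ⊓ fx U A ∧ ∃ a ∈ A, (a • v - v) - c ∈ P'}
        zero_mem' := ⟨zero_mem _, 1, A.one_mem, by rw [one_smul, sub_self, sub_zero]; exact zero_mem _⟩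
        add_mem' := by
          rintro c c' ⟨h1, a, ha, h2⟩ ⟨h1', b, hb, h2'⟩
          refine ⟨add_mem h1 h1', a * b, A.mul_mem ha hb, ?_⟩
          rw [hadd a ha b hb]
          have e : (a • v - v) + (b • v - v) - (c + c') = ((a • v - v) - c) + ((b • v - v) - c') := by abel
          rw [e]; exact add_mem h2 h2'
        neg_mem' := by
          rintro c ⟨h1, a, ha, h2⟩
          refine ⟨neg_mem h1, a⁻¹, A.inv_mem ha, ?_⟩
          have h3 := hadd a⁻¹ (A.inv_mem ha) a ha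
          rw [inv_mul_cancel, one_smul, sub_self] at h3
          have e : (a⁻¹ • v - v) = -(a • v - v) := eq_neg_of_add_eq_zero_left h3.symm
          have e2 : (a⁻¹ • v - v) - (-c) = -((a • v - v) - c) := by rw [e]; abel
          rw [e2]; exact neg_mem h2 }
    have h1 := sP.fib h.toQ sP' hg hvP hvg hvP' (H := H) (by
        intro c hc
        refine ⟨⟨hlt.le hc.1, hc.2⟩, 1, A.one_mem, ?_⟩
        rw [one_smul, sub_self, zero_sub]
        exact neg_mem hc.1) (by
        intro a ha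
        refine ⟨AddSubgroup.mem_inf.2 ⟨sub_mem (sP.inv a v hvP) hvP, fun b hb => h.toQ.quad a ha b hb v⟩, a, ha, ?_⟩
        rw [sub_self]; exact zero_mem _)
    have h2 : H = P ⊓ fx U A := by
      refine eq_of_card_le (fun c hc => hc.1) ?_
      refine Nat.le_of_mul_le_mul_left ?_ pA1
      calc Nat.card ↥(A ⊓ pCore 2 Y) * Nat.card ↥(P ⊓ fx U A)
          = Nat.card ↥(P ⊓ fx U A) * Nat.card ↥(A ⊓ pCore 2 Y) := by ring
        _ ≤ Nat.card ↥(P' ⊓ fx U A) * Nat.card A := hPC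
        _ = Nat.card A * Nat.card ↥(P' ⊓ fx U A) := by ring
        _ ≤ _ := h1
    rw [← h2] at hc
    exact hc.2
  -- the union of the conjugates of `B` modulo `P'`
  let R : AddSubgroup U :=
    { carrier := {u | ∃ y : Y, ∃ c ∈ B, u - y • c ∈ P'}
      zero_mem' := ⟨1, 0, zero_mem _, by rw [smul_zero, sub_zero]; exact zero_mem _⟩
      neg_mem' := by
        rintro u ⟨y, c, hc, h1⟩
        refine ⟨y, -c, neg_mem hc, ?_⟩
        have e : -u - y • (-c) = -(u - y • c) := by rw [smul_neg]; abel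
        rw [e]; exact neg_mem h1
      add_mem' := by
        rintro u₁ u₂ ⟨y₁, c₁, hc₁, h₁⟩ ⟨y₂, c₂, hc₂, h₂⟩
        by_cases hP' : c₂ ∈ P'
        · refine ⟨y₁, c₁, hc₁, ?_⟩
          have e : u₁ + u₂ - y₁ • c₁ = (u₁ - y₁ • c₁) + (u₂ - y₂ • c₂) + y₂ • c₂ := by abel
          rw [e]; exact add_mem (add_mem h₁ h₂) (sP'.inv y₂ _ hP')
        · by_cases hm : y₁⁻¹ * y₂ ∈ M
          · refine ⟨y₁, c₁ + (y₁⁻¹ * y₂) • c₂, add_mem hc₁ (hBM _ hm _ hc₂), ?_⟩
            have e : u₁ + u₂ - y₁ • (c₁ + (y₁⁻¹ * y₂) • c₂) = (u₁ - y₁ • c₁) + (u₂ - y₂ • c₂) := by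
              rw [smul_add, smul_smul, mul_inv_cancel_left]; abel
            rw [e]; exact add_mem h₁ h₂
          · obtain ⟨a, -, h3⟩ := hsurj _ hm c₂ hc₂ hP' c₁ ⟨hc₁.2, hC hc₁.1⟩
            refine ⟨y₁ * a * (y₁⁻¹ * y₂), c₂, hc₂, ?_⟩
            have e : u₁ + u₂ - (y₁ * a * (y₁⁻¹ * y₂)) • c₂ = (u₁ - y₁ • c₁) + (u₂ - y₂ • c₂) -
                y₁ • ((a • (y₁⁻¹ * y₂) • c₂ - (y₁⁻¹ * y₂) • c₂) - c₁) := by
              rw [smul_sub, smul_sub, smul_smul y₁ (y₁⁻¹ * y₂), mul_inv_cancel_left, mul_smul (y₁ * a), mul_smul y₁ a]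
              abel
            rw [e]; exact sub_mem (add_mem h₁ h₂) (sP'.inv y₁ _ h3) }
  have hP'R : P' ≤ R := fun u hu => ⟨1, 0, zero_mem _, by rw [smul_zero, sub_zero]; exact hu⟩
  have hRP : R ≤ P := by
    rintro u ⟨y, c, hc, h1⟩
    have e : u = (u - y • c) + y • c := by abel
    rw [e]; exact add_mem (hlt.le h1) (sP.inv y _ hc.2)
  have sR : Sec U A R :=
    { Z_le := sP'.Z_le.trans hP'R
      le_D := hRP.trans sP.le_D
      inv := by
        rintro y u ⟨y', c, hc, h1⟩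
        refine ⟨y * y', c, hc, ?_⟩
        have e : y • u - (y * y') • c = y • (u - y' • c) := by rw [smul_sub, mul_smul]
        rw [e]; exact sP'.inv y _ h1 }
  have hRne : R ≠ P' := by
    intro h0
    apply hPne
    have h1 : B ≤ P' := by
      rw [← h0]
      intro u hu
      exact ⟨1, u, hu, by rw [one_smul, sub_self]; exact zero_mem _⟩
    exact (le_inf inf_le_left h1).trans hinf
  have hRtop := simple R sR hP'R hRP hRne
  -- `P ∩ C ≤ B (P' ∩ C)`
  have hPC2 : P ⊓ fx U A ≤ B ⊔ (P' ⊓ fx U A) := by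
    have h1 : ∀ c ∈ P ⊓ fx U A, ∃ b ∈ B, c - b ∈ P' := by
      intro c hc
      have h2 : c ∈ R := by rw [hRtop]; exact hc.1
      obtain ⟨y, c', hc', h3⟩ := h2
      by_cases hy : y ∈ M
      · exact ⟨y • c', hBM y hy c' hc', h3⟩
      · refine ⟨0, zero_mem _, ?_⟩
        rw [sub_zero]
        have h4 : c - y • c' ∈ (P' ⊓ fx U A) ⊔ y • (P' ⊓ fx U A) := by rw [sP'.sup_eq h.toQ hy]; exact h3
        obtain ⟨d₁, hd₁, d₂, hd₂, e⟩ := AddSubgroup.mem_sup.1 h4
        rw [mem_smul] at hd₂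
        have h5 : c - d₁ ∈ fx U (⊤ : Subgroup Y) := by
          apply h.toQ.inf_le hy
          · exact sub_mem hc.2 hd₁.2
          · have e2 : y⁻¹ • (c - d₁) = c' + y⁻¹ • d₂ := by
              have e3 : c - d₁ = y • c' + d₂ := by
                have : c = d₁ + d₂ + y • c' := by rw [e]; abel
                rw [this]; abel
              rw [e3, smul_add, inv_smul_smul]
            rw [e2]; exact add_mem (hC hc'.1) hd₂.2
        have e4 : c = (c - d₁) + d₁ := by abel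
        rw [e4]; exact add_mem (sP'.Z_le h5) hd₁.1
    intro c hc
    obtain ⟨b, hb, h2⟩ := h1 c hc
    have e : c = b + (c - b) := by abel
    rw [e]
    exact add_mem (AddSubgroup.mem_sup_left hb)
      (AddSubgroup.mem_sup_right (AddSubgroup.mem_inf.2 ⟨h2, sub_mem hc.2 (hC hb.1)⟩))
  have h1 := card_sup_inf B (P' ⊓ fx U A)
  have h2 : fx U (⊤ : Subgroup Y) ≤ B ⊓ (P' ⊓ fx U A) :=
    le_inf (le_inf hZ sP.Z_le) (le_inf sP'.Z_le (Q.Z_le A))
  have h3 := card_le h2
  have h4 := card_le hPC2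
  have h5 : Nat.card B ≤ Nat.card B₀ := card_le inf_le_left
  have h6 := sP.index h.toQ sP' hlt
  have pP' : 0 < Nat.card ↥(P' ⊓ fx U A) := Nat.card_pos
  refine Nat.le_of_mul_le_mul_right ?_ pP'
  calc Nat.card A * Nat.card (fx U (⊤ : Subgroup Y)) * Nat.card ↥(P' ⊓ fx U A)
      = (Nat.card A * Nat.card ↥(P' ⊓ fx U A)) * Nat.card (fx U (⊤ : Subgroup Y)) := by ring
    _ ≤ (Nat.card ↥(A ⊓ pCore 2 Y) * Nat.card ↥(P ⊓ fx U A)) * Nat.card (fx U (⊤ : Subgroup Y)) :=
      Nat.mul_le_mul_right _ h6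
    _ ≤ (Nat.card ↥(A ⊓ pCore 2 Y) * Nat.card ↥(B ⊔ (P' ⊓ fx U A))) * Nat.card ↥(B ⊓ (P' ⊓ fx U A)) :=
      Nat.mul_le_mul (Nat.mul_le_mul_left _ h4) h3
    _ = Nat.card ↥(A ⊓ pCore 2 Y) * (Nat.card ↥(B ⊔ (P' ⊓ fx U A)) * Nat.card ↥(B ⊓ (P' ⊓ fx U A))) := by ring
    _ = Nat.card ↥(A ⊓ pCore 2 Y) * (Nat.card B * Nat.card ↥(P' ⊓ fx U A)) := by rw [h1]
    _ = Nat.card ↥(A ⊓ pCore 2 Y) * Nat.card B * Nat.card ↥(P' ⊓ fx U A) := by ring
    _ ≤ Nat.card ↥(A ⊓ pCore 2 Y) * Nat.card B₀ * Nat.card ↥(P' ⊓ fx U A) :=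
      Nat.mul_le_mul_right _ (Nat.mul_le_mul_left _ h5)

end Cfsg.Agent.Omega.NO3b.TheoremL.Core2

end

section


/-!
# THEOREM L (#18749, helper344), part 5: the theorem for a TI group

`core` : `f(A) = |U|`, `|V Z : Z| = |A|`, `C_U(A) = V Z`, `U = V^k C_U(A)` for `k ∉ M`, `A ∩ O` acts faithfully on `V^k`,
`C_U(A ∩ O) = C_U(A)` if `A ∩ O ≠ 1`, `[U, A ∩ O] ≤ Z`, `A ∩ M^k = A ∩ O`.
-/

set_option autoImplicit false
set_option linter.unusedSectionVars false

namespace Cfsg.Agent.Omega.NO3b.TheoremL.Core3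

open Cfsg.Agent.Omega.FF.Basic (fx mem_fx fx_anti card_sup_inf card_le eq_of_card_le card_fib EA mm mm_bot cj mem_cj
  mem_cj_of isPGroup_cj card_cj smul_mem_fx_cj mem_fx_cj card_smul fx_bot card_top card_le_top)
open Cfsg.Agent.Omega.NO3b.Exit.TT (cf mem_cf nf mem_nf mem_smul smul_mem' nf_smul le_cf card_smul' cf_conj nf_conj
  quad' card_pow two_mul_le_of_pow mm_pow)
open Cfsg.Agent.Omega.NO3b.TheoremL.Act
open Cfsg.Agent.Omega.NO3b.TheoremL.Core1
open Cfsg.Agent.Omega.NO3b.TheoremL.Core2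
open Cfsg.Agent.Omega.NO3b.TheoremL.RingRel (ring_rel TH tau card_TH)
open Cfsg.Agent.Omega.MinFF (TI)
open Cfsg (pCore)
open scoped Pointwise

variable {Y : Type*} [Group Y] [Finite Y] {U : Type*} [AddCommGroup U] [Finite U] [DistribMulAction Y U]
  {A M : Subgroup Y} {V : AddSubgroup U}

/-- `V Z` -/
abbrev VZ (Y : Type*) [Group Y] {U : Type*} [AddCommGroup U] [DistribMulAction Y U] (V : AddSubgroup U) :
    AddSubgroup U := V ⊔ fx U (⊤ : Subgroup Y)

theorem VZ_le_C (h : Hyp A M V) : VZ Y V ≤ fx U A := sup_le h.V_le_C (Q.Z_le A)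

theorem VZ_le_W (V : AddSubgroup U) : VZ Y V ≤ W Y V := sup_le (V_le_W V) (Z_le_W V)

theorem VZ_inv (h : Hyp A M V) {m : Y} (hm : m ∈ M) {v : U} (hv : v ∈ VZ Y V) : m • v ∈ VZ Y V := by
  obtain ⟨a, ha, b, hb, rfl⟩ := AddSubgroup.mem_sup.1 hv
  rw [smul_add, Q.Z_smul hb]
  exact add_mem (AddSubgroup.mem_sup_left (nf_smul (h.inv hm) ha)) (AddSubgroup.mem_sup_right hb)

/-- quotient groups of a subgroup -/
theorem quot_le {W Z : AddSubgroup U} {B Q : Subgroup Y} (hBQ : B ≤ Q) (hQW : ∀ t ∈ Q, ∀ w ∈ W, t • w - w ∈ Z)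
    (hQZ : ∀ t ∈ Q, ∀ z ∈ Z, t • z = z) :
    Nat.card B * Nat.card ↥(Q ⊓ cf Y W) ≤ Nat.card Q * Nat.card ↥(B ⊓ cf Y W) := by
  have hfin : Finite (W →+ Z) := Finite.of_injective (fun f : W →+ Z => (f : W → Z)) DFunLike.coe_injective
  let T₁ := TH (W := W) (Z := Z) (Q := B) (fun t ht => hQW t (hBQ ht)) (fun t ht => hQZ t (hBQ ht))
  let T := TH (W := W) (Z := Z) (Q := Q) hQW hQZ
  have hT₁ : T₁ ≤ T := by
    rintro _ ⟨t, rfl⟩
    exact ⟨⟨t, hBQ t.2⟩, rfl⟩
  have c₁ : Nat.card B = Nat.card T₁ * Nat.card ↥(B ⊓ cf Y W) := card_TH _ _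
  have c : Nat.card Q = Nat.card T * Nat.card ↥(Q ⊓ cf Y W) := card_TH _ _
  rw [c₁, c]
  calc Nat.card T₁ * Nat.card ↥(B ⊓ cf Y W) * Nat.card ↥(Q ⊓ cf Y W)
      = Nat.card T₁ * (Nat.card ↥(Q ⊓ cf Y W) * Nat.card ↥(B ⊓ cf Y W)) := by ring
    _ ≤ Nat.card T * (Nat.card ↥(Q ⊓ cf Y W) * Nat.card ↥(B ⊓ cf Y W)) := Nat.mul_le_mul_right _ (card_le hT₁)
    _ = _ := by ring

/-- NF for `V Z` -/
theorem nfVZ (h : Hyp A M V) {B : Subgroup Y} (hB : B ≤ QQ A) (hne : ¬ B ≤ cf Y (VZ Y V)) :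
    2 * (Nat.card B * Nat.card ↥(VZ Y V ⊓ fx U B)) ≤ Nat.card (VZ Y V) * Nat.card ↥(B ⊓ cf Y (VZ Y V)) := by
  have hne' : ¬ B ≤ cf Y ((1 : Y) • V) := by
    rw [one_smul]
    intro h0
    apply hne
    rw [le_cf] at h0 ⊢
    exact sup_le h0 (Q.Z_le B)
  have h1 := h.nfV 1 hB hne'
  rw [one_smul] at h1
  have h2 : B ⊓ cf Y (VZ Y V) = B ⊓ cf Y V := by
    apply le_antisymm
    · rintro b ⟨hb, hb'⟩
      exact ⟨hb, fun v hv => hb' v (AddSubgroup.mem_sup_left hv)⟩
    · rintro b ⟨hb, hb'⟩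
      refine ⟨hb, fun v hv => ?_⟩
      obtain ⟨x, hx, z, hz, rfl⟩ := AddSubgroup.mem_sup.1 hv
      rw [smul_add, hb' x hx, Q.Z_smul hz]
  have h3 : VZ Y V ⊓ fx U B = (V ⊓ fx U B) ⊔ fx U (⊤ : Subgroup Y) := by
    apply le_antisymm
    · rintro v ⟨hv, hvB⟩
      obtain ⟨x, hx, z, hz, rfl⟩ := AddSubgroup.mem_sup.1 hv
      refine add_mem (AddSubgroup.mem_sup_left ⟨hx, ?_⟩) (AddSubgroup.mem_sup_right hz)
      have e : x = (x + z) - z := by abel
      have h7 : (x + z) - z ∈ fx U B := sub_mem hvB (Q.Z_le B hz)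
      rwa [← e] at h7
    · exact sup_le (inf_le_inf_right _ le_sup_left) (le_inf le_sup_right (Q.Z_le B))
  have h4 := card_sup_inf (V ⊓ fx U B) (fx U (⊤ : Subgroup Y))
  have h5 := card_sup_inf V (fx U (⊤ : Subgroup Y))
  have h6 : V ⊓ fx U B ⊓ fx U (⊤ : Subgroup Y) = V ⊓ fx U (⊤ : Subgroup Y) := by
    rw [inf_assoc, inf_eq_right.2 (Q.Z_le B)]
  rw [h6] at h4
  rw [h2, h3]
  have p : 0 < Nat.card ↥(V ⊓ fx U (⊤ : Subgroup Y)) := Nat.card_pos
  refine Nat.le_of_mul_le_mul_right ?_ p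
  calc 2 * (Nat.card B * Nat.card ↥((V ⊓ fx U B) ⊔ fx U (⊤ : Subgroup Y))) * Nat.card ↥(V ⊓ fx U (⊤ : Subgroup Y))
      = 2 * (Nat.card B * (Nat.card ↥((V ⊓ fx U B) ⊔ fx U (⊤ : Subgroup Y)) *
        Nat.card ↥(V ⊓ fx U (⊤ : Subgroup Y)))) := by ring
    _ = 2 * (Nat.card B * Nat.card ↥(V ⊓ fx U B)) * Nat.card (fx U (⊤ : Subgroup Y)) := by rw [h4]; ring
    _ ≤ Nat.card V * Nat.card ↥(B ⊓ cf Y V) * Nat.card (fx U (⊤ : Subgroup Y)) := Nat.mul_le_mul_right _ h1
    _ = (Nat.card V * Nat.card (fx U (⊤ : Subgroup Y))) * Nat.card ↥(B ⊓ cf Y V) := by ring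
    _ = (Nat.card (VZ Y V) * Nat.card ↥(V ⊓ fx U (⊤ : Subgroup Y))) * Nat.card ↥(B ⊓ cf Y V) := by rw [h5]
    _ = _ := by ring

/-- the lower bound for `|V Z : Z|` -/
theorem lower (h : Hyp A M V) (k : Y) :
    Nat.card A * Nat.card (fx U (⊤ : Subgroup Y)) ≤
      Nat.card (VZ Y V) * Nat.card ↥(A ⊓ pCore 2 Y ⊓ cf Y (k • V)) := by
  have hVZ : ¬ VZ Y V ≤ fx U (⊤ : Subgroup Y) := fun h0 => h.nz (le_sup_left.trans h0)
  have pZ : 0 < Nat.card (fx U (⊤ : Subgroup Y)) := Nat.card_pos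
  have pA1 : 0 < Nat.card ↥(A ⊓ pCore 2 Y) := Nat.card_pos
  by_cases hne : A ⊓ pCore 2 Y = ⊥
  · have h1 := irr h (B₀ := VZ Y V) (fun m hm v hv => VZ_inv h hm hv) le_sup_right (VZ_le_C h) (VZ_le_W V) hVZ
    rw [hne, Subgroup.card_bot, one_mul] at h1
    have h2 : 1 ≤ Nat.card ↥(A ⊓ pCore 2 Y ⊓ cf Y (k • V)) := Nat.card_pos
    calc _ ≤ Nat.card (VZ Y V) := h1
      _ = Nat.card (VZ Y V) * 1 := (mul_one _).symm
      _ ≤ _ := Nat.mul_le_mul_left _ h2
  · classical
    have hQW : ∀ t ∈ QQ A, ∀ w ∈ VZ Y V, t • w - w ∈ fx U (⊤ : Subgroup Y) := fun t ht w hw =>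
      h.comm_QQ ht (VZ_le_W V hw)
    have hQZ : ∀ t ∈ QQ A, ∀ z ∈ fx U (⊤ : Subgroup Y), t • z = z := fun t _ z hz => Q.Z_smul hz t
    obtain ⟨I, i1, i2, i3, i4, i5⟩ := ring_rel (W := VZ Y V) (Z := fx U (⊤ : Subgroup Y)) (Q := QQ A) h.two le_sup_right
      hQW hQZ (fun w hw hf => h.inf_fx_le hne ⟨VZ_le_W V hw, hf⟩) (fun B hB hBc => nfVZ h hB hBc)
    have hlt0 : fx U (⊤ : Subgroup Y) < VZ Y V := lt_of_le_of_ne le_sup_right fun h0 => hVZ h0.ge
    obtain ⟨P, ⟨hIP, hlt⟩, hPmin⟩ := Set.exists_min_image {P : AddSubgroup U | I P ∧ fx U (⊤ : Subgroup Y) < P}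
      (fun P => Nat.card P) (Set.toFinite _) ⟨VZ Y V, i1, hlt0⟩
    have h1 := i5 _ P i2 hIP hlt fun R hR h1 h2 => by
      rcases h1.eq_or_lt with h3 | h3
      · exact Or.inl h3.symm
      · exact Or.inr (eq_of_card_le h2 (hPmin R ⟨hR, h3⟩))
    have hPle := (i3 P hIP).2
    have h2 := irr h (B₀ := P) (fun m hm v hv => i4 P hIP m (fun w hw => VZ_inv h hm hw)
      (fun z hz => Q.Z_smul hz m) (fun t ht => Hyp.QQ_conj ht m) v hv) hlt.le (hPle.trans (VZ_le_C h))
      (hPle.trans (VZ_le_W V)) (fun h0 => hlt.not_ge h0)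
    -- `k`
    have hB' : cj k⁻¹ (A ⊓ pCore 2 Y) ≤ QQ A := by
      intro t ht
      rw [mem_cj, inv_inv] at ht
      have h1 := Hyp.QQ_conj (Hyp.A₁_le ht) k
      have e : k⁻¹ * (k * t * k⁻¹) * k = t := by group
      rwa [e] at h1
    have h3 := quot_le hB' hQW hQZ
    rw [card_cj] at h3
    have h4 : Nat.card ↥(cj k⁻¹ (A ⊓ pCore 2 Y) ⊓ cf Y (VZ Y V)) = Nat.card ↥(A ⊓ pCore 2 Y ⊓ cf Y (k • V)) := by
      have e3 : cj k⁻¹ (A ⊓ pCore 2 Y) ⊓ cf Y (VZ Y V) = cj k⁻¹ (A ⊓ pCore 2 Y ⊓ cf Y (k • V)) := by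
        ext a
        rw [mem_cj, inv_inv, Subgroup.mem_inf, Subgroup.mem_inf (x := k * a * k⁻¹), mem_cj, inv_inv, cf_conj]
        have e : k⁻¹ * (k * a * k⁻¹) * k = a := by group
        rw [e]
        refine and_congr_right fun _ => ?_
        constructor
        · intro h5 v hv
          exact h5 v (AddSubgroup.mem_sup_left hv)
        · intro h5 v hv
          obtain ⟨x, hx, z, hz, rfl⟩ := AddSubgroup.mem_sup.1 hv
          rw [smul_add, h5 x hx, Q.Z_smul hz]
      rw [e3, card_cj]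
    rw [h4] at h3
    have pK : 0 < Nat.card ↥(QQ A ⊓ cf Y (VZ Y V)) := Nat.card_pos
    have pQ : 0 < Nat.card (QQ A) := Nat.card_pos
    set a := Nat.card A
    set a1 := Nat.card ↥(A ⊓ pCore 2 Y)
    set z := Nat.card (fx U (⊤ : Subgroup Y))
    set q := Nat.card (QQ A)
    set c := Nat.card ↥(QQ A ⊓ cf Y (VZ Y V))
    set e := Nat.card ↥(A ⊓ pCore 2 Y ⊓ cf Y (k • V))
    set w := Nat.card (VZ Y V)
    set p := Nat.card P
    -- `h1 : p (q z) ≤ z (w c)`, `h2 : a z ≤ a1 p`, `h3 : a1 c ≤ q e`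
    have h5 : p * q ≤ w * c := by
      refine Nat.le_of_mul_le_mul_right ?_ pZ
      calc p * q * z = p * (q * z) := by ring
        _ ≤ z * (w * c) := h1
        _ = w * c * z := by ring
    refine Nat.le_of_mul_le_mul_right ?_ (Nat.mul_pos (Nat.mul_pos pA1 pK) pQ)
    calc a * z * (a1 * c * q) ≤ (a1 * p) * (a1 * c * q) := Nat.mul_le_mul_right _ h2
      _ = (a1 * a1 * c) * (p * q) := by ring
      _ ≤ (a1 * a1 * c) * (w * c) := Nat.mul_le_mul_left _ h5
      _ = (a1 * w * c) * (a1 * c) := by ring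
      _ ≤ (a1 * w * c) * (q * e) := Nat.mul_le_mul_left _ h3
      _ = w * e * (a1 * c * q) := by ring

/-- the conclusions of THEOREM L for a TI group -/
structure Out (A M : Subgroup Y) (V : AddSubgroup U) : Prop where
  mm_eq : mm U A = Nat.card U
  card : Nat.card (VZ Y V) = Nat.card A * Nat.card (fx U (⊤ : Subgroup Y))
  C_eq : fx U A = VZ Y V
  sup : ∀ k, k ∉ M → k • V ⊔ fx U A = ⊤
  inf : ∀ k, k ∉ M → k • V ⊓ fx U A ≤ fx U (⊤ : Subgroup Y)
  cf : ∀ k, k ∉ M → A ⊓ pCore 2 Y ⊓ cf Y (k • V) = ⊥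
  fx_eq : A ⊓ pCore 2 Y ≠ ⊥ → fx U (A ⊓ pCore 2 Y) = fx U A
  comm : ∀ t ∈ A ⊓ pCore 2 Y, ∀ u : U, t • u - u ∈ fx U (⊤ : Subgroup Y)
  nf : ∀ k, k ∉ M → A ⊓ MulAut.conj k • M = A ⊓ pCore 2 Y

theorem core (h : Hyp A M V) : Out A M V := by
  classical
  set Z := fx U (⊤ : Subgroup Y) with hZ
  have pZ : 0 < Nat.card Z := Nat.card_pos
  have pC : 0 < Nat.card (fx U A) := Nat.card_pos
  have pA : 0 < Nat.card A := Nat.card_pos
  have key : ∀ k, k ∉ M → A ⊓ pCore 2 Y ⊓ cf Y (k • V) = ⊥ ∧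
      Nat.card (VZ Y V) = Nat.card A * Nat.card Z ∧ mm U A = Nat.card U ∧ (k • VZ Y V) ⊔ fx U A = ⊤ := by
    intro k hk
    set E := A ⊓ pCore 2 Y ⊓ cf Y (k • V) with hE
    have h1 := lower h k
    rw [← hE] at h1
    have h2 : (k • VZ Y V) ⊔ fx U A ≤ fx U E := by
      refine sup_le ?_ (fx_anti (inf_le_left.trans inf_le_left))
      intro v hv
      rw [mem_smul] at hv
      obtain ⟨x, hx, z, hz, e⟩ := AddSubgroup.mem_sup.1 hv
      have e2 : v = k • x + z := by
        rw [← smul_inv_smul k v, ← e, smul_add, Q.Z_smul hz]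
      rw [e2]
      exact add_mem (le_cf.1 (inf_le_right : E ≤ _) (smul_mem' hx)) (Q.Z_le E hz)
    have h3 : (k • VZ Y V) ⊓ fx U A ≤ Z := by
      rintro v ⟨hv, hvA⟩
      exact h.toQ.inf_le hk hvA (VZ_le_C h (mem_smul.1 hv))
    have h4 := card_sup_inf (k • VZ Y V) (fx U A)
    rw [card_smul'] at h4
    have h5 := card_le h3
    have h6 := card_le h2
    -- `|E| |V Z| |C| ≤ |E| |fx E| |Z|`
    have h7 : Nat.card (VZ Y V) * Nat.card (fx U A) ≤ Nat.card ↥((k • VZ Y V) ⊔ fx U A) * Nat.card Z := by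
      rw [← h4]; exact Nat.mul_le_mul_left _ h5
    have h8 : mm U A ≤ mm U E := by
      rw [mm, mm]
      refine Nat.le_of_mul_le_mul_right ?_ pZ
      calc Nat.card A * Nat.card (fx U A) * Nat.card Z = (Nat.card A * Nat.card Z) * Nat.card (fx U A) := by ring
        _ ≤ (Nat.card (VZ Y V) * Nat.card E) * Nat.card (fx U A) := Nat.mul_le_mul_right _ h1
        _ = Nat.card E * (Nat.card (VZ Y V) * Nat.card (fx U A)) := by ring
        _ ≤ Nat.card E * (Nat.card ↥((k • VZ Y V) ⊔ fx U A) * Nat.card Z) := Nat.mul_le_mul_left _ h7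
        _ ≤ Nat.card E * (Nat.card (fx U E) * Nat.card Z) :=
          Nat.mul_le_mul_left _ (Nat.mul_le_mul_right _ h6)
        _ = _ := by ring
    have hEA : E < A := lt_of_le_of_lt inf_le_left h.A₁_lt
    have hE0 : E = ⊥ := by
      by_contra h0
      exact absurd (h.min E hEA h0) (not_lt.2 h8)
    rw [hE0, mm_bot] at h8
    have hmm : mm U A = Nat.card U := le_antisymm h8 h.off
    rw [hE0, Subgroup.card_bot, mul_one] at h1
    have h9 := card_le_top ((k • VZ Y V) ⊔ fx U A)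
    have h10 : Nat.card ↥((k • VZ Y V) ⊔ fx U A) = Nat.card U := by
      apply le_antisymm h9
      refine Nat.le_of_mul_le_mul_right ?_ pZ
      calc Nat.card U * Nat.card Z = Nat.card A * Nat.card Z * Nat.card (fx U A) := by rw [← hmm, mm]; ring
        _ ≤ Nat.card (VZ Y V) * Nat.card (fx U A) := Nat.mul_le_mul_right _ h1
        _ ≤ _ := h7
    have h11 : Nat.card (VZ Y V) = Nat.card A * Nat.card Z := by
      apply le_antisymm _ h1
      refine Nat.le_of_mul_le_mul_right ?_ pC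
      calc Nat.card (VZ Y V) * Nat.card (fx U A) ≤ Nat.card ↥((k • VZ Y V) ⊔ fx U A) * Nat.card Z := h7
        _ = Nat.card A * Nat.card (fx U A) * Nat.card Z := by rw [h10, ← hmm, mm]
        _ = _ := by ring
    exact ⟨hE0, h11, hmm, eq_of_card_le le_top (by rw [h10, card_top])⟩
  obtain ⟨g, hg⟩ := h.ti.exists_not_mem
  obtain ⟨-, h1, h2, h3⟩ := key g hg
  -- `D = U`
  have hD : Act.D U A = ⊤ := by
    rw [eq_top_iff, ← h3]
    refine sup_le ?_ Q.C_le_D
    refine le_trans ?_ (Q.smul_C_le_D g)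
    exact AddSubgroup.pointwise_smul_le_pointwise_smul_iff.2 (VZ_le_C h)
  have sT : Sec U A (⊤ : AddSubgroup U) := ⟨le_top, hD.ge, fun _ _ _ => trivial⟩
  have h4 := sT.card h.toQ
  rw [top_inf_eq, card_top, ← h2, mm] at h4
  have h5 : Nat.card (fx U A) = Nat.card A * Nat.card Z := by
    refine Nat.eq_of_mul_eq_mul_right pC ?_
    rw [← h4]; ring
  have hC : fx U A = VZ Y V := (eq_of_card_le (VZ_le_C h) (by rw [h1, h5])).symm
  have hsup : ∀ k, k ∉ M → k • V ⊔ fx U A = ⊤ := by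
    intro k hk
    rw [eq_top_iff, ← (key k hk).2.2.2]
    refine sup_le ?_ le_sup_right
    intro v hv
    rw [mem_smul] at hv
    obtain ⟨x, hx, z, hz, e⟩ := AddSubgroup.mem_sup.1 hv
    have e2 : v = k • x + z := by
      rw [← smul_inv_smul k v, ← e, smul_add, Q.Z_smul hz]
    rw [e2]
    exact add_mem (AddSubgroup.mem_sup_left (smul_mem' hx)) (AddSubgroup.mem_sup_right (Q.Z_le A hz))
  have hWt : W Y V = ⊤ := by
    rw [eq_top_iff, ← hsup g hg, hC]
    exact sup_le (smul_le_W V g) (VZ_le_W V)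
  refine ⟨h2, h1, hC, hsup, ?_, fun k hk => (key k hk).1, ?_, ?_, ?_⟩
  · intro k hk v hv
    exact h.toQ.inf_le hk hv.2 (h.V_le_C (mem_smul.1 hv.1))
  · -- `C_U(A ∩ O) = C_U(A)`
    intro hne
    refine le_antisymm ?_ (fx_anti inf_le_left)
    obtain ⟨I, i1, i2, i3, i4, i5⟩ := ring_W h hne
    have hWZ : ¬ W Y V ≤ Z := fun h0 => h.nz ((V_le_W V).trans h0)
    have hlt0 : Z < W Y V := lt_of_le_of_ne (Z_le_W V) fun h0 => hWZ h0.ge
    obtain ⟨P, ⟨hIP, hlt⟩, hPmin⟩ := Set.exists_min_image {P : AddSubgroup U | I P ∧ Z < P}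
      (fun P => Nat.card P) (Set.toFinite _) ⟨W Y V, i1, hlt0⟩
    have j1 := i5 _ P i2 hIP hlt fun R hR h1 h2 => by
      rcases h1.eq_or_lt with h3 | h3
      · exact Or.inl h3.symm
      · exact Or.inr (eq_of_card_le h2 (hPmin R ⟨hR, h3⟩))
    have sP : Sec U A P := ⟨(i3 P hIP).1, by rw [hD]; exact le_top, i4 P hIP⟩
    have j2 := sP.index h.toQ h.secZ hlt
    have j3 : Z ⊓ fx U A = Z := inf_eq_left.2 (Q.Z_le A)
    rw [← hZ, j3] at j2
    have j4 := sP.card h.toQ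
    have hcf : cf Y (W Y V) = ⊥ := by
      rw [Subgroup.eq_bot_iff_forall]
      intro y hy
      apply h.faith
      intro u
      exact hy u (by rw [hWt]; trivial)
    rw [hcf, inf_bot_eq, Subgroup.card_bot, mul_one, hWt, card_top, ← h2, mm, h5] at j1
    have pP : 0 < Nat.card P := Nat.card_pos
    -- `|Q| ≤ |A ∩ O|²`
    have j5 : Nat.card (QQ A) ≤ Nat.card ↥(A ⊓ pCore 2 Y) * Nat.card ↥(A ⊓ pCore 2 Y) := by
      refine Nat.le_of_mul_le_mul_right ?_ (Nat.mul_pos pP (Nat.mul_pos pZ pZ))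
      calc Nat.card (QQ A) * (Nat.card P * (Nat.card Z * Nat.card Z))
          = (Nat.card P * (Nat.card (QQ A) * Nat.card Z)) * Nat.card Z := by ring
        _ ≤ (Nat.card Z * (Nat.card A * (Nat.card A * Nat.card Z))) * Nat.card Z := Nat.mul_le_mul_right _ j1
        _ = (Nat.card A * Nat.card Z) * (Nat.card A * Nat.card Z) * Nat.card Z := by ring
        _ ≤ (Nat.card ↥(A ⊓ pCore 2 Y) * Nat.card ↥(P ⊓ fx U A)) *
            (Nat.card ↥(A ⊓ pCore 2 Y) * Nat.card ↥(P ⊓ fx U A)) * Nat.card Z :=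
          Nat.mul_le_mul_right _ (Nat.mul_le_mul j2 j2)
        _ = Nat.card ↥(A ⊓ pCore 2 Y) * Nat.card ↥(A ⊓ pCore 2 Y) *
            ((Nat.card ↥(P ⊓ fx U A) * Nat.card ↥(P ⊓ fx U A)) * Nat.card Z) := by ring
        _ = _ := by rw [← j4]; ring
    -- `C_Q(A) = A ∩ O`
    set K : Subgroup Y := QQ A ⊓ Subgroup.centralizer (A : Set Y) with hK
    have j6 := h.theta (B := K) inf_le_left fun b hb a ha => (Subgroup.mem_centralizer_iff.1 hb.2 a ha)
    rw [hcf, inf_bot_eq, inf_bot_eq, Subgroup.card_bot, mul_one, mul_one] at j6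
    have j7 : A ⊓ pCore 2 Y ≤ K := le_inf Hyp.A₁_le fun t ht => Subgroup.mem_centralizer_iff.2 fun a ha =>
      h.ea.comm ha ht.1
    have j8 : A ⊓ pCore 2 Y = K := Subgroup.eq_of_le_of_card_ge j7 (le_of_sq (by
      calc _ ≤ Nat.card (QQ A) * 1 := j6
        _ = Nat.card (QQ A) := mul_one _
        _ ≤ _ := j5))
    intro w hw
    obtain ⟨a, ha, haO⟩ := SetLike.not_le_iff_exists.1 h.ti.not_le_pCore
    have hcomm : ∀ t ∈ QQ A, ∀ u : U, t • u - u ∈ Z := fun t ht u => h.comm_QQ ht (by rw [hWt]; trivial)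
    have hai : ∀ t ∈ QQ A, ∀ b ∈ A, ∀ u : U, (b * t * b⁻¹) • u - u = t • b⁻¹ • u - b⁻¹ • u := by
      intro t ht b _ u
      have e : (b * t * b⁻¹) • u - u = b • (t • b⁻¹ • u - b⁻¹ • u) := by
        rw [smul_sub, smul_inv_smul, mul_smul, mul_smul]
      rw [e, Q.Z_smul (hcomm t ht _)]
    have hn : (QQ A).Normal := Hyp.QQ_normal
    -- `[w, a] ∈ C_U(Q)`
    have j9 : a⁻¹ • w - w ∈ fx U (QQ A) := by
      intro t ht
      have haI : a⁻¹ ∈ A := A.inv_mem ha
      -- `c = a t a⁻¹ t⁻¹` is in `K`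
      have hcQ : a * t * a⁻¹ * t⁻¹ ∈ QQ A := (QQ A).mul_mem (hn.conj_mem t ht a) ((QQ A).inv_mem ht)
      have hτ : ∀ u : U, (a * t * a⁻¹ * t⁻¹) • u - u = t • (a⁻¹ • u - u) - (a⁻¹ • u - u) := by
        intro u
        have e1 : (a * t * a⁻¹ * t⁻¹) • u = (a * t * a⁻¹) • (t⁻¹ • u) := by rw [mul_smul (a * t * a⁻¹)]
        have e2 : t⁻¹ • u = u - (t • u - u) := by
          have h7 := Q.Z_smul (hcomm t ht u) t⁻¹
          rw [smul_sub, inv_smul_smul] at h7
          have : t⁻¹ • u = u - (u - t⁻¹ • u) := by abel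
          rw [this, h7]
        have e3 := hai t ht a ha u
        have e4 : (a * t * a⁻¹) • (t • u - u) = t • u - u := Q.Z_smul (hcomm t ht u) _
        rw [e1, e2, smul_sub, e4]
        have e5 : (a * t * a⁻¹) • u = u + (t • a⁻¹ • u - a⁻¹ • u) := by rw [← e3]; abel
        rw [e5, smul_sub]; abel
      have hcK : a * t * a⁻¹ * t⁻¹ ∈ K := by
        refine ⟨hcQ, Subgroup.mem_centralizer_iff.2 fun b hb => ?_⟩
        have h6 : b * (a * t * a⁻¹ * t⁻¹) * b⁻¹ = a * t * a⁻¹ * t⁻¹ := by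
          have h7 : (a * t * a⁻¹ * t⁻¹)⁻¹ * (b * (a * t * a⁻¹ * t⁻¹) * b⁻¹) = 1 := by
            apply h.faith
            intro u
            rw [mul_smul, inv_smul_eq_iff]
            have e1 := hai _ hcQ b hb u
            have e2 := hτ (b⁻¹ • u)
            have e3 := hτ u
            have e4 : a⁻¹ • b⁻¹ • u - b⁻¹ • u = a⁻¹ • u - u := by
              have h8 := h.toQ.quad _ haI _ (A.inv_mem hb) u
              have h9 : a⁻¹ • b⁻¹ • u = b⁻¹ • a⁻¹ • u := by
                rw [smul_smul, smul_smul, h.ea.comm haI (A.inv_mem hb)]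
              rw [h9, ← smul_sub]; exact h8
            rw [e4] at e2
            have e5 : (b * (a * t * a⁻¹ * t⁻¹) * b⁻¹) • u - u = (a * t * a⁻¹ * t⁻¹) • u - u := by
              rw [e1, e2, e3]
            exact sub_left_injective e5
          exact (inv_mul_eq_one.1 h7).symm
        have h8 : b * (a * t * a⁻¹ * t⁻¹) = a * t * a⁻¹ * t⁻¹ * b := by
          calc b * (a * t * a⁻¹ * t⁻¹) = (b * (a * t * a⁻¹ * t⁻¹) * b⁻¹) * b := by group
            _ = _ := by rw [h6]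
        exact h8
      rw [← j8] at hcK
      have h9 := hw _ hcK
      have h10 := hτ w
      rw [h9, sub_self] at h10
      exact (sub_eq_zero.1 h10.symm)
    have j10 : a⁻¹ • w - w ∈ Z := h.inf_fx_le hne ⟨by rw [hWt]; trivial, j9⟩
    exact h.toQ.mem_C (A.inv_mem ha) (fun h0 => haO (by
      have := (pCore 2 Y).inv_mem h0
      rwa [inv_inv] at this)) (by rw [hD]; trivial) j10
  · intro t ht u
    exact h.comm_A₁ ht (by rw [hWt]; trivial)
  · intro k hk
    apply le_antisymm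
    · exact le_inf inf_le_left (h.toQ.inf_core hk)
    · refine le_inf inf_le_left ?_
      intro t ht
      have hn : (pCore 2 Y).Normal := Lib.Cores.pCore_normal 2
      rw [MinFF.mem_cj]
      apply h.toQ.core_le
      have := hn.conj_mem t ht.2 k⁻¹
      rwa [inv_inv] at this

end Cfsg.Agent.Omega.NO3b.TheoremL.Core3

end

section


/-!
# THEOREM L (#18749, helper344): TIGHT, for every `q`, every `X`, every `T ≤ S`

`X` finite acts faithfully on the elementary abelian 2-group `U`, `N_X(V)` is the unique maximal subgroup of `X` over the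
Sylow 2-subgroup `S`; `F ≤ V ≤ U` is centralised by `X`, `V ∩ V^x ≤ F` for `V^x ≠ V`; `V` is not FF for `N_X(V)`
(`DatU S V F`).  `B` is an elementary abelian 2-subgroup, `B ≰ O₂(X)`, `|U| ≤ f(B)`, `f(E) < f(B)` for `1 ≠ E < B`
(`MBU`), `f(E) = |E| |C_U(E)|`.  Then (`tight`): `f(B) = |U|`, `|V : F| = |B|`, and for every line `V^x` which is not
`B`-invariant `U = V^x C_U(B)`, `V^x ∩ C_U(B) = F`, `N_B(V^x) = B ∩ O₂(X)` acts faithfully on `V^x`; `[U, B ∩ O₂(X)] ≤ F`;
`C_U(B ∩ O₂(X)) = C_U(B)` if `B ∩ O₂(X) ≠ 1`.  `noover`: no `E` with `C_U(E) ≥ C_U(B)` is an over-offender.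
-/

set_option autoImplicit false
set_option linter.unusedSectionVars false
set_option linter.dupNamespace false

namespace Cfsg.Agent.Omega.NO3b.TheoremL.Tight

open Cfsg.Agent.Omega.FF.Basic
open Cfsg.Agent.Omega.NO3b.Exit.TT
open Cfsg.Agent.Omega.NO3b.TheoremL.Act (Q)
open Cfsg.Agent.Omega.NO3b.TheoremL.Core1 (Hyp)
open Cfsg.Agent.Omega.NO3b.TheoremL.Core3 (Out core VZ)
open Cfsg.Agent.Omega.MinFF (TI)
open Cfsg (pCore)
open scoped Pointwise

/-- The hypotheses. -/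
structure DatU {X : Type*} [Group X] {U : Type*} [AddCommGroup U] [DistribMulAction X U] (S : Sylow 2 X)
    (V F : AddSubgroup U) : Prop where
  two : ∀ u : U, u + u = 0
  faith : ∀ x : X, (∀ u : U, x • u = u) → x = 1
  SV : (S : Subgroup X) ≤ nf X V
  ne : nf X V ≠ ⊤
  uniq : ∀ K : Subgroup X, (S : Subgroup X) ≤ K → K ≠ ⊤ → K ≤ nf X V
  FV : F ≤ V
  Fx : ∀ (x : X), ∀ f ∈ F, x • f = f
  ti : ∀ x : X, x • V ≠ V → V ⊓ x • V ≤ F
  nff : ∀ A : Subgroup X, IsPGroup 2 A → A ≤ nf X V → (∀ a ∈ A, ∀ v ∈ V, a • a • v = v) → ¬ A ≤ cf X V →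
    Nat.card A * Nat.card ↥(V ⊓ fx U A) < Nat.card V * Nat.card ↥(A ⊓ cf X V)

/-- a best offender, minimal in itself, which is not contained in `O₂(X)` -/
structure MBU {X : Type*} [Group X] (U : Type*) [AddCommGroup U] [DistribMulAction X U] (B : Subgroup X) : Prop where
  ea : EA B
  nle : ¬ B ≤ pCore 2 X
  off : Nat.card U ≤ mm U B
  min : ∀ E : Subgroup X, E < B → E ≠ ⊥ → mm U E < mm U B

variable {X : Type*} [Group X] {U : Type*} [AddCommGroup U] [DistribMulAction X U] {S : Sylow 2 X}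
  {V F : AddSubgroup U} {B : Subgroup X}

/-- the conclusions for the line `V^x` -/
structure TightAt (B : Subgroup X) (V F : AddSubgroup U) (x : X) : Prop where
  sup : x • V ⊔ fx U B = ⊤
  inf : x • V ⊓ fx U B = F
  nf_eq : B ⊓ nf X (x • V) = B ⊓ pCore 2 X
  cf_eq : B ⊓ pCore 2 X ⊓ cf X (x • V) = ⊥

/-- the conclusions -/
structure Tight (B : Subgroup X) (V F : AddSubgroup U) : Prop where
  mm_eq : mm U B = Nat.card U
  card : Nat.card B * Nat.card F = Nat.card V
  fx_eq : B ⊓ pCore 2 X ≠ ⊥ → fx U (B ⊓ pCore 2 X) = fx U B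
  comm : ∀ b ∈ B ⊓ pCore 2 X, ∀ u : U, b • u - u ∈ F
  ex : ∃ x : X, ¬ B ≤ nf X (x • V)
  all : ∀ x : X, ¬ B ≤ nf X (x • V) → TightAt B V F x

namespace DatU

variable (h : DatU S V F)
include h

theorem F_smul (x : X) : x • F = F := by
  ext w
  rw [mem_smul]
  constructor
  · intro hw
    have := h.Fx x _ hw
    rw [smul_inv_smul] at this
    rw [this]; exact hw
  · intro hw
    rw [h.Fx x⁻¹ w hw]; exact hw

theorem F_le (x : X) : F ≤ x • V := by
  rw [← h.F_smul x]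
  exact AddSubgroup.pointwise_smul_le_pointwise_smul_iff.2 h.FV

theorem F_fx (A : Subgroup X) : F ≤ fx U A := fun f hf a _ => h.Fx a f hf

/-- (TI) for two lines -/
theorem ti' {x y : X} (hne : x • V ≠ y • V) : x • V ⊓ y • V ≤ F := by
  have h1 : (x⁻¹ * y) • V ≠ V := by
    intro h0
    apply hne
    have := congrArg (fun U : AddSubgroup U => x • U) h0
    simp only [smul_smul, mul_inv_cancel_left] at this
    exact this.symm
  intro w hw
  have h2 : x⁻¹ • w ∈ F := by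
    apply h.ti _ h1
    refine ⟨mem_smul.1 hw.1, ?_⟩
    have h3 : y⁻¹ • w ∈ V := mem_smul.1 hw.2
    have e : ((x⁻¹ * y)⁻¹ • x⁻¹ • w : U) = y⁻¹ • w := by
      rw [smul_smul]; congr 1; group
    exact mem_smul.2 (by rw [e]; exact h3)
  have h3 := h.Fx x _ h2
  rw [smul_inv_smul] at h3
  rw [h3]; exact h2

/-- NF for the line `V^x` -/
theorem nff' (x : X) {A : Subgroup X} (hA : IsPGroup 2 A) (hAn : A ≤ nf X (x • V))
    (hsq : ∀ a ∈ A, ∀ v ∈ x • V, a • a • v = v) (hne : ¬ A ≤ cf X (x • V)) :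
    Nat.card A * Nat.card ↥(x • V ⊓ fx U A) < Nat.card V * Nat.card ↥(A ⊓ cf X (x • V)) := by
  have h1 := h.nff (cj x⁻¹ A) (isPGroup_cj _ hA) (fun a ha => by
      rw [mem_cj, inv_inv] at ha
      have h2 := hAn ha
      rw [nf_conj] at h2
      have e : x⁻¹ * (x * a * x⁻¹) * x = a := by group
      rwa [e] at h2) (fun a ha v hv => by
      rw [mem_cj, inv_inv] at ha
      have h2 := hsq _ ha _ (smul_mem' (x := x) hv)
      rw [smul_smul, smul_smul] at h2
      have e : x * a * x⁻¹ * (x * a * x⁻¹) * x = x * (a * a) := by group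
      rw [e, mul_smul] at h2
      rw [smul_smul]
      exact smul_left_cancel x h2) (fun h0 => hne (fun a ha => by
      rw [cf_conj]
      have h2 := h0 (mem_cj_of (g := x⁻¹) ha)
      rwa [inv_inv] at h2))
  rw [card_cj] at h1
  have e1 : Nat.card ↥(V ⊓ fx U (cj x⁻¹ A)) = Nat.card ↥(x • V ⊓ fx U A) := by
    refine (card_smul x fun v => ?_).symm
    constructor
    · rintro ⟨h2, h3⟩
      exact ⟨mem_smul.1 h2, smul_mem_fx_cj h3⟩
    · rintro ⟨h2, h3⟩
      have h3' := mem_fx_cj.1 h3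
      rw [inv_inv, smul_inv_smul] at h3'
      exact ⟨mem_smul.2 h2, h3'⟩
  have e2 : Nat.card ↥(cj x⁻¹ A ⊓ cf X V) = Nat.card ↥(A ⊓ cf X (x • V)) := by
    have e3 : cj x⁻¹ A ⊓ cf X V = cj x⁻¹ (A ⊓ cf X (x • V)) := by
      ext a
      rw [mem_cj, inv_inv, Subgroup.mem_inf, Subgroup.mem_inf, mem_cj, inv_inv, cf_conj]
      have e : x⁻¹ * (x * a * x⁻¹) * x = a := by group
      rw [e]
    rw [e3, card_cj]
  rw [e1, e2] at h1
  exact h1

/-- `C_{V^g}(b) ≤ F` if `b` moves the line `V^g` -/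
theorem fe_inf {g b : X} (hb : b ∉ nf X (g • V)) : g • V ⊓ fe U b ≤ F := by
  rintro v ⟨h1, h2⟩
  refine h.ti' (x := g) (y := b * g) ?_ ⟨h1, ?_⟩
  · intro h0
    apply hb
    rw [mem_nf, ← mul_smul]
    exact h0.symm
  · rw [mul_smul]
    have h3 := smul_mem' (x := b) h1
    have h4 : b • v = v := h2
    rwa [h4] at h3

/-- `C_{V^g}(B) = F` -/
theorem fx_inf {g : X} (hg : ¬ B ≤ nf X (g • V)) : g • V ⊓ fx U B = F := by
  refine le_antisymm ?_ (le_inf (h.F_le g) (h.F_fx B))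
  rw [SetLike.not_le_iff_exists] at hg
  obtain ⟨b, hb, hbn⟩ := hg
  exact (inf_le_inf_left _ (fx_le_fe hb)).trans (fe_inf h hbn)

variable [Finite X]

theorem core_nf (x : X) : pCore 2 X ≤ nf X (x • V) := by
  intro q hq
  rw [nf_conj]
  have hn : (pCore 2 X).Normal := Lib.Cores.pCore_normal 2
  have h1 : x⁻¹ * q * x ∈ pCore 2 X := by
    have := hn.conj_mem q hq x⁻¹
    rwa [inv_inv] at this
  exact h.SV (Lib.Cores.pCore_le_sylow S h1)

variable [Finite U]

/-- a best offender which normalises a line centralises it. -/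
theorem bo_cent {A : Subgroup X} (hA : BO U A) {x : X} (hx : A ≤ nf X (x • V)) : A ≤ cf X (x • V) := by
  by_contra hne
  have h1 := h.nff' x hA.ea.isPGroup hx (fun a ha v _ => by rw [smul_smul, hA.ea a ha, one_smul]) hne
  set E := A ⊓ cf X (x • V) with hE
  have h2 := hA.le E inf_le_left
  have h3 : x • V ⊔ fx U A ≤ fx U E := by
    refine sup_le ?_ (fx_anti inf_le_left)
    exact le_cf.1 inf_le_right
  have h4 := card_sup_inf (x • V) (fx U A)
  have h5 := card_le h3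
  rw [card_smul'] at h4
  rw [mm, mm] at h2
  have h6 : Nat.card V * Nat.card E ≤ Nat.card A * Nat.card ↥(x • V ⊓ fx U A) := by
    have p : 0 < Nat.card (fx U A) := Nat.card_pos
    refine Nat.le_of_mul_le_mul_right ?_ p
    calc Nat.card V * Nat.card E * Nat.card (fx U A) = Nat.card E * (Nat.card V * Nat.card (fx U A)) := by ring
      _ = Nat.card E * (Nat.card ↥(x • V ⊔ fx U A) * Nat.card ↥(x • V ⊓ fx U A)) := by rw [h4]
      _ ≤ Nat.card E * (Nat.card (fx U E) * Nat.card ↥(x • V ⊓ fx U A)) :=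
        Nat.mul_le_mul_left _ (Nat.mul_le_mul_right _ h5)
      _ = Nat.card E * Nat.card (fx U E) * Nat.card ↥(x • V ⊓ fx U A) := by ring
      _ ≤ Nat.card A * Nat.card (fx U A) * Nat.card ↥(x • V ⊓ fx U A) := Nat.mul_le_mul_right _ h2
      _ = _ := by ring
  exact absurd h1 (not_lt.2 h6)

end DatU

theorem MBU.bo [Finite X] [Finite U] (m : MBU U B) : BO U B where
  ea := m.ea
  le := fun E hE => by
    by_cases h0 : E = ⊥
    · rw [h0, mm_bot]; exact m.off
    · rcases hE.eq_or_lt with h1 | h1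
      · rw [h1]
      · exact (m.min E h1 h0).le

theorem MBU.ne_bot (m : MBU U B) : B ≠ ⊥ := fun h0 => m.nle (h0 ▸ bot_le)

section sub

variable {Y₀ : Subgroup X}

theorem fx_sub {E : Subgroup Y₀} : fx U (E.map Y₀.subtype) = fx U E := by
  ext u
  constructor
  · intro hu e he
    exact hu e ⟨e, he, rfl⟩
  · rintro hu _ ⟨e, he, rfl⟩
    exact hu e he

theorem card_sub (E : Subgroup Y₀) : Nat.card (E.map Y₀.subtype) = Nat.card E :=
  (Nat.card_congr (Subgroup.equivMapOfInjective _ _ Y₀.subtype_injective).toEquiv).symm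

theorem mm_sub (E : Subgroup Y₀) : mm U (E.map Y₀.subtype) = mm U E := by
  rw [mm, mm, fx_sub, card_sub]

theorem map_sub {E : Subgroup X} (hE : E ≤ Y₀) : (E.subgroupOf Y₀).map Y₀.subtype = E := by
  rw [Subgroup.subgroupOf_map_subtype, inf_eq_left.2 hE]

end sub

/-- THEOREM L for `X₁ = ⟨B, B^x⟩` -/
theorem exists_out [Finite X] [Finite U] (h : DatU S V F) (m : MBU U B) :
    ∃ (Y₀ : Subgroup X) (y : X), B ≤ Y₀ ∧ Hyp (B.subgroupOf Y₀) ((MulAut.conj y • nf X V).subgroupOf Y₀) (y • V) := by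
  obtain ⟨x, y, hti⟩ := Lift.exists_ti S (nf X V) h.SV h.ne h.uniq m.ea.isPGroup m.nle
  set Y₀ := B ⊔ MulAut.conj x • B with hY₀
  have hB : B ≤ Y₀ := le_sup_left
  have hBm := map_sub hB
  refine ⟨Y₀, y, hB, Hyp.of_nff h.two (fun z hz => Subtype.ext (h.faith z fun u => hz u)) hti ?_ ?_ ?_ ?_ ?_ ?_⟩
  · intro a ha
    exact Subtype.ext (m.ea _ (Subgroup.mem_subgroupOf.1 ha))
  · rw [← mm_sub, hBm]; exact m.off
  · intro E hE hE0
    rw [← mm_sub E, ← mm_sub (B.subgroupOf Y₀), hBm]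
    refine m.min _ ?_ ?_
    · rw [← hBm]
      exact lt_of_le_of_ne (Subgroup.map_mono hE.le) fun h0 =>
        hE.ne (Subgroup.map_injective Y₀.subtype_injective h0)
    · intro h0
      exact hE0 ((Subgroup.map_eq_bot_iff_of_injective _ Y₀.subtype_injective).1 h0)
  · intro z hz
    have h1 := MinFF.mem_cj.1 (Subgroup.mem_subgroupOf.1 hz)
    rw [← nf_conj] at h1
    exact h1
  · intro A hA hAM hsq hne
    have hAn : A.map Y₀.subtype ≤ nf X (y • V) := by
      rintro _ ⟨a, ha, rfl⟩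
      have h1 := MinFF.mem_cj.1 (Subgroup.mem_subgroupOf.1 (hAM ha))
      rw [← nf_conj] at h1
      exact h1
    have h1 := h.nff' y (hA.map Y₀.subtype) hAn (by
      rintro _ ⟨a, ha, rfl⟩ v hv
      exact hsq a ha v hv) (fun h0 => hne fun a ha => h0 ⟨a, ha, rfl⟩)
    rw [card_sub, fx_sub] at h1
    have h2 : A.map Y₀.subtype ⊓ cf X (y • V) = (A ⊓ cf Y₀ (y • V)).map Y₀.subtype := by
      ext z
      constructor
      · rintro ⟨⟨a, ha, rfl⟩, hz⟩
        exact ⟨a, ⟨ha, hz⟩, rfl⟩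
      · rintro ⟨a, ⟨ha, hz⟩, rfl⟩
        exact ⟨⟨a, ha, rfl⟩, hz⟩
    rw [h2, card_sub] at h1
    rw [card_smul']
    exact h1
  · intro h0
    apply hti.ne
    rw [eq_top_iff]
    intro z _
    rw [Subgroup.mem_subgroupOf, MinFF.mem_cj, ← nf_conj]
    refine cf_le_nf (y • V) ?_
    intro v hv
    exact h0 hv z (Subgroup.mem_top z)

/-- **TIGHT** -/
theorem tight [Finite X] [Finite U] (h : DatU S V F) (m : MBU U B) : Tight B V F := by
  obtain ⟨Y₀, y, hB, hy⟩ := exists_out h m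
  have o := core hy
  have hBm := map_sub hB
  set A := B.subgroupOf Y₀ with hA
  set M := (MulAut.conj y • nf X V).subgroupOf Y₀ with hM
  have memM : ∀ k : Y₀, k ∈ M ↔ (k : X) ∈ nf X (y • V) := by
    intro k
    rw [hM, Subgroup.mem_subgroupOf, MinFF.mem_cj, ← nf_conj]
  have mmB : mm U B = Nat.card U := by rw [← hBm, mm_sub]; exact o.mm_eq
  obtain ⟨k, hk⟩ := hy.ti.exists_not_mem
  have pF : 0 < Nat.card F := Nat.card_pos
  have pZ : 0 < Nat.card (fx U (⊤ : Subgroup Y₀)) := Nat.card_pos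
  -- `V^y ∩ Z = F`
  have hVZ : (y • V) ⊓ fx U (⊤ : Subgroup Y₀) = F := by
    apply le_antisymm
    · rintro v ⟨hv, hvZ⟩
      have hne : y • V ≠ ((k : X) * y) • V := by
        intro h0
        apply hk
        rw [memM, mem_nf, ← mul_smul]
        exact h0.symm
      refine h.ti' hne ⟨hv, ?_⟩
      have h2 : (k : X) • v = v := hvZ k (Subgroup.mem_top k)
      rw [← h2, mul_smul]
      exact smul_mem' hv
    · exact le_inf (h.F_le y) fun f hf k _ => h.Fx (k : X) f hf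
  have hcardA : Nat.card A = Nat.card B := by rw [← card_sub, hBm]
  have hcard : Nat.card B * Nat.card F = Nat.card V := by
    have h1 := card_sup_inf (y • V) (fx U (⊤ : Subgroup Y₀))
    rw [hVZ, card_smul'] at h1
    have h2 := o.card
    rw [hcardA] at h2
    refine Nat.eq_of_mul_eq_mul_right pZ ?_
    rw [← h1, h2]; ring
  have hall : ∀ x : X, ¬ B ≤ nf X (x • V) → TightAt B V F x := by
    intro x hx
    have hinf := h.fx_inf hx
    have hsup : x • V ⊔ fx U B = ⊤ := by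
      refine eq_of_card_le le_top ?_
      have h1 := card_sup_inf (x • V) (fx U B)
      rw [hinf, card_smul', ← hcard] at h1
      rw [card_top, ← mmB, mm]
      refine Nat.le_of_mul_le_mul_right ?_ pF
      rw [h1]
      exact le_of_eq (by ring)
    have hcomm : ∀ b ∈ B, b ∈ nf X (x • V) → ∀ u : U, b • u - u ∈ F := by
      intro b hb hbn u
      have hu : u ∈ x • V ⊔ fx U B := by rw [hsup]; trivial
      obtain ⟨v, hv, c, hc, rfl⟩ := mem_sup hu
      have e : b • (v + c) - (v + c) = (b • v - v) + (b • c - c) := by rw [smul_add]; abel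
      rw [e, hc b hb, sub_self, add_zero, ← hinf]
      exact AddSubgroup.mem_inf.2 ⟨sub_mem (nf_smul hbn hv) hv, fun c hc =>
        quad' h.two m.ea m.ne_bot m.off m.min b hb c hc v⟩
    have hKF : ∀ b : X, (∀ u : U, b • u - u ∈ F) → b ∈ pCore 2 X := by
      have h1 : KF X F h.Fx ≤ pCore 2 X := by
        refine Lib.Cores.le_pCore ⟨fun a ha g => ?_⟩ ?_
        · intro w
          have h1 := ha (g⁻¹ • w)
          have h2 := h.Fx g _ h1
          have e : (g * a * g⁻¹) • w - w = g • (a • g⁻¹ • w - g⁻¹ • w) := by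
            rw [smul_sub, smul_inv_smul, mul_smul, mul_smul]
          rw [e, h2]; exact h1
        · intro a
          refine ⟨1, Subtype.ext ?_⟩
          have h3 : (a : X) * a = 1 := by
            apply h.faith
            intro u
            have h4 := h.Fx a _ (a.2 u)
            have e : ((a : X) * a) • u = (a : X) • ((a : X) • u - u) + (a : X) • u := by
              rw [mul_smul, smul_sub]; abel
            rw [e, h4]
            have e2 : (a : X) • u - u + (a : X) • u = ((a : X) • u + (a : X) • u) - u := by abel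
            rw [e2, h.two, zero_sub]
            exact neg_eq_of_add_eq_zero_left (h.two u)
          simpa [pow_two] using h3
      intro b hb
      exact h1 hb
    refine ⟨hsup, hinf, ?_, ?_⟩
    · apply le_antisymm
      · rintro b ⟨hb, hbn⟩
        exact ⟨hb, hKF b (hcomm b hb hbn)⟩
      · exact inf_le_inf_left _ (h.core_nf x)
    · rw [Subgroup.eq_bot_iff_forall]
      rintro b ⟨⟨hb, -⟩, hbc⟩
      apply h.faith
      intro u
      have hu : u ∈ x • V ⊔ fx U B := by rw [hsup]; trivial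
      obtain ⟨v, hv, c, hc, rfl⟩ := mem_sup hu
      rw [smul_add, hbc v hv, hc b hb]
  -- a moved line
  have hx : ¬ B ≤ nf X (((k : X) * y) • V) := by
    intro h0
    apply hk
    apply hy.ti.ti
    intro a ha
    rw [MinFF.mem_cj, memM]
    have h1 := h0 (Subgroup.mem_subgroupOf.1 ha)
    rw [mul_smul, nf_conj] at h1
    exact h1
  have tx := hall _ hx
  refine ⟨mmB, hcard, ?_, ?_, ⟨_, hx⟩, hall⟩
  · -- `C_U(B ∩ O₂(X)) = C_U(B)`
    intro hne
    have h1 := o.nf k hk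
    have h2 : (A ⊓ pCore 2 Y₀).map Y₀.subtype = B ⊓ pCore 2 X := by
      rw [← h1, ← tx.nf_eq]
      ext b
      constructor
      · rintro ⟨a, ⟨ha, hak⟩, rfl⟩
        refine ⟨Subgroup.mem_subgroupOf.1 ha, ?_⟩
        have h3 := MinFF.mem_cj.1 hak
        rw [memM] at h3
        have h4 : (a : X) ∈ nf X ((k : X) • y • V) := nf_conj.2 h3
        rw [← mul_smul] at h4
        exact h4
      · rintro ⟨hb, hbn⟩
        refine ⟨⟨b, hB hb⟩, ⟨Subgroup.mem_subgroupOf.2 hb, ?_⟩, rfl⟩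
        refine MinFF.mem_cj.2 ?_
        rw [memM]
        have h4 : b ∈ nf X ((k : X) • y • V) := by rw [← mul_smul]; exact hbn
        exact nf_conj.1 h4
    have h3 : A ⊓ pCore 2 Y₀ ≠ ⊥ := by
      intro h0
      rw [h0, Subgroup.map_bot] at h2
      exact hne h2.symm
    have h4 := o.fx_eq h3
    rw [← h2, fx_sub, h4, ← fx_sub, hBm]
  · intro b hb u
    have hbn := h.core_nf ((k : X) * y) hb.2
    have hu : u ∈ ((k : X) * y) • V ⊔ fx U B := by rw [tx.sup]; trivial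
    obtain ⟨v, hv, c, hc, rfl⟩ := mem_sup hu
    have e : b • (v + c) - (v + c) = (b • v - v) + (b • c - c) := by rw [smul_add]; abel
    rw [e, hc b hb.1, sub_self, add_zero, ← tx.inf]
    exact AddSubgroup.mem_inf.2 ⟨sub_mem (nf_smul hbn hv) hv, fun c hc => quad' h.two m.ea m.ne_bot m.off m.min b hb.1 c hc v⟩

/-- **no over-offenders** with `C_U(E) ≥ C_U(B)` -/
theorem noover [Finite X] [Finite U] (h : DatU S V F) (m : MBU U B) {E : Subgroup X} (hE : EA E)
    (hle : fx U B ≤ fx U E) : mm U E ≤ Nat.card U := by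
  classical
  by_contra hcon
  push Not at hcon
  obtain ⟨E₁, hE₁, hmax⟩ := Set.exists_max_image {E' : Subgroup X | E' ≤ E} (fun E' => mm U E') (Set.toFinite _) ⟨E, le_refl E⟩
  obtain ⟨E₂, ⟨hE₂, hE₂m⟩, hmin⟩ := Set.exists_min_image {E' : Subgroup X | E' ≤ E ∧ mm U E' = mm U E₁}
    (fun E' => Nat.card E') (Set.toFinite _) ⟨E₁, hE₁, rfl⟩
  have h1 : Nat.card U < mm U E₂ := by
    rw [hE₂m]; exact lt_of_lt_of_le hcon (hmax E (le_refl E))
  have hbo : BO U E₂ := ⟨hE.mono hE₂, fun E' h' => by rw [hE₂m]; exact hmax E' (h'.trans hE₂)⟩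
  by_cases hQ : E₂ ≤ pCore 2 X
  · obtain ⟨x, hx⟩ := (tight h m).ex
    have t := (tight h m).all x hx
    have h2 := h.bo_cent hbo (x := x) (hQ.trans (h.core_nf x))
    have h3 : E₂ = ⊥ := by
      rw [Subgroup.eq_bot_iff_forall]
      intro e he
      apply h.faith
      intro u
      have hu : u ∈ x • V ⊔ fx U B := by rw [t.sup]; trivial
      obtain ⟨v, hv, c, hc, rfl⟩ := mem_sup hu
      rw [smul_add, h2 he v hv, hle hc e (hE₂ he)]
    rw [h3, mm_bot] at h1
    exact lt_irrefl _ h1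
  · have m₂ : MBU U E₂ :=
      { ea := hE.mono hE₂
        nle := hQ
        off := h1.le
        min := fun E' h' h0 => by
          refine lt_of_le_of_ne (hbo.le E' h'.le) fun heq => ?_
          have h2 := hmin E' ⟨h'.le.trans hE₂, heq.trans hE₂m⟩
          exact h'.ne (Subgroup.eq_of_le_of_card_ge h'.le h2) }
    have h2 := (tight h m₂).mm_eq
    omega

/-- FULL: `κ ∈ O₂(X)`, `[C_U(B), κ] = 1`, `[U, κ] ≤ F` imply `κ ∈ B` -/
theorem full [Finite X] [Finite U] (h : DatU S V F) (m : MBU U B) {κ : X} (hB : ∀ u ∈ fx U B, κ • u = u)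
    (hF : ∀ u : U, κ • u - u ∈ F) : κ ∈ B := by
  have hF' : ∀ u : U, κ • (κ • u - u) = κ • u - u := fun u => h.Fx κ _ (hF u)
  have hsq : κ * κ = 1 := by
    apply h.faith
    intro u
    have e : (κ * κ) • u = κ • (κ • u - u) + κ • u := by rw [mul_smul, smul_sub]; abel
    rw [e, hF' u]
    have e2 : κ • u - u + κ • u = (κ • u + κ • u) - u := by abel
    rw [e2, h.two, zero_sub]
    exact neg_eq_of_add_eq_zero_left (h.two u)
  have hcomm : ∀ b ∈ B, b * κ = κ * b := by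
    intro b hb
    have h1 : (κ * b)⁻¹ * (b * κ) = 1 := by
      apply h.faith
      intro u
      rw [mul_smul, inv_smul_eq_iff, mul_smul, mul_smul]
      have h2 : b • (κ • u - u) = κ • u - u := h.Fx b _ (hF u)
      have h3 : κ • (b • u - u) = b • u - u := hB _ fun c hc =>
        quad' h.two m.ea m.ne_bot m.off m.min b hb c hc u
      rw [smul_sub] at h2 h3
      have e1 : b • κ • u = κ • u - u + b • u := by rw [← h2]; abel
      have e2 : κ • b • u = b • u - u + κ • u := by rw [← h3]; abel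
      rw [e1, e2]; abel
    exact (inv_mul_eq_one.1 h1).symm
  -- `E = B ⟨κ⟩`
  let E : Subgroup X :=
    { carrier := {x | x ∈ B ∨ κ * x ∈ B}
      one_mem' := Or.inl B.one_mem
      mul_mem' := by
        intro x y hx hy
        rcases hx with hx | hx <;> rcases hy with hy | hy
        · exact Or.inl (B.mul_mem hx hy)
        · right
          have e : κ * (x * y) = x * (κ * y) := by rw [← mul_assoc, ← hcomm x hx, mul_assoc]
          rw [e]; exact B.mul_mem hx hy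
        · right
          rw [← mul_assoc]; exact B.mul_mem hx hy
        · left
          have h1 := B.mul_mem hx hy
          have e : κ * x * (κ * y) = x * y := by
            have h2 : κ * x * κ = x := by
              have := hcomm _ hx
              rw [← mul_assoc, hsq, one_mul] at this
              exact this
            rw [← mul_assoc, h2]
          rw [e] at h1; exact h1
      inv_mem' := by
        intro x hx
        rcases hx with hx | hx
        · exact Or.inl (B.inv_mem hx)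
        · right
          have h1 := hcomm _ hx
          have hκ : κ⁻¹ = κ := inv_eq_of_mul_eq_one_left hsq
          have h2 : κ * x⁻¹ = (κ * x)⁻¹ := by
            rw [mul_inv_rev, hκ]
            have h3 : κ * x * κ = x := by
              have := h1
              rw [← mul_assoc, hsq, one_mul] at this
              exact this
            have h4 : x = κ * x * κ := h3.symm
            have h5 : x⁻¹ = κ * x⁻¹ * κ := by
              calc x⁻¹ = (κ * x * κ)⁻¹ := by rw [h3]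
                _ = κ * x⁻¹ * κ := by rw [mul_inv_rev, mul_inv_rev, hκ, mul_assoc]
            calc κ * x⁻¹ = κ * (κ * x⁻¹ * κ) := by rw [← h5]
              _ = (κ * κ) * x⁻¹ * κ := by group
              _ = x⁻¹ * κ := by rw [hsq, one_mul]
          rw [h2]; exact B.inv_mem hx }
  have hBE : B ≤ E := fun b hb => Or.inl hb
  have hκE : κ ∈ E := Or.inr (by rw [hsq]; exact B.one_mem)
  have hEA : EA E := by
    intro x hx
    rcases hx with hx | hx
    · exact m.ea x hx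
    · have h1 := hcomm _ hx
      have h3 : κ * x * κ = x := by
        have := h1
        rw [← mul_assoc, hsq, one_mul] at this
        exact this
      have h4 := m.ea _ hx
      have e : κ * x * (κ * x) = x * x := by rw [← mul_assoc, h3]
      rw [e] at h4; exact h4
  have hfx : fx U B ≤ fx U E := by
    intro u hu x hx
    rcases hx with hx | hx
    · exact hu x hx
    · have h1 := hu _ hx
      rw [mul_smul] at h1
      have h2 : κ • (x • u) = κ • u := by rw [h1, hB u hu]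
      exact smul_left_cancel κ h2
  have h1 := noover h m hEA hfx
  have h2 := (tight h m).mm_eq
  have h3 : fx U E = fx U B := le_antisymm (fx_anti hBE) hfx
  rw [← h2, mm, mm, h3] at h1
  have h4 := Nat.le_of_mul_le_mul_right h1 Nat.card_pos
  have h5 := Subgroup.eq_of_le_of_card_ge hBE h4
  rw [h5]; exact hκE

/-! ### the setting of `Exit/BO.lean` -/

theorem DatU.of_dat (h : Dat S V F) : DatU S V F where
  two := h.two
  faith := h.faith
  SV := h.SV
  ne := h.ne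
  uniq := h.uniq
  FV := h.FV
  Fx := h.Fx
  ti := h.ti
  nff := h.nff

theorem MBU.of_mb [Finite X] [Finite U] (m : MB U B) (h : Dat S V F) : MBU U B where
  ea := m.bo.ea
  nle := m.nle
  off := m.card_le_mm
  min := fun E hE hne => by
    have h1 := m.two_mul h hE hne
    have h2 : 0 < mm U E := Nat.mul_pos Nat.card_pos Nat.card_pos
    omega

end Cfsg.Agent.Omega.NO3b.TheoremL.Tight

end

section


/-!
# THEOREM L (#18749, helper344): two noncentral `X`-factors in `U` imply `B ∩ O₂(X) ≠ 1`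

`ne_of_two` : if `N ≤ U` is `X`-invariant and the elements of odd order act nontrivially on `N` and on `U / N`, then
`B ∩ O₂(X) ≠ 1`.
-/

set_option autoImplicit false
set_option linter.unusedSectionVars false

namespace Cfsg.Agent.Omega.NO3b.TheoremL.Ne

open Cfsg.Agent.Omega.FF.Basic
open Cfsg.Agent.Omega.NO3b.Exit.TT
open Cfsg.Agent.Omega.NO3b.TheoremL.Act (Q Sec)
open Cfsg.Agent.Omega.NO3b.TheoremL.Core1 (Hyp)
open Cfsg.Agent.Omega.NO3b.TheoremL.Core3 (Out core VZ)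
open Cfsg.Agent.Omega.NO3b.TheoremL.Tight
open Cfsg.Agent.Omega.MinFF (TI)
open Cfsg (pCore)
open scoped Pointwise

variable {X : Type*} [Group X] [Finite X] {U : Type*} [AddCommGroup U] [Finite U] [DistribMulAction X U]
  {S : Sylow 2 X} {V F : AddSubgroup U} {B : Subgroup X}

/-- a normal subgroup which contains a 2-subgroup `B ≰ O₂(X)` contains all elements of odd order -/
theorem odd_mem (h : DatU S V F) {K : Subgroup X} (hK : K.Normal) (hB : IsPGroup 2 B) (hBK : B ≤ K)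
    (hne : ¬ B ≤ pCore 2 X) {x : X} (hx : Odd (orderOf x)) : x ∈ K := by
  classical
  have hf : Fact (Nat.Prime 2) := ⟨Nat.prime_two⟩
  by_cases hKV : K ≤ nf X V
  · exfalso
    apply hne
    have h1 := Lib.SylowNormalInf.normalizer_inf_sup_eq_top S K
    have h2 : (S : Subgroup X) ≤ Subgroup.normalizer (((S : Subgroup X) ⊓ K : Subgroup X) : Set X) := by
      intro s hs
      rw [← cj_eq_iff_mem_normalizer]
      ext z
      rw [mem_cj, Subgroup.mem_inf, Subgroup.mem_inf]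
      constructor
      · rintro ⟨h3, h4⟩
        have h5 := (S : Subgroup X).mul_mem ((S : Subgroup X).mul_mem hs h3) ((S : Subgroup X).inv_mem hs)
        have h6 := hK.conj_mem _ h4 s
        have e : s * (s⁻¹ * z * s) * s⁻¹ = z := by group
        rw [e] at h5 h6
        exact ⟨h5, h6⟩
      · rintro ⟨h3, h4⟩
        have h6 := hK.conj_mem _ h4 s⁻¹
        rw [inv_inv] at h6
        exact ⟨(S : Subgroup X).mul_mem ((S : Subgroup X).mul_mem ((S : Subgroup X).inv_mem hs) h3) hs, h6⟩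
    have h3 : Subgroup.normalizer (((S : Subgroup X) ⊓ K : Subgroup X) : Set X) = ⊤ := by
      by_contra h4
      have h5 := h.uniq _ h2 h4
      apply h.ne
      rw [eq_top_iff, ← h1]
      exact sup_le h5 hKV
    have h4 : ((S : Subgroup X) ⊓ K).Normal := Subgroup.normalizer_eq_top_iff.1 h3
    have h5 : (S : Subgroup X) ⊓ K ≤ pCore 2 X := Lib.Cores.le_pCore h4 (S.isPGroup'.to_le inf_le_left)
    obtain ⟨P, hP⟩ := hB.exists_le_sylow
    obtain ⟨g, hg⟩ := MulAction.exists_smul_eq X P S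
    have hg' : ∀ z : X, z ∈ (P : Subgroup X) → g * z * g⁻¹ ∈ (S : Subgroup X) := by
      intro z hz
      rw [← hg]
      show g * z * g⁻¹ ∈ ((g • P : Sylow 2 X) : Subgroup X)
      rw [MinFF.coe_smul_sylow, MinFF.mem_cj]
      have e : g⁻¹ * (g * z * g⁻¹) * g = z := by group
      rw [e]; exact hz
    intro b hb
    have h6 : g * b * g⁻¹ ∈ (S : Subgroup X) ⊓ K := ⟨hg' b (hP hb), hK.conj_mem b (hBK hb) g⟩
    have h7 := h4.conj_mem _ h6 g⁻¹
    have e : g⁻¹ * (g * b * g⁻¹) * g⁻¹⁻¹ = b := by group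
    rw [e] at h7
    exact h5 h7
  · have h1 : (S : Subgroup X) ⊔ K = ⊤ := by
      by_contra h2
      exact hKV (le_sup_right.trans (h.uniq _ le_sup_left h2))
    -- `X / K` is a 2-group
    have h2 : IsPGroup 2 (X ⧸ K) := by
      intro q
      obtain ⟨z, rfl⟩ := QuotientGroup.mk_surjective q
      have hz : z ∈ (S : Subgroup X) ⊔ K := by rw [h1]; trivial
      obtain ⟨s, hs, k, hk, rfl⟩ := Subgroup.mem_sup_of_normal_right.1 hz
      obtain ⟨n, hn⟩ := S.isPGroup' ⟨s, hs⟩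
      refine ⟨n, ?_⟩
      have h3 : (QuotientGroup.mk (s * k) : X ⧸ K) = QuotientGroup.mk s := by
        rw [QuotientGroup.mk_mul, (QuotientGroup.eq_one_iff k).2 hk, mul_one]
      have h4 : s ^ 2 ^ n = 1 := congrArg Subtype.val hn
      rw [h3, ← QuotientGroup.mk_pow, h4]; rfl
    have h3 : orderOf (QuotientGroup.mk x : X ⧸ K) ∣ orderOf x := orderOf_map_dvd (QuotientGroup.mk' K) x
    obtain ⟨n, hn⟩ := h2 (QuotientGroup.mk x)
    have h4 := orderOf_dvd_of_pow_eq_one hn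
    have h5 : orderOf (QuotientGroup.mk x : X ⧸ K) = 1 := by
      have h6 : Nat.Coprime (orderOf x) (2 ^ n) := (Nat.coprime_two_right.2 hx).pow_right n
      exact Nat.eq_one_of_dvd_coprimes h6 h3 h4
    exact (QuotientGroup.eq_one_iff x).1 (orderOf_eq_one_iff.1 h5)

/-- **two noncentral `X`-factors** in `U` -/
theorem ne_of_two (h : DatU S V F) (m : MBU U B) {N : AddSubgroup U} (hN : ∀ x : X, ∀ v ∈ N, x • v ∈ N)
    (h1 : ∃ x : X, Odd (orderOf x) ∧ ∃ u : U, x • u - u ∉ N) (h2 : ∃ x : X, Odd (orderOf x) ∧ ∃ v ∈ N, x • v ≠ v) :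
    B ⊓ pCore 2 X ≠ ⊥ := by
  intro h0
  obtain ⟨Y₀, y, hB, hy⟩ := exists_out h m
  have o := core hy
  have t := tight h m
  set A := B.subgroupOf Y₀ with hA
  set M := (MulAut.conj y • nf X V).subgroupOf Y₀ with hM
  have memM : ∀ k : Y₀, k ∈ M ↔ (k : X) ∈ nf X (y • V) := by
    intro k
    rw [hM, Subgroup.mem_subgroupOf, MinFF.mem_cj, ← nf_conj]
  obtain ⟨k, hk⟩ := hy.ti.exists_not_mem
  have hx : ¬ B ≤ nf X (((k : X) * y) • V) := by
    intro h0
    apply hk
    apply hy.ti.ti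
    intro a ha
    rw [MinFF.mem_cj, memM]
    have h1 := h0 (Subgroup.mem_subgroupOf.1 ha)
    rw [mul_smul, nf_conj] at h1
    exact h1
  have tx := t.all _ hx
  have hA₁ : A ⊓ pCore 2 Y₀ = ⊥ := by
    rw [← o.nf k hk, Subgroup.eq_bot_iff_forall]
    rintro a ⟨ha, hak⟩
    have h3 := MinFF.mem_cj.1 hak
    rw [memM] at h3
    have h4 : (a : X) ∈ nf X ((k : X) • y • V) := nf_conj.2 h3
    rw [← mul_smul] at h4
    have h5 : (a : X) ∈ B ⊓ nf X (((k : X) * y) • V) := ⟨Subgroup.mem_subgroupOf.1 ha, h4⟩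
    rw [tx.nf_eq, h0, Subgroup.mem_bot] at h5
    exact Subtype.ext h5
  set Z := fx U (⊤ : Subgroup Y₀) with hZ
  have hD : Act.D U A = ⊤ := by
    rw [eq_top_iff, ← o.sup k hk]
    refine sup_le ?_ Q.C_le_D
    exact (AddSubgroup.pointwise_smul_le_pointwise_smul_iff.2 hy.V_le_C).trans (Q.smul_C_le_D k)
  have hP : Sec U A (N ⊔ Z) :=
    { Z_le := le_sup_right
      le_D := by rw [hD]; exact le_top
      inv := fun z v hv => by
        obtain ⟨n, hn, c, hc, rfl⟩ := AddSubgroup.mem_sup.1 hv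
        rw [smul_add, Q.Z_smul hc]
        exact add_mem (AddSubgroup.mem_sup_left (hN (z : X) n hn)) (AddSubgroup.mem_sup_right hc) }
  have hcase : N ≤ Z ∨ N ⊔ Z = ⊤ := by
    by_cases hNZ : N ≤ Z
    · exact Or.inl hNZ
    · right
      have hlt : Z < N ⊔ Z := lt_of_le_of_ne le_sup_right fun h3 => hNZ (by rw [h3]; exact le_sup_left)
      have h3 := hP.index hy.toQ hy.secZ hlt
      rw [← hZ, inf_eq_left.2 (Q.Z_le A), hA₁, Subgroup.card_bot, one_mul] at h3
      have h4 : Nat.card (fx U A) = Nat.card A * Nat.card Z := by rw [o.C_eq]; exact o.card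
      have h5 : (N ⊔ Z) ⊓ fx U A = fx U A := eq_of_card_le inf_le_right (by rw [h4]; exact h3)
      have h6 : fx U A ≤ N ⊔ Z := by rw [← h5]; exact inf_le_left
      rw [eq_top_iff, ← o.sup k hk]
      refine sup_le ?_ h6
      refine (AddSubgroup.pointwise_smul_le_pointwise_smul_iff.2 hy.V_le_C : k • y • V ≤ k • fx U A).trans ?_
      intro v hv
      rw [mem_smul] at hv
      have h7 := hP.inv k _ (h6 hv)
      rwa [smul_inv_smul] at h7
  rcases hcase with hc | hc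
  · obtain ⟨x, hxo, v, hv, hne⟩ := h2
    let K : Subgroup X := cf X N
    have hK : K.Normal := by
      constructor
      intro a ha g n hn
      have h3 := ha _ (hN g⁻¹ n hn)
      rw [mul_smul, mul_smul, h3, smul_inv_smul]
    apply hne
    refine odd_mem h hK m.ea.isPGroup ?_ m.nle hxo v hv
    intro b hb n hn
    exact hc hn ⟨b, hB hb⟩ (Subgroup.mem_top _)
  · obtain ⟨x, hxo, u, hu⟩ := h1
    let K : Subgroup X :=
      { carrier := {x | ∀ u : U, x • u - u ∈ N}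
        one_mem' := fun u => by rw [one_smul, sub_self]; exact zero_mem _
        mul_mem' := fun {a b} ha hb u => by
          have e : (a * b) • u - u = (a • (b • u) - b • u) + (b • u - u) := by rw [mul_smul]; abel
          rw [e]; exact add_mem (ha _) (hb u)
        inv_mem' := fun {a} ha u => by
          have h3 := ha (a⁻¹ • u)
          rw [smul_inv_smul] at h3
          have e : a⁻¹ • u - u = -(u - a⁻¹ • u) := by abel
          rw [e]; exact neg_mem h3 }
    have hK : K.Normal := by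
      constructor
      intro a ha g u
      have h3 := hN g _ (ha (g⁻¹ • u))
      have e : (g * a * g⁻¹) • u - u = g • (a • g⁻¹ • u - g⁻¹ • u) := by
        rw [smul_sub, smul_inv_smul, mul_smul, mul_smul]
      rw [e]; exact h3
    apply hu
    refine odd_mem h hK m.ea.isPGroup ?_ m.nle hxo u
    intro b hb w
    have hw : w ∈ N ⊔ Z := by rw [hc]; trivial
    obtain ⟨n, hn, c, hc', rfl⟩ := AddSubgroup.mem_sup.1 hw
    have h3 : b • c = c := hc' ⟨b, hB hb⟩ (Subgroup.mem_top _)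
    have e : b • (n + c) - (n + c) = b • n - n := by rw [smul_add, h3]; abel
    rw [e]
    exact sub_mem (hN b n hn) hn

end Cfsg.Agent.Omega.NO3b.TheoremL.Ne

end

section


/-!
# THEOREM L (344) → the M-side frame `MX` (#18749, #18319)

`Γ` acts faithfully on `U`; `X ≤ Γ`, `S ∈ Syl₂(X)`, `DatU S V F`, `MBU U B` for the group `X`; `M ≤ Γ` stabilises `V`,
`O₂(X) ≤ M`, `D ⊴ M`, `B ≤ D ≤ X`, `D` centralises `V`, `O₂(M / C_M(V)) = 1`, `B ∩ O₂(X) ≠ 1`.

* `R_le` : `{x ∈ X | [U, x] ≤ F} ≤ O₂(X)`;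
* `mx_of_tight` : `MX M X D B V F x` for every line `x V` which is moved by `B`;
* `exists_mx` : such an `x` exists; `exists_mx_of_two` : with two noncentral `X`-factors instead of `B ∩ O₂(X) ≠ 1`.
-/

set_option autoImplicit false

namespace Cfsg.Agent.Omega.NO3b.Exit.TDat

open Subgroup
open Cfsg (pCore)
open Cfsg.Agent.Omega.FF.Basic
open Cfsg.Agent.Omega.NO3b.Exit.TT (nf cf mem_smul mem_nf smul_mem' quad')
open Cfsg.Agent.Omega.NO3b.TheoremL.Tight (DatU MBU TightAt Tight tight fx_sub)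
open Cfsg.Agent.Omega.NO3b.Exit.Ten (br br_def br_mul br_one br_zero br_conj_smul br_eq_zero smul_eq)
open scoped Pointwise

universe u v

section r

variable {X : Type u} {U : Type v} [Group X] [AddCommGroup U] [DistribMulAction X U]

/-- `{x | [U, x] ≤ F} ≤ O₂(X)` -/
theorem R_le {F : AddSubgroup U} (two : ∀ u : U, u + u = 0) (faith : ∀ x : X, (∀ u : U, x • u = u) → x = 1)
    (Fx : ∀ (x : X), ∀ f ∈ F, x • f = f) {x : X} (hx : ∀ u : U, x • u - u ∈ F) : x ∈ pCore 2 X := by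
  let R : Subgroup X :=
    { carrier := {x | ∀ u : U, br x u ∈ F}
      one_mem' := fun u => by rw [br_one]; exact zero_mem _
      mul_mem' := fun {a b} ha hb u => by
        rw [br_mul]
        exact F.add_mem (F.add_mem (ha _) (hb u)) (ha u)
      inv_mem' := fun {a} ha u => by
        have e : br a⁻¹ u = - (a⁻¹ • br a u) := by
          simp only [br_def, smul_sub, inv_smul_smul]; abel
        rw [e, Fx _ _ (ha u)]
        exact F.neg_mem (ha u) }
  have hR : R.Normal := ⟨fun n hn g u => by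
    have e : u = g • (g⁻¹ • u) := (smul_inv_smul g u).symm
    rw [e, br_conj_smul, Fx g _ (hn _)]
    exact hn _⟩
  have h2 : IsPGroup 2 R := by
    rintro ⟨r, hr⟩
    refine ⟨1, Subtype.ext ?_⟩
    rw [pow_one, pow_two]
    refine faith _ fun u => ?_
    have h1 : br (r * r) u = 0 := by
      rw [br_mul, br_def r (br r u), Fx r _ (hr u), sub_self, zero_add, two]
    exact br_eq_zero.1 h1
  exact Lib.Cores.le_pCore hR h2 (show x ∈ R from hx)

end r

section mx

variable {Γ : Type u} [Group Γ] [Finite Γ] {U : Type v} [AddCommGroup U] [Finite U] [DistribMulAction Γ U]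
  {M X D : Subgroup Γ} {V F : AddSubgroup U} {S : Sylow 2 X} {B : Subgroup X}

/-- THEOREM L gives the M-side frame, for every line which is moved by `B`. -/
theorem mx_of_tight (faith : ∀ y : Γ, (∀ u : U, y • u = u) → y = 1) (h : DatU S V F) (m : MBU U B)
    (hne : B ⊓ pCore 2 X ≠ ⊥) (MV : ∀ m ∈ M, ∀ v ∈ V, m • v ∈ V) (DX : D ≤ X) (BD : B.map X.subtype ≤ D)
    (MD : ∀ m ∈ M, ∀ d ∈ D, m * d * m⁻¹ ∈ D) (DV : ∀ d ∈ D, ∀ v ∈ V, d • v = v)
    (hM : (pCore 2 X).map X.subtype ≤ M) (red : Red M V) {x : X} (hx : ¬ B ≤ nf X (x • V)) :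
    MX M X D (B.map X.subtype) V F (x : Γ) := by
  have t := tight h m
  have ta := t.all x hx
  refine { faith := faith, two := h.two, MV := MV, FV := h.FV, Fx := ?_, ti := ?_, gX := x.2, DX := DX, BD := BD,
           MD := MD, DV := DV, quad := ?_, sup := ?_, inf := ?_, ne := ?_, RM := ?_, red := red }
  · intro y hy f hf
    exact h.Fx ⟨y, hy⟩ f hf
  · intro y hy hyV
    exact h.ti ⟨y, hy⟩ hyV
  · rintro _ ⟨a, ha, rfl⟩ _ ⟨b, hb, rfl⟩ u
    exact quad' h.two m.ea m.ne_bot m.off m.min a ha b hb u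
  · rw [fx_sub]; exact ta.sup
  · rw [fx_sub]; exact ta.inf.le
  · obtain ⟨⟨y, hy⟩, hy1⟩ := Subgroup.ne_bot_iff_exists_ne_one.1 hne
    exact ⟨y, ⟨y, hy.1, rfl⟩, fun h0 => hy1 (Subtype.ext (Subtype.ext h0)), fun u => t.comm y hy u⟩
  · intro y hy hyF
    exact hM ⟨⟨y, hy⟩, R_le h.two h.faith h.Fx hyF, rfl⟩

theorem exists_mx (faith : ∀ y : Γ, (∀ u : U, y • u = u) → y = 1) (h : DatU S V F) (m : MBU U B)
    (hne : B ⊓ pCore 2 X ≠ ⊥) (MV : ∀ m ∈ M, ∀ v ∈ V, m • v ∈ V) (DX : D ≤ X) (BD : B.map X.subtype ≤ D)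
    (MD : ∀ m ∈ M, ∀ d ∈ D, m * d * m⁻¹ ∈ D) (DV : ∀ d ∈ D, ∀ v ∈ V, d • v = v)
    (hM : (pCore 2 X).map X.subtype ≤ M) (red : Red M V) :
    ∃ x ∈ X, MX M X D (B.map X.subtype) V F x := by
  obtain ⟨x, hx⟩ := (tight h m).ex
  exact ⟨x, x.2, mx_of_tight faith h m hne MV DX BD MD DV hM red hx⟩

/-- with 823's `Two` -/
theorem exists_mx_of_two (faith : ∀ y : Γ, (∀ u : U, y • u = u) → y = 1) (h : DatU S V F) (m : MBU U B)
    {N : AddSubgroup U} (hN : ∀ x ∈ X, ∀ v ∈ N, x • v ∈ N)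
    (h1 : ∃ x ∈ X, Odd (orderOf x) ∧ ∃ u : U, x • u - u ∉ N) (h2 : ∃ x ∈ X, Odd (orderOf x) ∧ ∃ v ∈ N, x • v ≠ v)
    (MV : ∀ m ∈ M, ∀ v ∈ V, m • v ∈ V) (DX : D ≤ X) (BD : B.map X.subtype ≤ D)
    (MD : ∀ m ∈ M, ∀ d ∈ D, m * d * m⁻¹ ∈ D) (DV : ∀ d ∈ D, ∀ v ∈ V, d • v = v)
    (hM : (pCore 2 X).map X.subtype ≤ M) (red : Red M V) :
    ∃ x ∈ X, MX M X D (B.map X.subtype) V F x := by
  refine exists_mx faith h m ?_ MV DX BD MD DV hM red
  refine TheoremL.Ne.ne_of_two h m (N := N) (fun x v hv => hN x x.2 v hv) ?_ ?_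
  · obtain ⟨x, hx, ho, u, hu⟩ := h1
    exact ⟨⟨x, hx⟩, by rwa [Subgroup.orderOf_mk], u, hu⟩
  · obtain ⟨x, hx, ho, v, hv, hne⟩ := h2
    exact ⟨⟨x, hx⟩, by rwa [Subgroup.orderOf_mk], v, hv, hne⟩

end mx

end Cfsg.Agent.Omega.NO3b.Exit.TDat

end

section


/-!
# `MX` (957) → `Blk`

* `Sn.inf`, `sn_sbc` : `sbc M Q` is subnormal in `M`, and in every `K` with `sbc M Q ≤ K ≤ M`;
* `blk` : `MX M X D B V F g` together with `S`, `O` gives `Blk`.
-/

set_option autoImplicit false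

namespace Cfsg.Agent.Omega.NO3b.Exit.TBlk

open Subgroup TDat
open Cfsg.Agent.Omega.FF.Basic
open scoped Pointwise

universe u v

theorem Sn.inf {H : Type u} [Group H] {Y K : Subgroup H} (h : Sn Y K) (L : Subgroup H) : Sn (Y ⊓ L) (K ⊓ L) := by
  induction h with
  | refl => exact Sn.refl
  | step _ h1 h2 ih =>
    exact ih.step (inf_le_inf_right _ h1) fun k hk n hn =>
      mem_inf.2 ⟨h2 k hk.1 n hn.1, mul_mem (mul_mem hk.2 hn.2) (inv_mem hk.2)⟩

theorem sn_sbc {H : Type u} [Group H] [Finite H] {M Q : Subgroup H} (hQ : Q ≤ M) : Sn (sbc M Q) M := by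
  obtain ⟨n, h1, -⟩ := exists_stab hQ
  rw [h1]
  have key : ∀ j i, i + j = n → Sn (nst M Q n) (nst M Q i) := by
    intro j
    induction j with
    | zero =>
      intro i hi
      obtain rfl : i = n := by omega
      exact Sn.refl
    | succ j ih =>
      intro i hi
      exact (ih (i + 1) (by omega)).step (nst_succ_le hQ i) fun k hk x hx => nst_norm i hk hx
  exact key n 0 (by omega)

theorem sn_sbc_of_le {H : Type u} [Group H] [Finite H] {M Q K : Subgroup H} (hQ : Q ≤ M) (h1 : sbc M Q ≤ K)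
    (h2 : K ≤ M) : Sn (sbc M Q) K := by
  have h := (sn_sbc hQ).inf K
  rwa [inf_eq_left.2 h1, inf_eq_right.2 h2] at h

/-- The plug. -/
theorem blk {H : Type u} {U : Type v} [Group H] [Finite H] [AddCommGroup U] [DistribMulAction H U]
    {M X D B : Subgroup H} {V F : AddSubgroup U} {g : H} (h : MX M X D B V F g) {S O : Subgroup H} (SM : S ≤ M)
    (S2 : IsPGroup 2 S) (syl : ¬ 2 ∣ S.relIndex M)
    (gen : ∀ W : AddSubgroup U, (∀ m ∈ M, ∀ w ∈ W, m • w ∈ W) → (∀ v ∈ V, (∀ s ∈ S, s • v = v) → v ∈ W) → V ≤ W)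
    (OM : O ≤ M)
    (pr : ∃ m ∈ M, ∀ N : Subgroup H, N ≤ M → (∀ q ∈ FFq M F, m * q * m⁻¹ ∈ N) → (∀ o ∈ O, ∀ n ∈ N, o * n * o⁻¹ ∈ N) →
      (∀ s ∈ S, ∀ n ∈ N, s * n * s⁻¹ ∈ N) → O ≤ N)
    (cz : ∀ z ∈ V, (∀ s ∈ S, s • z = z) → (∀ o ∈ O, o • z = z) → z = 0) :
    Blk (sbc M (FFq M F)) (FFq M F) (ncl (KV M V h.MV) B) V F (g • V) (fx U B) g⁻¹ M (KV M V h.MV) S O where
  dat := h.dat
  KM := fun _ hk => hk.1
  nK := fun _ hm _ hk => h.KV_norm hm hk
  mV := h.MV
  kV := fun _ hk => hk.2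
  kB := fun _ hk _ hb => ncl_conj hk hb
  sn := sn_sbc_of_le MX.FFq_le_M h.sbc_le_KV fun _ hk => hk.1
  SM := SM
  S2 := S2
  syl := syl
  gen := gen
  OM := OM
  pr := pr
  cz := cz

end Cfsg.Agent.Omega.NO3b.Exit.TBlk

end

section


/-!
# THEOREM L with two lines (#22211 (5), helper16, helper344)

`X` finite acts faithfully on the elementary abelian 2-group `U`, `S` is a Sylow 2-subgroup of `X` and `M` is the unique
maximal subgroup of `X` over `S`; `F ≤ L ≤ V ≤ U`, `F` is centralised by `X`, `V` is normalised by `S`, `L` is normalised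
by `M`, `V ∩ V^x ≤ F` for `x ∉ M`, `L ≰ F`.  No elementary abelian subgroup of `S` offends on `V` (`nffV`); no subgroup
`A ≤ S` with `[V, A] ≤ F` offends on `L` (`nffL`) (`DatW S M V L F`).

* `DatW.exists_mbu` : if `U = ⟨V^X⟩` and some `E ≠ 1` offends on `U`, then `MBU U B` for some `B`.
* `DatW.eq` : `MBU U B` implies `V = L`.
-/

set_option autoImplicit false
set_option linter.unusedSectionVars false
set_option linter.dupNamespace false

namespace Cfsg.Agent.Omega.NO3b.TheoremL.TwoLine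

open Cfsg.Agent.Omega.FF.Basic
open Cfsg.Agent.Omega.NO3b.Exit.TT
open Cfsg.Agent.Omega.NO3b.TheoremL.Act (Q)
open Cfsg.Agent.Omega.NO3b.TheoremL.Core1 (Pre Hyp QQ)
open Cfsg.Agent.Omega.NO3b.TheoremL.Core3 (Out core VZ)
open Cfsg.Agent.Omega.NO3b.TheoremL.Tight (MBU fx_sub card_sub mm_sub map_sub)
open Cfsg.Agent.Omega.MinFF (TI)
open Cfsg (pCore)
open scoped Pointwise

section idx

variable {Y : Type*} [Group Y] {U : Type*} [AddCommGroup U] [DistribMulAction Y U]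

/-- two groups inducing the same group on `L` -/
theorem idx {B B' : Subgroup Y} {L : AddSubgroup U} (hB : B ≤ nf Y L) (hB' : B' ≤ nf Y L)
    (h1 : ∀ b ∈ B, ∃ d ∈ B', ∀ l ∈ L, b • l = d • l) (h2 : ∀ d ∈ B', ∃ b ∈ B, ∀ l ∈ L, d • l = b • l) :
    Nat.card B * Nat.card ↥(B' ⊓ cf Y L) = Nat.card B' * Nat.card ↥(B ⊓ cf Y L) := by
  set N := nf Y L with hN
  set C := (cf Y L).subgroupOf N with hC
  have hCn : C.Normal := by
    constructor
    rintro ⟨c, hc⟩ hcC ⟨n, hn⟩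
    rw [hC, Subgroup.mem_subgroupOf] at hcC ⊢
    intro l hl
    show (n * c * n⁻¹) • l = l
    have h3 : n⁻¹ • l ∈ L := nf_smul (N.inv_mem hn) hl
    rw [mul_smul, mul_smul, hcC _ h3, smul_inv_smul]
  have key : ∀ {P P' : Subgroup Y}, P ≤ N → P' ≤ N → (∀ b ∈ P, ∃ d ∈ P', ∀ l ∈ L, b • l = d • l) →
      P.subgroupOf N ≤ P'.subgroupOf N ⊔ C := by
    intro P P' hP hP' h x hx
    obtain ⟨d, hd, hdl⟩ := h x (Subgroup.mem_subgroupOf.1 hx)
    have hdN : d ∈ N := hP' hd
    have e : x = ⟨d, hdN⟩ * (⟨d, hdN⟩⁻¹ * x) := by group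
    rw [e]
    refine mul_mem (Subgroup.mem_sup_left (Subgroup.mem_subgroupOf.2 hd)) (Subgroup.mem_sup_right ?_)
    rw [hC, Subgroup.mem_subgroupOf]
    intro l hl
    show (d⁻¹ * (x : Y)) • l = l
    rw [mul_smul, hdl l hl, inv_smul_smul]
  have h3 : B.subgroupOf N ⊔ C = B'.subgroupOf N ⊔ C :=
    le_antisymm (sup_le (key hB hB' h1) le_sup_right) (sup_le (key hB' hB h2) le_sup_right)
  have h4 : C.relIndex (B.subgroupOf N) = C.relIndex (B'.subgroupOf N) := by
    rw [← Subgroup.relIndex_sup_right, h3, Subgroup.relIndex_sup_right]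
  rw [hC, Subgroup.relIndex_subgroupOf hB, Subgroup.relIndex_subgroupOf hB'] at h4
  have h5 : ∀ P : Subgroup Y, Nat.card ↥(P ⊓ cf Y L) * (cf Y L).relIndex P = Nat.card P := by
    intro P
    have h6 := Subgroup.relIndex_mul_relIndex (⊥ : Subgroup Y) (P ⊓ cf Y L) P bot_le inf_le_left
    rw [Subgroup.relIndex_bot_left, Subgroup.relIndex_bot_left, Subgroup.inf_relIndex_left] at h6
    exact h6
  rw [← h5 B, ← h5 B', h4]
  ring

end idx

/-- The hypotheses. -/
structure DatW {X : Type*} [Group X] {U : Type*} [AddCommGroup U] [DistribMulAction X U] (S : Sylow 2 X)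
    (M : Subgroup X) (V L F : AddSubgroup U) : Prop where
  two : ∀ u : U, u + u = 0
  faith : ∀ x : X, (∀ u : U, x • u = u) → x = 1
  SM : (S : Subgroup X) ≤ M
  ne : M ≠ ⊤
  uniq : ∀ K : Subgroup X, (S : Subgroup X) ≤ K → K ≠ ⊤ → K ≤ M
  SV : (S : Subgroup X) ≤ nf X V
  ML : M ≤ nf X L
  LV : L ≤ V
  FL : F ≤ L
  Fx : ∀ (x : X), ∀ f ∈ F, x • f = f
  ti : ∀ x : X, x ∉ M → V ⊓ x • V ≤ F
  nz : ¬ L ≤ F
  nffV : ∀ A : Subgroup X, A ≤ S → EA A → ¬ A ≤ cf X V →
    Nat.card A * Nat.card ↥(V ⊓ fx U A) < Nat.card V * Nat.card ↥(A ⊓ cf X V)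
  nffL : ∀ A : Subgroup X, A ≤ S → (∀ a ∈ A, ∀ v ∈ V, a • v - v ∈ F) → ¬ A ≤ cf X L →
    Nat.card A * Nat.card ↥(L ⊓ fx U A) < Nat.card L * Nat.card ↥(A ⊓ cf X L)

variable {X : Type*} [Group X] {U : Type*} [AddCommGroup U] [DistribMulAction X U] {S : Sylow 2 X}
  {M : Subgroup X} {V L F : AddSubgroup U} {B : Subgroup X}

/-- conjugating a not-FF inequality -/
theorem conj_lt (x : X) {A : Subgroup X} {W : AddSubgroup U}
    (h1 : Nat.card (cj x⁻¹ A) * Nat.card ↥(W ⊓ fx U (cj x⁻¹ A)) < Nat.card W * Nat.card ↥(cj x⁻¹ A ⊓ cf X W)) :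
    Nat.card A * Nat.card ↥(x • W ⊓ fx U A) < Nat.card W * Nat.card ↥(A ⊓ cf X (x • W)) := by
  rw [card_cj] at h1
  have e1 : Nat.card ↥(W ⊓ fx U (cj x⁻¹ A)) = Nat.card ↥(x • W ⊓ fx U A) := by
    refine (card_smul x fun v => ?_).symm
    constructor
    · rintro ⟨h2, h3⟩
      exact ⟨mem_smul.1 h2, smul_mem_fx_cj h3⟩
    · rintro ⟨h2, h3⟩
      have h3' := mem_fx_cj.1 h3
      rw [inv_inv, smul_inv_smul] at h3'
      exact ⟨mem_smul.2 h2, h3'⟩
  have e2 : Nat.card ↥(cj x⁻¹ A ⊓ cf X W) = Nat.card ↥(A ⊓ cf X (x • W)) := by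
    have e3 : cj x⁻¹ A ⊓ cf X W = cj x⁻¹ (A ⊓ cf X (x • W)) := by
      ext a
      rw [mem_cj, inv_inv, Subgroup.mem_inf, Subgroup.mem_inf, mem_cj, inv_inv, cf_conj]
      have e : x⁻¹ * (x * a * x⁻¹) * x = a := by group
      rw [e]
    rw [e3, card_cj]
  rw [e1, e2] at h1
  exact h1

namespace DatW

variable (h : DatW S M V L F)
include h

theorem F_smul (x : X) : x • F = F := by
  ext w
  rw [mem_smul]
  constructor
  · intro hw
    have := h.Fx x _ hw
    rw [smul_inv_smul] at this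
    rw [this]; exact hw
  · intro hw
    rw [h.Fx x⁻¹ w hw]; exact hw

theorem F_le (x : X) : F ≤ x • L := by
  rw [← h.F_smul x]
  exact AddSubgroup.pointwise_smul_le_pointwise_smul_iff.2 h.FL

theorem L_le (x : X) : x • L ≤ x • V := AddSubgroup.pointwise_smul_le_pointwise_smul_iff.2 h.LV

theorem L_eq {m : X} (hm : m ∈ M) : m • L = L := h.ML hm

/-- (TI) for two lines -/
theorem ti' {x y : X} (hne : x⁻¹ * y ∉ M) : x • V ⊓ y • V ≤ F := by
  intro w hw
  have h2 : x⁻¹ • w ∈ F := by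
    apply h.ti _ hne
    refine ⟨mem_smul.1 hw.1, ?_⟩
    have h3 : y⁻¹ • w ∈ V := mem_smul.1 hw.2
    have e : ((x⁻¹ * y)⁻¹ • x⁻¹ • w : U) = y⁻¹ • w := by
      rw [smul_smul]; congr 1; group
    exact mem_smul.2 (by rw [e]; exact h3)
  have h3 := h.Fx x _ h2
  rw [smul_inv_smul] at h3
  rw [h3]; exact h2

variable [Finite X] [Finite U]

/-- a best offender in `S^x` centralises `V^x`. -/
theorem bo_cent {A : Subgroup X} (hA : BO U A) {x : X} (hx : cj x⁻¹ A ≤ (S : Subgroup X)) : A ≤ cf X (x • V) := by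
  by_contra hne
  have h1 := conj_lt x (h.nffV (cj x⁻¹ A) hx (fun a ha => by
    rw [mem_cj, inv_inv] at ha
    have h2 := hA.ea _ ha
    have e : x * a * x⁻¹ * (x * a * x⁻¹) = x * (a * a) * x⁻¹ := by group
    rw [e] at h2
    have h3 : x⁻¹ * (x * (a * a) * x⁻¹) * x = x⁻¹ * 1 * x := by rw [h2]
    have e2 : x⁻¹ * (x * (a * a) * x⁻¹) * x = a * a := by group
    rw [e2, mul_one, inv_mul_cancel] at h3
    exact h3) (fun h0 => hne (fun a ha => by
      rw [cf_conj]
      have h2 := h0 (mem_cj_of (g := x⁻¹) ha)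
      rwa [inv_inv] at h2)))
  set E := A ⊓ cf X (x • V) with hE
  have h2 := hA.le E inf_le_left
  have h3 : x • V ⊔ fx U A ≤ fx U E := by
    refine sup_le ?_ (fx_anti inf_le_left)
    exact le_cf.1 inf_le_right
  have h4 := card_sup_inf (x • V) (fx U A)
  have h5 := card_le h3
  rw [card_smul'] at h4
  rw [mm, mm] at h2
  have h6 : Nat.card V * Nat.card E ≤ Nat.card A * Nat.card ↥(x • V ⊓ fx U A) := by
    have p : 0 < Nat.card (fx U A) := Nat.card_pos
    refine Nat.le_of_mul_le_mul_right ?_ p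
    calc Nat.card V * Nat.card E * Nat.card (fx U A) = Nat.card E * (Nat.card V * Nat.card (fx U A)) := by ring
      _ = Nat.card E * (Nat.card ↥(x • V ⊔ fx U A) * Nat.card ↥(x • V ⊓ fx U A)) := by rw [h4]
      _ ≤ Nat.card E * (Nat.card (fx U E) * Nat.card ↥(x • V ⊓ fx U A)) :=
        Nat.mul_le_mul_left _ (Nat.mul_le_mul_right _ h5)
      _ = Nat.card E * Nat.card (fx U E) * Nat.card ↥(x • V ⊓ fx U A) := by ring
      _ ≤ Nat.card A * Nat.card (fx U A) * Nat.card ↥(x • V ⊓ fx U A) := Nat.mul_le_mul_right _ h2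
      _ = _ := by ring
  exact absurd h1 (not_lt.2 h6)

theorem core_S (x : X) {A : Subgroup X} (hA : A ≤ pCore 2 X) : cj x⁻¹ A ≤ (S : Subgroup X) := by
  intro a ha
  rw [mem_cj, inv_inv] at ha
  have hn : (pCore 2 X).Normal := Lib.Cores.pCore_normal 2
  have h1 := hn.conj_mem _ (hA ha) x⁻¹
  have e : x⁻¹ * (x * a * x⁻¹) * x⁻¹⁻¹ = a := by group
  rw [e] at h1
  exact Lib.Cores.pCore_le_sylow S h1

/-- **`MBU U B` exists** if some `E ≠ 1` offends on `U = ⟨V^X⟩`. -/
theorem exists_mbu (gen : ∀ K : AddSubgroup U, (∀ x : X, x • V ≤ K) → K = ⊤) {E : Subgroup X} (hE : EA E)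
    (hE0 : E ≠ ⊥) (hoff : Nat.card U ≤ mm U E) : ∃ B : Subgroup X, MBU U B := by
  classical
  let T : Set (Subgroup X) := {B | EA B ∧ B ≠ ⊥}
  obtain ⟨B₁, ⟨h1, h2⟩, hmax⟩ := Set.exists_max_image T (fun B => mm U B) (Set.toFinite T) ⟨E, hE, hE0⟩
  let T' : Set (Subgroup X) := {B | EA B ∧ B ≠ ⊥ ∧ mm U B = mm U B₁}
  obtain ⟨B, ⟨h3, h4, h5⟩, hmin⟩ := Set.exists_min_image T' (fun B => Nat.card B) (Set.toFinite T') ⟨B₁, h1, h2, rfl⟩
  have hoffB : Nat.card U ≤ mm U B := by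
    rw [h5]; exact hoff.trans (hmax E ⟨hE, hE0⟩)
  have hlt : ∀ E' : Subgroup X, E' < B → E' ≠ ⊥ → mm U E' < mm U B := by
    intro E' hE' hE'0
    have h6 := hmax E' ⟨h3.mono hE'.le, hE'0⟩
    refine lt_of_le_of_ne (by rw [h5]; exact h6) fun h7 => ?_
    have h8 := hmin E' ⟨h3.mono hE'.le, hE'0, by rw [h7, h5]⟩
    exact absurd (Subgroup.eq_of_le_of_card_ge hE'.le h8) hE'.ne
  have hbo : BO U B :=
    { ea := h3
      le := fun E' hE' => by
        by_cases h0 : E' = ⊥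
        · rw [h0, mm_bot]; exact hoffB
        · rcases hE'.eq_or_lt with h6 | h6
          · rw [h6]
          · exact (hlt E' h6 h0).le }
  refine ⟨B, h3, fun hcore => h4 ?_, hoffB, hlt⟩
  have h6 : fx U B = ⊤ := gen _ fun x => le_cf.1 (h.bo_cent hbo (h.core_S x hcore))
  rw [Subgroup.eq_bot_iff_forall]
  intro b hb
  refine h.faith b fun u => ?_
  have : u ∈ fx U B := by rw [h6]; trivial
  exact this b hb

/-- an elementary abelian 2-subgroup `P` of `M^y` is contained in `S^{y'}` with `M^{y'} = M^y`, `L^{y'} = L^y`. -/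
theorem exists_line (y : X) {P : Subgroup X} (hP : IsPGroup 2 P) (hPM : P ≤ MulAut.conj y • M) :
    ∃ y' : X, MulAut.conj y' • M = MulAut.conj y • M ∧ P ≤ MulAut.conj y' • (S : Subgroup X) := by
  set N := MulAut.conj y • M with hN
  have hSN : ((y • S : Sylow 2 X) : Subgroup X) ≤ N := by
    rw [Sylow.coe_subgroup_smul, hN]
    exact Subgroup.pointwise_smul_le_pointwise_smul_iff.2 h.SM
  have hP' : IsPGroup 2 (P.subgroupOf N) := hP.comap_of_injective N.subtype N.subtype_injective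
  obtain ⟨g, hg⟩ := MinFF.exists_cj_le hP' ((y • S).subtype hSN)
  refine ⟨(g : X)⁻¹ * y, ?_, ?_⟩
  · rw [map_mul, mul_smul, ← hN]
    exact Subgroup.conj_smul_eq_self_of_mem (N.inv_mem g.2)
  · intro p hp
    have hpN := hPM hp
    have h1 : g * ⟨p, hpN⟩ * g⁻¹ ∈ MulAut.conj g • P.subgroupOf N := by
      rw [MinFF.mem_cj]
      have e : g⁻¹ * (g * ⟨p, hpN⟩ * g⁻¹) * g = ⟨p, hpN⟩ := by group
      rw [e]; exact Subgroup.mem_subgroupOf.2 hp
    have h2 := hg h1
    have h3 : (g : X) * p * (g : X)⁻¹ ∈ ((y • S : Sylow 2 X) : Subgroup X) := h2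
    rw [Sylow.coe_subgroup_smul] at h3
    have h4 := MinFF.mem_cj.1 h3
    rw [MinFF.mem_cj]
    have e : ((g : X)⁻¹ * y)⁻¹ * p * ((g : X)⁻¹ * y) = y⁻¹ * ((g : X) * p * (g : X)⁻¹) * y := by group
    rw [e]; exact h4

/-- THEOREM L for `X₁ = ⟨B, B^x⟩` and the lines `L^{x'}` -/
theorem exists_out (m : MBU U B) :
    ∃ (Y₀ : Subgroup X) (y : X), y • V ≤ fx U (B.subgroupOf Y₀) ∧ y • V ⊓ fx U (⊤ : Subgroup Y₀) ≤ F ∧
      Hyp (B.subgroupOf Y₀) ((MulAut.conj y • M).subgroupOf Y₀) (y • L) := by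
  obtain ⟨x, y₀, hti⟩ := Lift.exists_ti S M h.SM h.ne h.uniq m.ea.isPGroup m.nle
  set Y₀ := B ⊔ MulAut.conj x • B with hY₀
  have hB : B ≤ Y₀ := le_sup_left
  have hBm := map_sub hB
  set A := B.subgroupOf Y₀ with hA
  have faith : ∀ z : Y₀, (∀ u : U, z • u = u) → z = 1 := fun z hz => Subtype.ext (h.faith z fun u => hz u)
  have ea : EA A := fun a ha => Subtype.ext (m.ea _ (Subgroup.mem_subgroupOf.1 ha))
  have off : Nat.card U ≤ mm U A := by rw [← mm_sub, hBm]; exact m.off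
  have min : ∀ E < A, E ≠ ⊥ → mm U E < mm U A := by
    intro E hE hE0
    rw [← mm_sub E, ← mm_sub A, hBm]
    refine m.min _ ?_ ?_
    · rw [← hBm]
      exact lt_of_le_of_ne (Subgroup.map_mono hE.le) fun h0 =>
        hE.ne (Subgroup.map_injective Y₀.subtype_injective h0)
    · intro h0
      exact hE0 ((Subgroup.map_eq_bot_iff_of_injective _ Y₀.subtype_injective).1 h0)
  have hAne : A ≠ ⊥ := by
    intro h0
    apply m.ne_bot
    rw [← hBm, h0, Subgroup.map_bot]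
  have q₀ : Q U A ((MulAut.conj y₀ • M).subgroupOf Y₀) := ⟨h.two, faith, hti, quad' h.two ea hAne off min⟩
  have hO2 := Lib.Cores.pCore_isPGroup (G := Y₀) 2
  have hOn : (pCore 2 Y₀).Normal := Lib.Cores.pCore_normal 2
  have hP2 : IsPGroup 2 ((A ⊔ pCore 2 Y₀ : Subgroup Y₀).map Y₀.subtype) :=
    (IsPGroup.to_sup_of_normal_right ea.isPGroup hO2).map _
  have hPM : (A ⊔ pCore 2 Y₀ : Subgroup Y₀).map Y₀.subtype ≤ MulAut.conj y₀ • M := by
    have h1 : A ⊔ pCore 2 Y₀ ≤ (MulAut.conj y₀ • M).subgroupOf Y₀ := sup_le hti.le q₀.core_le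
    rintro _ ⟨a, ha, rfl⟩
    exact Subgroup.mem_subgroupOf.1 (h1 ha)
  obtain ⟨y, hyM, hyP⟩ := h.exists_line y₀ hP2 hPM
  rw [← hyM] at hti q₀
  have hcjS : ∀ P : Subgroup X, P ≤ MulAut.conj y • (S : Subgroup X) → cj y⁻¹ P ≤ (S : Subgroup X) := by
    intro P hP p hp
    rw [mem_cj, inv_inv] at hp
    have h1 := MinFF.mem_cj.1 (hP hp)
    have e : y⁻¹ * (y * p * y⁻¹) * y = p := by group
    rwa [e] at h1
  have hBS : B ≤ MulAut.conj y • (S : Subgroup X) := by
    refine le_trans ?_ hyP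
    rw [← hBm]
    exact Subgroup.map_mono le_sup_left
  have hcent : B ≤ cf X (y • V) := h.bo_cent m.bo (hcjS B hBS)
  -- `M^y` normalises `L^y`
  have hML : ∀ z : Y₀, z ∈ (MulAut.conj y • M).subgroupOf Y₀ → (z : X) ∈ nf X (y • L) := by
    intro z hz
    rw [nf_conj]
    exact h.ML (MinFF.mem_cj.1 (Subgroup.mem_subgroupOf.1 hz))
  -- `O` normalises `V^y`
  have hOV : ∀ t ∈ pCore 2 Y₀, (t : X) ∈ nf X (y • V) := by
    intro t ht
    rw [nf_conj]
    exact h.SV (MinFF.mem_cj.1 (hyP ⟨t, Subgroup.mem_sup_right ht, rfl⟩))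
  have hVA : y • V ≤ fx U A := by
    intro v hv a ha
    exact hcent (Subgroup.mem_subgroupOf.1 ha) v hv
  have hpre : Pre A ((MulAut.conj y • M).subgroupOf Y₀) (y • L) :=
    ⟨h.two, faith, hti, ea, off, min, fun z hz => hML z hz, (h.L_le y).trans hVA⟩
  -- `V^y ∩ V^{zy} ≤ F`
  have hTI : ∀ z : Y₀, z ∉ (MulAut.conj y • M).subgroupOf Y₀ → y • V ⊓ ((z : X) * y) • V ≤ F := by
    intro z hz
    apply h.ti'
    intro h0
    apply hz
    rw [Subgroup.mem_subgroupOf, MinFF.mem_cj]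
    have e : y⁻¹ * (z : X) * y = y⁻¹ * ((z : X) * y) := by group
    rw [e]; exact h0
  obtain ⟨k, hk⟩ := hti.exists_not_mem
  -- `V^y ∩ Z ≤ F`
  have hVZ : y • V ⊓ fx U (⊤ : Subgroup Y₀) ≤ F := by
    rintro v ⟨hv, hvZ⟩
    refine hTI k hk ⟨hv, ?_⟩
    have h2 : (k : X) • v = v := hvZ k (Subgroup.mem_top k)
    rw [← h2, mul_smul]
    exact smul_mem' hv
  refine ⟨Y₀, y, hVA, hVZ, hpre, ?_, ?_⟩
  · intro B' hB' hne
    -- the group of all `t` which act on `L^y` as an element `δ ∈ O` with `[V^y, δ] ≤ F`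
    have hδL : ∀ δ : X, (∀ v ∈ y • V, δ • v - v ∈ F) → ∀ v ∈ y • L, δ • v ∈ y • L := by
      intro δ hδ v hv
      have h1 := h.F_le y (hδ v (h.L_le y hv))
      have e : δ • v = (δ • v - v) + v := by abel
      rw [e]; exact add_mem h1 hv
    have hdm : ∀ δ ε : X, (∀ v ∈ y • V, δ • v - v ∈ F) → (∀ v ∈ y • V, ε • v - v ∈ F) →
        ∀ v ∈ y • V, (δ * ε) • v - v ∈ F := by
      intro δ ε hδ hε v hv
      have e : (δ * ε) • v - v = (δ • (ε • v - v)) + (δ • v - v) := by rw [mul_smul, smul_sub]; abel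
      rw [e, h.Fx δ _ (hε v hv)]
      exact add_mem (hε v hv) (hδ v hv)
    have hdi : ∀ δ : X, (∀ v ∈ y • V, δ • v - v ∈ F) → ∀ v ∈ y • V, δ⁻¹ • v - v ∈ F := by
      intro δ hδ v hv
      have h1 := hδ v hv
      have h2 := h.Fx δ⁻¹ _ h1
      rw [smul_sub, inv_smul_smul] at h2
      have e : δ⁻¹ • v - v = -(v - δ⁻¹ • v) := by abel
      rw [e, h2]; exact neg_mem h1
    let K₁ : Subgroup Y₀ :=
      { carrier := {t | ∃ δ ∈ pCore 2 Y₀, (∀ v ∈ y • V, (δ : X) • v - v ∈ F) ∧ ∀ v ∈ y • L, (t : X) • v = (δ : X) • v}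
        one_mem' := ⟨1, one_mem _, fun v _ => by
          rw [OneMemClass.coe_one, one_smul, sub_self]; exact zero_mem _, fun v _ => rfl⟩
        mul_mem' := by
          rintro s t ⟨δ, hδ, h1, h2⟩ ⟨ε, hε, h3, h4⟩
          refine ⟨δ * ε, mul_mem hδ hε, hdm _ _ h1 h3, fun v hv => ?_⟩
          rw [Subgroup.coe_mul, Subgroup.coe_mul, mul_smul, mul_smul, h4 v hv, h2 _ (hδL _ h3 v hv)]
        inv_mem' := by
          rintro s ⟨δ, hδ, h1, h2⟩
          refine ⟨δ⁻¹, inv_mem hδ, hdi _ h1, fun v hv => ?_⟩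
          rw [Subgroup.coe_inv, Subgroup.coe_inv, inv_smul_eq_iff, h2 _ (hδL _ (hdi _ h1) v hv), smul_inv_smul] }
    have hK : QQ A ≤ K₁ := by
      rw [QQ, Subgroup.normalClosure, Subgroup.closure_le]
      rintro c hc
      obtain ⟨t, ht, hc⟩ := Group.mem_conjugatesOfSet_iff.1 hc
      obtain ⟨z, rfl⟩ := isConj_iff.1 hc
      by_cases hz : z ∈ (MulAut.conj y • M).subgroupOf Y₀
      · refine ⟨1, one_mem _, fun v _ => by rw [OneMemClass.coe_one, one_smul, sub_self]; exact zero_mem _,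
          fun v hv => ?_⟩
        have h1 : (z : X)⁻¹ • v ∈ y • L := nf_smul (inv_mem (hML z hz)) hv
        have h2 : (t : X) • (z : X)⁻¹ • v = (z : X)⁻¹ • v := hVA (h.L_le y h1) t ht.1
        rw [Subgroup.coe_mul, Subgroup.coe_mul, Subgroup.coe_inv, mul_smul, mul_smul, h2, smul_inv_smul,
          OneMemClass.coe_one, one_smul]
      · have htO : z * t * z⁻¹ ∈ pCore 2 Y₀ := hOn.conj_mem t ht.2 z
        refine ⟨z * t * z⁻¹, htO, fun v hv => ?_, fun v _ => rfl⟩
        apply hVZ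
        have h1 : ((z * t * z⁻¹ : Y₀) : X) • v ∈ y • V := nf_smul (hOV _ htO) hv
        have h2 : ((z * t * z⁻¹ : Y₀) : X) • v - v ∈ y • V := sub_mem h1 hv
        refine ⟨h2, ?_⟩
        refine q₀.inf_le (g := z) hz (hVA h2) ?_
        · intro a ha
          have e : z⁻¹ • (((z * t * z⁻¹ : Y₀) : X) • v - v) = t • (z⁻¹ • v) - z⁻¹ • v := by
            show z⁻¹ • ((z * t * z⁻¹ : Y₀) • v - v) = _
            rw [smul_sub, smul_smul]
            congr 1
            rw [smul_smul]; congr 1; group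
          rw [e]
          exact q₀.quad t ht.1 a ha _
    -- the subgroup `B₂ ≤ O` which induces the group `B'` on `L^y`
    let B₂ : Subgroup X :=
      { carrier := {δ | δ ∈ (pCore 2 Y₀).map Y₀.subtype ∧ (∀ v ∈ y • V, δ • v - v ∈ F) ∧
          ∃ b ∈ B', ∀ v ∈ y • L, δ • v = (b : X) • v}
        one_mem' := ⟨one_mem _, fun v _ => by rw [one_smul, sub_self]; exact zero_mem _, 1, one_mem _, fun v _ => rfl⟩
        mul_mem' := by
          rintro s t ⟨h1, h2, b, hb, h3⟩ ⟨h4, h5, c, hc, h6⟩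
          refine ⟨mul_mem h1 h4, hdm _ _ h2 h5, b * c, mul_mem hb hc, fun v hv => ?_⟩
          have h7 := hδL _ h5 v hv
          rw [mul_smul, h3 _ h7, h6 v hv, Subgroup.coe_mul, mul_smul]
        inv_mem' := by
          rintro s ⟨h1, h2, b, hb, h3⟩
          refine ⟨inv_mem h1, hdi _ h2, b⁻¹, inv_mem hb, fun v hv => ?_⟩
          have h7 := hδL _ (hdi _ h2) v hv
          have h8 := h3 _ h7
          rw [smul_inv_smul] at h8
          rw [Subgroup.coe_inv, eq_inv_smul_iff, ← h8] }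
    have hB₂S : B₂ ≤ MulAut.conj y • (S : Subgroup X) := fun δ hδ =>
      hyP (Subgroup.map_mono le_sup_right hδ.1)
    have memB₂ : ∀ b ∈ B', ∃ δ ∈ B₂, ∀ l ∈ y • L, (b : X) • l = δ • l := by
      intro b hb
      obtain ⟨δ, hδ, h1, h2⟩ := hK (hB' hb)
      exact ⟨δ, ⟨⟨δ, hδ, rfl⟩, h1, b, hb, fun v hv => (h2 v hv).symm⟩, h2⟩
    have hB₂n : B₂ ≤ nf X (y • L) := by
      intro δ hδ
      rw [nf_conj]
      exact (h.SM.trans h.ML) (MinFF.mem_cj.1 (hB₂S hδ))
    have hB'n : B'.map Y₀.subtype ≤ nf X (y • L) := by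
      rintro _ ⟨b, hb, rfl⟩
      exact hML b (q₀.core_le (Core1.Pre.QQ_le (hB' hb)))
    have hi := idx hB'n hB₂n (by
      rintro _ ⟨b, hb, rfl⟩
      exact memB₂ b hb) (by
      rintro δ ⟨-, -, b, hb, h3⟩
      exact ⟨b, ⟨b, hb, rfl⟩, h3⟩)
    have hfx : y • L ⊓ fx U B₂ = y • L ⊓ fx U B' := by
      ext v
      constructor
      · rintro ⟨hv, h1⟩
        refine ⟨hv, fun b hb => ?_⟩
        obtain ⟨δ, hδ, h2⟩ := memB₂ b hb
        show (b : X) • v = v
        rw [h2 v hv]; exact h1 δ hδ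
      · rintro ⟨hv, h1⟩
        refine ⟨hv, fun δ hδ => ?_⟩
        obtain ⟨-, -, b, hb, h3⟩ := hδ
        rw [h3 v hv]; exact h1 b hb
    have hcf : Nat.card ↥(B'.map Y₀.subtype ⊓ cf X (y • L)) = Nat.card ↥(B' ⊓ cf Y₀ (y • L)) := by
      rw [← card_sub (Y₀ := Y₀)]
      congr 2
      ext z
      constructor
      · rintro ⟨⟨a, ha, rfl⟩, hz⟩
        exact ⟨a, ⟨ha, hz⟩, rfl⟩
      · rintro ⟨a, ⟨ha, hz⟩, rfl⟩
        exact ⟨⟨a, ha, rfl⟩, hz⟩
    rw [card_sub, hcf] at hi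
    have hne₂ : ¬ cj y⁻¹ B₂ ≤ cf X L := by
      intro h0
      apply hne
      intro b hb v hv
      obtain ⟨δ, hδ, h2⟩ := memB₂ b hb
      show (b : X) • v = v
      rw [h2 v hv]
      have h3 := h0 (mem_cj_of (g := y⁻¹) hδ)
      rw [inv_inv, ← cf_conj] at h3
      exact h3 v hv
    have h1 := conj_lt y (h.nffL (cj y⁻¹ B₂) (hcjS _ hB₂S) (by
      intro a ha v hv
      rw [mem_cj, inv_inv] at ha
      have h2 := ha.2.1 (y • v) (smul_mem' hv)
      have h3 := h.Fx y⁻¹ _ h2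
      have e : y⁻¹ • ((y * a * y⁻¹) • y • v - y • v) = a • v - v := by
        rw [smul_sub, inv_smul_smul, smul_smul, smul_smul]
        congr 2; group
      rw [← e, h3]; exact h2) hne₂)
    rw [hfx] at h1
    rw [card_smul']
    have p₁ : 0 < Nat.card ↥(B₂ ⊓ cf X (y • L)) := Nat.card_pos
    have p₂ : 0 < Nat.card ↥(B' ⊓ cf Y₀ (y • L)) := Nat.card_pos
    refine Nat.lt_of_mul_lt_mul_right (a := Nat.card ↥(B₂ ⊓ cf X (y • L))) ?_
    calc Nat.card B' * Nat.card ↥(y • L ⊓ fx U B') * Nat.card ↥(B₂ ⊓ cf X (y • L))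
        = (Nat.card B' * Nat.card ↥(B₂ ⊓ cf X (y • L))) * Nat.card ↥(y • L ⊓ fx U B') := by ring
      _ = Nat.card B₂ * Nat.card ↥(y • L ⊓ fx U B') * Nat.card ↥(B' ⊓ cf Y₀ (y • L)) := by rw [hi]; ring
      _ < Nat.card L * Nat.card ↥(B₂ ⊓ cf X (y • L)) * Nat.card ↥(B' ⊓ cf Y₀ (y • L)) :=
        Nat.mul_lt_mul_of_pos_right h1 p₂
      _ = _ := by ring
  · intro h0
    apply h.nz
    intro l hl
    have h1 : y • l ∈ y • L := smul_mem' hl
    have h2 := hVZ ⟨h.L_le y h1, h0 h1⟩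
    have h3 := h.Fx y⁻¹ _ h2
    rw [inv_smul_smul] at h3
    rw [h3]; exact h2

/-- **`V = L`** -/
theorem eq (m : MBU U B) : V = L := by
  obtain ⟨Y₀, y, hVA, hVZ, hy⟩ := h.exists_out m
  have o := core hy
  refine le_antisymm ?_ h.LV
  rw [← AddSubgroup.pointwise_smul_le_pointwise_smul_iff (a := y)]
  intro v hv
  have h1 := hVA hv
  rw [o.C_eq] at h1
  obtain ⟨l, hl, z, hz, rfl⟩ := AddSubgroup.mem_sup.1 h1
  have h2 : l + z - l ∈ y • V := sub_mem hv (h.L_le y hl)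
  rw [add_sub_cancel_left] at h2
  exact add_mem hl (h.F_le y (hVZ ⟨h2, hz⟩))

end DatW

end Cfsg.Agent.Omega.NO3b.TheoremL.TwoLine

end

end
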